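import Mathlib
import Cfsg.Agent.H526.ObComp
import Cfsg.Agent.H952.RcSp
import Cfsg.Agent.H454.SpExt
import Cfsg.Agent.QTKE.Iso
import Cfsg.Agent.LieClassical.FieldTransfer
import Cfsg.Agent.S0270
import Cfsg.Agent.SmallSimple.S1000.PSLFacts

/-!
# S5004: `PSp_2m(q)`, `q` odd, has more than one 2-block (helper387, for helper526)

`V = A ⊥ W`, `A` a hyperbolic plane, `x = 1` on `W` and of order four on `A`: an element which commutes with `x`
modulo the centre commutes with `x`, stabilises `W` and normalises `Sp(W)`.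
-/

set_option autoImplicit false
set_option linter.unusedSectionVars false

namespace Cfsg.Agent.H387.NbPsp

open Subgroup Cfsg Cfsg.Agent.H526.OB Cfsg.Agent.H952.Rc
open Cfsg.Agent.BpCl (Iso mem_Iso exists_coords nonempty_symp)
open Cfsg.Agent.ClassicalGeometry.SympBasic
open Cfsg.Agent.LieClassical.OrthFinite (quotientCenterCongr)

universe u v

section Main

variable {F : Type u} {V : Type v} [Field F] [AddCommGroup V] [Module F V] {B : LinearMap.BilinForm F V}

/-- order four on the plane `⟨e, f⟩`, trivial on its complement -/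
def quart (B : LinearMap.BilinForm F V) (e f : V) (he : B e e = 0) (hf : B f f = 0) (hef : B e f = 1) : V ≃ₗ[F] V where
  toFun v := v + B v f • (f - e) - B e v • (f + e)
  invFun v := v - B v f • (e + f) + B e v • (e - f)
  map_add' v w := by
    simp only [map_add, LinearMap.add_apply, add_smul]
    abel
  map_smul' a v := by
    simp only [map_smul, LinearMap.smul_apply, smul_eq_mul, RingHom.id_apply, mul_smul, smul_add, smul_sub]
  left_inv v := by
    have h1 : B (v + B v f • (f - e) - B e v • (f + e)) f = - B e v := by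
      simp only [map_add, map_sub, map_smul, LinearMap.add_apply, LinearMap.sub_apply, LinearMap.smul_apply,
        smul_eq_mul, hf, hef]
      ring
    have h2 : B e (v + B v f • (f - e) - B e v • (f + e)) = B v f := by
      simp only [map_add, map_sub, map_smul, smul_eq_mul, he, hef]
      ring
    change (v + B v f • (f - e) - B e v • (f + e)) - B (v + B v f • (f - e) - B e v • (f + e)) f • (e + f) +
      B e (v + B v f • (f - e) - B e v • (f + e)) • (e - f) = v
    rw [h1, h2]
    module
  right_inv v := by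
    have h1 : B (v - B v f • (e + f) + B e v • (e - f)) f = B e v := by
      simp only [map_add, map_sub, map_smul, LinearMap.add_apply, LinearMap.sub_apply, LinearMap.smul_apply,
        smul_eq_mul, hf, hef]
      ring
    have h2 : B e (v - B v f • (e + f) + B e v • (e - f)) = - B v f := by
      simp only [map_add, map_sub, map_smul, smul_eq_mul, he, hef]
      ring
    change (v - B v f • (e + f) + B e v • (e - f)) + B (v - B v f • (e + f) + B e v • (e - f)) f • (f - e) -
      B e (v - B v f • (e + f) + B e v • (e - f)) • (f + e) = v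
    rw [h1, h2]
    module

theorem quart_apply {e f : V} (he : B e e = 0) (hf : B f f = 0) (hef : B e f = 1) (v : V) :
    quart B e f he hf hef v = v + B v f • (f - e) - B e v • (f + e) := rfl

variable {e f : V}

theorem quart_left (hA : B.IsAlt) (hef : B e f = 1) (v : V) :
    B (quart B e f (hA e) (hA f) hef v) f = - B e v := by
  rw [quart_apply]
  simp only [map_add, map_sub, map_smul, LinearMap.add_apply, LinearMap.sub_apply, LinearMap.smul_apply,
        smul_eq_mul, hA f, hef]
  ring

theorem quart_right (hA : B.IsAlt) (hef : B e f = 1) (v : V) :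
    B e (quart B e f (hA e) (hA f) hef v) = B v f := by
  rw [quart_apply]
  simp only [map_add, map_sub, map_smul, smul_eq_mul, hA e, hef]
  ring

theorem quart_mem (hA : B.IsAlt) (hef : B e f = 1) : quart B e f (hA e) (hA f) hef ∈ Iso (fun u v => B u v) := by
  intro u v
  change B (quart B e f (hA e) (hA f) hef u) (quart B e f (hA e) (hA f) hef v) = B u v
  rw [quart_apply, quart_apply]
  simp only [map_add, map_sub, map_smul, LinearMap.add_apply, LinearMap.sub_apply, LinearMap.smul_apply,
        smul_eq_mul, hA e, hA f, hef]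
  rw [swap hA f e, hef, swap hA f v, swap hA u e]
  ring

theorem quart_fix (hA : B.IsAlt) (hef : B e f = 1) (h2 : (2 : F) ≠ 0) (v : V) :
    quart B e f (hA e) (hA f) hef v = v ↔ B v f = 0 ∧ B e v = 0 := by
  constructor
  · intro h
    have h1 := quart_left hA hef v
    have h3 := quart_right hA hef v
    rw [h] at h1 h3
    have h4 : (2 : F) * B v f = 0 := by linear_combination h1 - h3
    have h5 := (mul_eq_zero.1 h4).resolve_left h2
    exact ⟨h5, by rw [h3, h5]⟩
  · rintro ⟨h1, h3⟩
    rw [quart_apply, h1, h3, zero_smul, zero_smul, add_zero, sub_zero]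

theorem quart_neg (hA : B.IsAlt) (hef : B e f = 1) (h2 : (2 : F) ≠ 0) {v : V}
    (h : quart B e f (hA e) (hA f) hef v = -v) : v = 0 := by
  have h1 := quart_left hA hef v
  have h3 := quart_right hA hef v
  rw [h, map_neg] at h1 h3
  rw [LinearMap.neg_apply] at h1
  have h4 : (2 : F) * B v f = 0 := by linear_combination -h1 - h3
  have h5 := (mul_eq_zero.1 h4).resolve_left h2
  have h6 : B e v = 0 := by
    have : B v f = B e v := neg_injective h1
    rw [← this, h5]
  rw [quart_apply, h5, h6, zero_smul, zero_smul, add_zero, sub_zero] at h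
  have h7 : (2 : F) • v = 0 := by
    rw [two_smul]
    nth_rewrite 1 [h]
    exact neg_add_cancel v
  exact (smul_eq_zero.1 h7).resolve_left h2

theorem quart_four (hA : B.IsAlt) (hef : B e f = 1) : quart B e f (hA e) (hA f) hef ^ 4 = 1 := by
  apply LinearEquiv.ext
  intro v
  set x := quart B e f (hA e) (hA f) hef with hx
  have h1 : ∀ v, x (x v) = v - (2 : F) • (B v f • e + B e v • f) := by
    intro v
    conv_lhs => rw [hx, quart_apply]
    rw [quart_left, quart_right, quart_apply]
    module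
  change x (x (x (x v))) = v
  have h2 : B (x (x v)) f = - B v f := by
    rw [hx, quart_left, quart_right]
  have h3 : B e (x (x v)) = - B e v := by
    rw [hx, quart_right, quart_left]
  rw [h1, h2, h3, h1]
  module

/-- the plane -/
def pl (F : Type u) {V : Type v} [Field F] [AddCommGroup V] [Module F V] (e f : V) : Submodule F V :=
  Submodule.span F {e, f}

theorem mem_orth_pl (hA : B.IsAlt) (v : V) : v ∈ B.orthogonal (pl F e f) ↔ B v f = 0 ∧ B e v = 0 := by
  rw [LinearMap.BilinForm.mem_orthogonal_iff]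
  constructor
  · intro h
    refine ⟨?_, h e (Submodule.subset_span (by simp))⟩
    rw [swap hA, show B f v = 0 from h f (Submodule.subset_span (by simp)), neg_zero]
  · rintro ⟨h1, h2⟩ n hn
    obtain ⟨a, b, rfl⟩ := Submodule.mem_span_pair.1 hn
    change B (a • e + b • f) v = 0
    rw [map_add, map_smul, map_smul, LinearMap.add_apply, LinearMap.smul_apply, LinearMap.smul_apply, h2,
      swap hA f v, h1, neg_zero, smul_zero, smul_zero, add_zero]

theorem isCompl_pl (hA : B.IsAlt) (hef : B e f = 1) : IsCompl (pl F e f) (B.orthogonal (pl F e f)) := by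
  constructor
  · rw [Submodule.disjoint_def]
    intro v hv hv'
    obtain ⟨a, b, rfl⟩ := Submodule.mem_span_pair.1 hv
    obtain ⟨h1, h2⟩ := (mem_orth_pl hA _).1 hv'
    rw [map_add, map_smul, map_smul, LinearMap.add_apply, LinearMap.smul_apply, LinearMap.smul_apply, hef, hA f,
      smul_zero, add_zero, smul_eq_mul, mul_one] at h1
    rw [map_add, map_smul, map_smul, hef, hA e, smul_zero, zero_add, smul_eq_mul, mul_one] at h2
    rw [h1, h2, zero_smul, zero_smul, add_zero]
  · rw [codisjoint_iff, eq_top_iff]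
    intro v _
    have h1 : B v f • e + B e v • f ∈ pl F e f := Submodule.mem_span_pair.2 ⟨_, _, rfl⟩
    have h2 : v - (B v f • e + B e v • f) ∈ B.orthogonal (pl F e f) := by
      rw [mem_orth_pl hA]
      constructor
      · simp only [map_add, map_sub, map_smul, LinearMap.add_apply, LinearMap.sub_apply, LinearMap.smul_apply,
          smul_eq_mul, hA f, hef]
        ring
      · simp only [map_add, map_sub, map_smul, smul_eq_mul, hA e, hef]
        ring
    have h3 := Submodule.add_mem_sup h1 h2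
    rwa [add_sub_cancel] at h3

theorem finrank_pl (hA : B.IsAlt) (hef : B e f = 1) : Module.finrank F (pl F e f) = 2 := by
  have hl : LinearIndependent F ![e, f] := by
    rw [LinearIndependent.pair_iff]
    intro a b h
    have h1 : B (a • e + b • f) f = 0 := by rw [h, map_zero, LinearMap.zero_apply]
    have h2 : B e (a • e + b • f) = 0 := by rw [h, map_zero]
    rw [map_add, map_smul, map_smul, LinearMap.add_apply, LinearMap.smul_apply, LinearMap.smul_apply, hef, hA f,
      smul_zero, add_zero, smul_eq_mul, mul_one] at h1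
    rw [map_add, map_smul, map_smul, hef, hA e, smul_zero, zero_add, smul_eq_mul, mul_one] at h2
    exact ⟨h1, h2⟩
  have h1 := finrank_span_eq_card hl
  rw [Matrix.range_cons, Matrix.range_cons, Matrix.range_empty, Set.union_empty, Set.singleton_union] at h1
  rw [pl, h1, Fintype.card_fin]

/-- `Sp(W)` -/
theorem nonempty_fixW [FiniteDimensional F V] (hA : B.IsAlt) (hnd : ∀ u, (∀ v, B u v = 0) → u = 0)
    {A W : Submodule F V} (hc : IsCompl A W) (hAW : ∀ a ∈ A, ∀ w ∈ W, B a w = 0) {n : ℕ}
    (hn : Module.finrank F W = 2 * n) :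
    Nonempty (↥(Matrix.symplecticGroup (Fin n) F) ≃* ↥(FixW (Iso (fun u v => B u v)) A W)) := by
  set Γ := Iso (fun u v => B u v) with hΓd
  have hΓ : ∀ h : V ≃ₗ[F] V, h ∈ Γ ↔ ∀ u v, B (h u) (h v) = B u v := fun _ => Iff.rfl
  have hWA : ∀ w ∈ W, ∀ a ∈ A, B w a = 0 := fun w hw a ha => by rw [swap hA, hAW a ha w hw, neg_zero]
  let B' : LinearMap.BilinForm F W := B.restrict W
  have hB' : ∀ u v : W, B' u v = B u v := fun _ _ => rfl
  have hA' : B'.IsAlt := fun u => hA u
  have hnd' : ∀ u, (∀ v, B' u v = 0) → u = 0 := by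
    intro u hu
    apply Subtype.ext
    apply hnd
    intro v
    obtain ⟨s, hs, t, ht, rfl⟩ := Submodule.mem_sup.1
      (show v ∈ A ⊔ W by rw [hc.sup_eq_top]; exact Submodule.mem_top)
    rw [map_add, hWA u u.2 s hs, zero_add]
    exact hu ⟨t, ht⟩
  have hr : (resW Γ A W).range = Iso (fun u v : W => B' u v) := by
    apply le_antisymm
    · rintro _ ⟨h, rfl⟩ u v
      exact (hΓ h.1.1).1 h.1.2 u v
    · intro T hT
      obtain ⟨h, h1, h2⟩ := exists_ext hc T
      refine mem_range_resW hc ?_ h1 h2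
      rw [hΓ]
      intro v v'
      obtain ⟨s, hs, t, ht, rfl⟩ := Submodule.mem_sup.1
        (show v ∈ A ⊔ W by rw [hc.sup_eq_top]; exact Submodule.mem_top)
      obtain ⟨s', hs', t', ht', rfl⟩ := Submodule.mem_sup.1
        (show v' ∈ A ⊔ W by rw [hc.sup_eq_top]; exact Submodule.mem_top)
      have h3 : h t = T ⟨t, ht⟩ := h2 ⟨t, ht⟩
      have h4 : h t' = T ⟨t', ht'⟩ := h2 ⟨t', ht'⟩
      have h5 : B (T ⟨t, ht⟩ : V) (T ⟨t', ht'⟩ : V) = B t t' := hT ⟨t, ht⟩ ⟨t', ht'⟩
      simp only [map_add, LinearMap.add_apply]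
      rw [h1 s hs, h1 s' hs', h3, h4, h5, hAW s hs _ (T ⟨t', ht'⟩).2, hWA _ (T ⟨t, ht⟩).2 s' hs', hAW s hs t' ht',
        hWA t ht s' hs']
  obtain ⟨k, e, he⟩ := exists_coords hA' hnd'
  have hk : k = n := by
    have h1 := e.finrank_eq
    rw [hn, Module.finrank_fintype_fun_eq_card, Fintype.card_sum, Fintype.card_fin] at h1
    omega
  subst hk
  obtain ⟨f⟩ := nonempty_symp e he
  exact ⟨f.trans ((MulEquiv.subgroupCongr hr).symm.trans (MonoidHom.ofInjective (resW_injective hc)).symm)⟩

theorem eq_one_of_center_fix {Γ : Subgroup (V ≃ₗ[F] V)} (hA : B.IsAlt) (hnd : ∀ u, (∀ v, B u v = 0) → u = 0)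
    (hΓ : ∀ h : V ≃ₗ[F] V, h ∈ Γ ↔ ∀ u v, B (h u) (h v) = B u v) {z : ↥Γ} (hz : z ∈ center ↥Γ) {w : V} (hw : w ≠ 0)
    (hzw : z.1 w = w) : z = 1 := by
  apply Subtype.ext
  apply LinearEquiv.ext
  intro u
  change z.1 u = u
  obtain ⟨c, hc⟩ := center_scalar_sp hA hnd hΓ hz u
  obtain ⟨d, hd⟩ := center_scalar_sp hA hnd hΓ hz (u + w)
  rw [map_add, hc, hzw] at hd
  have h1 : (c - d) • u = (d - 1) • w := by
    have : c • u + w - d • (u + w) = 0 := by rw [hd, sub_self]
    rw [← sub_eq_zero, ← this]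
    module
  by_cases hcd : c = d
  · rw [hcd, sub_self, zero_smul] at h1
    have h2 : d = 1 := sub_eq_zero.1 ((smul_eq_zero.1 h1.symm).resolve_right hw)
    rw [hc, hcd, h2, one_smul]
  · have h2 : c - d ≠ 0 := sub_ne_zero.2 hcd
    have h3 : u = ((c - d)⁻¹ * (d - 1)) • w := by rw [mul_smul, ← h1, smul_smul, inv_mul_cancel₀ h2, one_smul]
    rw [h3, map_smul, hzw]

/-- **the step** -/
theorem nb_gamma [Finite F] [FiniteDimensional F V] (hA : B.IsAlt) (hnd : ∀ u, (∀ v, B u v = 0) → u = 0)
    (h2 : (2 : F) ≠ 0) {n : ℕ} (hn : 1 ≤ n) (hdim : Module.finrank F V = 2 * (n + 1))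
    (hnb : NB (PSp n F)) : NB (↥(Iso (fun u v => B u v)) ⧸ center ↥(Iso (fun u v => B u v))) := by
  have hVf : Finite V := Module.finite_of_finite F
  have hf0 : Finite (V ≃ₗ[F] V) := Finite.of_injective (fun h : V ≃ₗ[F] V => (h : V → V)) DFunLike.coe_injective
  set Γ := Iso (fun u v => B u v) with hΓd
  have hΓ : ∀ h : V ≃ₗ[F] V, h ∈ Γ ↔ ∀ u v, B (h u) (h v) = B u v := fun _ => Iff.rfl
  have hnt : Nontrivial V := by
    apply Module.nontrivial_of_finrank_pos (R := F)
    omega
  -- the centre has exponent two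
  have hz2 : ∀ z ∈ center ↥Γ, z ^ 2 = 1 := by
    intro z hz
    obtain ⟨k, e, he⟩ := exists_coords hA hnd
    obtain ⟨g⟩ := nonempty_symp e he
    have h3 : g.symm z ∈ center ↥(Matrix.symplecticGroup (Fin k) F) := by
      rw [mem_center_iff]
      intro y
      apply g.injective
      rw [map_mul, map_mul, g.apply_symm_apply]
      exact mem_center_iff.1 hz _
    have h4 := sq_center h3
    rw [← map_pow] at h4
    have h5 := congrArg g h4
    rwa [g.apply_symm_apply, map_one] at h5
  -- a hyperbolic pair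
  obtain ⟨e, he0⟩ := exists_ne (0 : V)
  obtain ⟨f, hef⟩ : ∃ f, B e f = 1 := by
    obtain ⟨w, hw⟩ := exists_ne_sp hA hnd he0
    rw [swap hA] at hw
    refine ⟨(B e w)⁻¹ • w, ?_⟩
    rw [map_smul, smul_eq_mul]
    exact inv_mul_cancel₀ (fun h => hw (by rw [h, neg_zero]))
  set x := quart B e f (hA e) (hA f) hef with hxd
  have hxΓ : x ∈ Γ := quart_mem hA hef
  let X : ↥Γ := ⟨x, hxΓ⟩
  set A := pl F e f with hAd
  set W := B.orthogonal A with hWd
  have hc : IsCompl A W := isCompl_pl hA hef
  have hAW : ∀ a ∈ A, ∀ w ∈ W, B a w = 0 := fun a ha w hw => hw a ha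
  have hmW : ∀ v, v ∈ W ↔ B v f = 0 ∧ B e v = 0 := fun v => mem_orth_pl hA v
  have hdW : Module.finrank F W = 2 * n := by
    have h1 := Submodule.finrank_add_eq_of_isCompl hc
    rw [finrank_pl hA hef, hdim] at h1
    omega
  have hWx : ∀ v, v ∈ W ↔ x v = v := fun v => by rw [hmW, hxd, quart_fix hA hef h2]
  have hxA : ∀ v ∈ A, x v ∈ A := by
    intro v hv
    obtain ⟨a, b, rfl⟩ := Submodule.mem_span_pair.1 hv
    rw [hxd, quart_apply]
    have he : e ∈ A := Submodule.subset_span (by simp)
    have hf : f ∈ A := Submodule.subset_span (by simp)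
    exact A.sub_mem (A.add_mem hv (A.smul_mem _ (A.sub_mem hf he))) (A.smul_mem _ (A.add_mem hf he))
  set π := QuotientGroup.mk' (center ↥Γ) with hπ
  obtain ⟨w₀, hw₀, hw₀0⟩ : ∃ w ∈ W, w ≠ 0 := by
    apply Submodule.exists_mem_ne_zero_of_ne_bot
    intro h
    rw [h, finrank_bot] at hdW
    omega
  -- the centralizer of `x` modulo the centre
  have hcent : ∀ g : ↥Γ, π g * π X = π X * π g → ∀ v, g.1 (x v) = x (g.1 v) := by
    intro g hg
    rw [← map_mul, ← map_mul] at hg
    have h3 : (X * g)⁻¹ * (g * X) ∈ center ↥Γ := QuotientGroup.eq.1 hg.symm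
    set z := (X * g)⁻¹ * (g * X) with hz
    have h4 : g * X = X * g * z := by rw [hz]; group
    have h5 : ∀ v, g.1 (x v) = x (g.1 (z.1 v)) := fun v => LinearEquiv.congr_fun (congrArg Subtype.val h4) v
    have h6 : z = 1 := by
      obtain ⟨c, hcz⟩ := center_scalar_sp hA hnd hΓ h3 w₀
      have h7 := h5 w₀
      rw [(hWx w₀).1 hw₀, hcz, map_smul, map_smul] at h7
      have h8 : c ^ 2 = 1 := by
        have h9 := hz2 z h3
        have h10 : z.1 (z.1 w₀) = w₀ := by
          have := LinearEquiv.congr_fun (congrArg Subtype.val h9) w₀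
          rw [pow_two] at this
          exact this
        rw [hcz, map_smul, hcz, smul_smul] at h10
        have h11 : (c * c - 1) • w₀ = 0 := by rw [sub_smul, h10, one_smul, sub_self]
        rw [pow_two]
        exact sub_eq_zero.1 ((smul_eq_zero.1 h11).resolve_right hw₀0)
      have hg0 : g.1 w₀ ≠ 0 := fun h => hw₀0 (g.1.map_eq_zero_iff.1 h)
      have hc1 : c = 1 := by
        rcases mul_self_eq_one_iff.1 (by rwa [← pow_two] : c * c = 1) with h9 | h9
        · exact h9
        · exfalso
          apply hg0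
          apply quart_neg hA hef h2
          rw [h9, neg_smul, one_smul] at h7
          have h10 := congrArg Neg.neg h7
          rw [neg_neg] at h10
          exact h10.symm
      rw [hc1, one_smul] at hcz
      exact eq_one_of_center_fix hA hnd hΓ h3 hw₀0 hcz
    intro v
    rw [h5, h6]
    rfl
  -- the subgroup
  let K : Subgroup (↥Γ ⧸ center ↥Γ) := (FixW Γ A W).map π
  have hnbK : NB K := by
    obtain ⟨φ⟩ := nonempty_fixW hA hnd hc hAW hdW
    have h3 : Function.Injective (π.comp (FixW Γ A W).subtype) := by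
      rw [← MonoidHom.ker_eq_bot_iff, eq_bot_iff]
      intro h hh
      have h4 : (h : ↥Γ) ∈ center ↥Γ := (QuotientGroup.eq_one_iff _).1 (MonoidHom.mem_ker.1 hh)
      rw [mem_bot]
      apply Subtype.ext
      exact eq_one_of_center_fix hA hnd hΓ h4 he0 (h.2.1 e (Submodule.subset_span (by simp)))
    have h4 : (π.comp (FixW Γ A W).subtype).range = K := by
      rw [MonoidHom.range_comp, range_subtype]
    have e1 : ↥(Matrix.symplecticGroup (Fin n) F) ≃* K :=
      (φ.trans (MonoidHom.ofInjective h3)).trans (MulEquiv.subgroupCongr h4)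
    refine NB.iso e1 ?_
    refine NB.of_surjective (QuotientGroup.mk' (center ↥(Matrix.symplecticGroup (Fin n) F)))
      (QuotientGroup.mk'_surjective _) ?_ hnb
    rw [QuotientGroup.ker_mk']
  have hmem : ∀ c ∈ centralizer ((Subgroup.zpowers (π X) : Subgroup (↥Γ ⧸ center ↥Γ)) : Set (↥Γ ⧸ center ↥Γ)),
      c * π X = π X * c := fun c hc => (mem_centralizer_iff.1 hc _ (mem_zpowers _)).symm
  refine NB.of_simple_le (Subgroup.zpowers (π X)) ?_ K ?_ ?_ hnbK
  · have h3 : (π X) ^ 2 ^ 2 = 1 := by
      rw [← map_pow]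
      have : X ^ 2 ^ 2 = 1 := Subtype.ext (quart_four hA hef)
      rw [this, map_one]
    rintro ⟨y, hy⟩
    obtain ⟨i, rfl⟩ := Subgroup.mem_zpowers_iff.1 hy
    refine ⟨2, Subtype.ext ?_⟩
    change ((π X) ^ i) ^ 2 ^ 2 = 1
    rw [← zpow_natCast, ← zpow_mul, mul_comm, zpow_mul, zpow_natCast, h3, one_zpow]
  · rintro _ ⟨k, hk, rfl⟩
    rw [mem_centralizer_iff]
    have h3 : X * k = k * X := by
      apply Subtype.ext
      apply LinearEquiv.ext
      intro v
      refine ext_of_isCompl hc (a := (X * k).1.toLinearMap) (b := (k * X).1.toLinearMap) ?_ ?_ v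
      · intro w hw
        change x (k.1 w) = k.1 (x w)
        rw [hk.1 w hw, hk.1 _ (hxA w hw)]
      · intro w hw
        change x (k.1 w) = k.1 (x w)
        rw [(hWx w).1 hw]
        exact (hWx _).1 ((hk.2 w).2 hw)
    have h4 : Commute (π X) (π k) := by
      change π X * π k = π k * π X
      rw [← map_mul, h3, map_mul]
    rintro y hy
    obtain ⟨i, rfl⟩ := Subgroup.mem_zpowers_iff.1 hy
    exact (h4.zpow_left i).eq
  · rintro c hc' _ ⟨k, hk, rfl⟩
    obtain ⟨g, rfl⟩ := QuotientGroup.mk'_surjective (center ↥Γ) c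
    have h3 := hcent g (hmem _ hc')
    have hgW : ∀ v, g.1 v ∈ W ↔ v ∈ W := by
      intro v
      rw [hWx, hWx, ← h3, g.1.injective.eq_iff]
    have hgA : ∀ v ∈ A, (g⁻¹).1 v ∈ A := by
      intro v hv
      obtain ⟨a, ha, w, hw, haw⟩ := Submodule.mem_sup.1
        (show (g⁻¹).1 v ∈ A ⊔ W by rw [hc.sup_eq_top]; exact Submodule.mem_top)
      have hw0 : w = 0 := by
        apply hnd
        intro u
        obtain ⟨s, hs, t, ht, rfl⟩ := Submodule.mem_sup.1
          (show u ∈ A ⊔ W by rw [hc.sup_eq_top]; exact Submodule.mem_top)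
        have h4 : B ((g⁻¹).1 v) t = 0 := by
          rw [← (hΓ g.1).1 g.2]
          have : g.1 ((g⁻¹).1 v) = v := g.1.apply_symm_apply v
          rw [this]
          exact hAW v hv _ ((hgW t).2 ht)
        rw [map_add, swap hA w s, hAW s hs w hw, neg_zero, zero_add]
        rw [← haw, map_add, LinearMap.add_apply, hAW a ha t ht, zero_add] at h4
        exact h4
      rw [← haw, hw0, add_zero]
      exact ha
    refine ⟨g * k * g⁻¹, ?_, by rw [map_mul, map_mul, map_inv]⟩
    have hi : ∀ v, g.1 ((g⁻¹).1 v) = v := fun v => g.1.apply_symm_apply v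
    refine ⟨fun v hv => ?_, fun v => ?_⟩
    · change g.1 (k.1 ((g⁻¹).1 v)) = v
      rw [hk.1 _ (hgA v hv), hi]
    · change g.1 (k.1 ((g⁻¹).1 v)) ∈ W ↔ v ∈ W
      rw [hgW, hk.2, ← hgW, hi]

end Main

section

variable {F : Type} [Field F] [Fintype F]

theorem two_ne_zero_of_odd (hodd : Odd (Fintype.card F)) : (2 : F) ≠ 0 := by
  intro h2
  have h3 : CharP F 2 := by
    obtain ⟨q, hq⟩ := CharP.exists F
    have h3 : q ∣ 2 := (CharP.cast_eq_zero_iff F q 2).1 (by exact_mod_cast h2)
    rcases (Nat.dvd_prime Nat.prime_two).1 h3 with h4 | h4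
    · exact absurd h4 (CharP.char_ne_one F q)
    · rwa [h4] at hq
  obtain ⟨n, -, hn⟩ := FiniteField.card F 2
  rw [hn] at hodd
  exact (Nat.not_odd_iff_even.2 (Nat.even_pow.2 ⟨even_two, n.ne_zero⟩)) hodd

theorem nb_succ (h2 : Odd (Fintype.card F)) {n : ℕ} (hn : 1 ≤ n) (hnb : NB (PSp n F)) : NB (PSp (n + 1) F) := by
  obtain ⟨e⟩ := nonempty_symp (B := sympBilin (n + 1) F) (LinearEquiv.refl F _) (fun _ _ => rfl)
  have h3 := nb_gamma (B := sympBilin (n + 1) F) sympBilin_isAlt (fun u hu => eq_zero_of_forall_sympForm_right hu)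
    (two_ne_zero_of_odd h2) hn (by
      rw [Module.finrank_fintype_fun_eq_card, Fintype.card_sum, Fintype.card_fin]
      ring) hnb
  exact NB.iso (quotientCenterCongr e).symm h3

theorem nb_four_three (h3 : Fintype.card F = 3) : NB (PSp 2 F) := by
  obtain ⟨K, _, _, hK, ⟨e⟩⟩ := Cfsg.Agent.QTKE.Iso.psp2three F h3
  have hs : IsSimpleGroup (Cfsg.PSp 2 F) := Cfsg.Agent.S0270.result 2 le_rfl fun _ => by rw [h3]
  have hcard := Cfsg.Agent.SmallSimple.PSLFacts.card_psp_two_three h3
  have hfin : Finite (Cfsg.PSp 2 F) := Nat.finite_of_card_ne_zero (by rw [hcard]; norm_num)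
  have hna : ¬ IsMulCommutative (Cfsg.PSp 2 F) := by
    intro h
    let _ : CommGroup (Cfsg.PSp 2 F) := { (inferInstance : Group (Cfsg.PSp 2 F)) with mul_comm := h.is_comm.comm }
    have h1 : (Nat.card (Cfsg.PSp 2 F)).Prime := IsSimpleGroup.prime_card
    rw [hcard] at h1
    norm_num at h1
  have hch : CharP K 2 := by
    obtain ⟨q, hq⟩ := CharP.exists K
    have hqp : Fact q.Prime := ⟨CharP.char_is_prime K q⟩
    obtain ⟨n, hn, hn'⟩ := FiniteField.card K q
    rw [hK] at hn'
    have h4 : q ∣ 2 ^ 2 := by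
      have : q ∣ q ^ (n : ℕ) := dvd_pow_self q n.ne_zero
      rw [← hn'] at this
      simpa using this
    have h5 := (Nat.prime_dvd_prime_iff_eq hqp.out Nat.prime_two).1 (hqp.out.dvd_of_dvd_pow h4)
    rwa [h5] at hq
  exact NB.of_lie_two hna (Or.inr (Or.inr (Or.inl ⟨K, _, _, hch, 4, 2, hK, by norm_num, by norm_num, ⟨e⟩⟩)))

/-- **the row `PSp` of S5004** -/
theorem nb_psp (h2 : Odd (Fintype.card F)) {m : ℕ} (hm : 2 ≤ m)
    (hpsl2 : ∀ (K : Type) [Field K] [Fintype K], Odd (Fintype.card K) → 3 < Fintype.card K →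
      NB (Matrix.ProjectiveSpecialLinearGroup (Fin 2) K)) : NB (Cfsg.PSp m F) := by
  have hc : 3 ≤ Fintype.card F := by
    have h3 : 1 < Fintype.card F := Fintype.one_lt_card
    obtain ⟨k, hk⟩ := h2
    omega
  induction m, hm using Nat.le_induction with
  | base =>
    by_cases h3 : Fintype.card F = 3
    · exact nb_four_three h3
    · refine nb_succ h2 le_rfl ?_
      exact NB.iso (LieClassical.FieldTransfer.centralQuotientCongr (Cfsg.Agent.H454.SpExt.spTwo F)).symm
        (hpsl2 F h2 (by omega))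
  | succ m hm ih => exact nb_succ h2 (by omega) ih

end

end Cfsg.Agent.H387.NbPsp
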