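import Mathlib
import Cfsg.Agent.H301.SY.Base
import Cfsg.Agent.H952.RcRows
import Cfsg.Agent.H454.SpExt

/-!
# The row `PSp` of S3846 (helper387, for helper301)

`K = PSp_2m(q)`, `x` of prime order `p ≥ 5`, `p ≠ r`, lifted to `A` of order `p`:
* `A u = u` for some `u ≠ 0`: then `x` commutes with a transvection;
* otherwise `p ∣ q ^ 2m - 1 ∣ |SL_2(q ^ m)|` and `Lw p K` holds with the image of `SL_2(q ^ m)`.
-/

set_option autoImplicit false
set_option linter.unusedSectionVars false

namespace Cfsg.Agent.H387.SyPsp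

open Subgroup Cfsg Cfsg.Agent.H459.Rad Cfsg.Agent.H459.Iface Cfsg.Agent.H301.SY Cfsg.Agent.H952.Rc
open Cfsg.Agent.ClassicalGeometry.SympBasic Cfsg.Agent.ClassicalGeometry.SympAutSemi
  Cfsg.Agent.ClassicalGeometry.SympGamma

universe u

/-- the criterion `Lw` from `NoRad` -/
theorem lw_of_noRad {K : Type*} [Group K] [Finite K] {p : ℕ} [hp : Fact p.Prime] {L : Subgroup K} (hL : L ≠ ⊤)
    (hpL : p ∣ Nat.card L) (hn : NoRad p L) : Lw p K := by
  refine ⟨L, hL, hpL, fun h => ?_⟩
  obtain ⟨z, hz⟩ := exists_prime_orderOf_dvd_card' p h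
  have h1 : (z : K) ∈ L := radIn_le L z.2
  have h2 : (⟨(z : K), h1⟩ : L) ∈ solvableRadical L := mem_radIn_coe.1 z.2
  have hzp : (z : K) ^ p = 1 := by
    rw [← hz, ← Subgroup.orderOf_coe, pow_orderOf_eq_one]
  have h3 := hn _ (rad_normal L) (rad_solvable L) ⟨(z : K), h1⟩ h2 (Subtype.ext hzp)
  have h4 : (z : K) = 1 := congrArg Subtype.val h3
  have h5 : z = 1 := Subtype.ext h4
  rw [h5, orderOf_one] at hz
  exact hp.out.one_lt.ne hz

/-- the image of a group with `NoRad` under a homomorphism with kernel of exponent two -/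
theorem lw_of_hom {K H : Type*} [Group K] [Finite K] [Group H] [Finite H] {p : ℕ} [hp : Fact p.Prime] (h5 : 5 ≤ p)
    (f : H →* K) (hk : ∀ a ∈ f.ker, ∀ b ∈ f.ker, a * b = b * a) (h2 : ∀ a ∈ f.ker, a ^ 2 = 1) (hH : NoRad p H)
    (hpH : p ∣ Nat.card H) (hcard : Nat.card H < Nat.card K) : Lw p K := by
  have hodd : Odd p := hp.out.odd_of_ne_two (by omega)
  refine lw_of_noRad (L := f.range) ?_ ?_ ?_
  · intro htop
    have h3 : Nat.card f.range ≤ Nat.card H := Nat.card_le_card_of_surjective f.rangeRestrict f.rangeRestrict_surjective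
    rw [htop, Subgroup.card_top] at h3
    omega
  · obtain ⟨z, hz⟩ := exists_prime_orderOf_dvd_card' p hpH
    have h3 : orderOf (f z) = p := by
      refine orderOf_eq_prime (by rw [← map_pow, ← hz, pow_orderOf_eq_one, map_one]) fun h => ?_
      have h4 := eq_one_of_two hodd (h2 z h) (by rw [← hz, pow_orderOf_eq_one])
      rw [h4, orderOf_one] at hz
      exact hp.out.one_lt.ne hz
    have h4 : orderOf (⟨f z, MonoidHom.mem_range.2 ⟨z, rfl⟩⟩ : f.range) = p := by
      rw [Subgroup.orderOf_mk]; exact h3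
    rw [← h4]
    exact orderOf_dvd_natCard _
  · refine NoRad.of_surjective hodd f.rangeRestrict f.rangeRestrict_surjective ?_ ?_ hH
    · rw [MonoidHom.ker_rangeRestrict]; exact hk
    · rw [MonoidHom.ker_rangeRestrict]; exact h2

section

variable {F : Type} [Field F] [Fintype F]

theorem card_sp_two (K : Type*) [Field K] [Fintype K] :
    Nat.card (Matrix.symplecticGroup (Fin 1) K) = Fintype.card K * (Fintype.card K ^ 2 - 1) := by
  rw [LieClassical.SympCount.card_symplecticGroup]
  simp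

theorem two_lt_pow {q m : ℕ} (hq : 2 ≤ q) (hm : 2 ≤ m) :
    2 * (q ^ m * ((q ^ m) ^ 2 - 1)) < q ^ (m ^ 2) * ∏ i ∈ Finset.range m, (q ^ (2 * (i + 1)) - 1) := by
  obtain ⟨k, rfl⟩ : ∃ k, m = k + 1 := ⟨m - 1, by omega⟩
  rw [Finset.prod_range_succ]
  have h1 : 1 ≤ ∏ i ∈ Finset.range k, (q ^ (2 * (i + 1)) - 1) := by
    apply Nat.one_le_iff_ne_zero.2
    rw [Finset.prod_ne_zero_iff]
    intro i _
    have : 2 ^ (2 * (i + 1)) ≤ q ^ (2 * (i + 1)) := Nat.pow_le_pow_left hq _
    have h2 : 2 ^ 1 ≤ 2 ^ (2 * (i + 1)) := Nat.pow_le_pow_right (by norm_num) (by omega)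
    omega
  have h2 : (q ^ (k + 1)) ^ 2 = q ^ (2 * (k + 1)) := by rw [← pow_mul, mul_comm]
  rw [h2]
  have h3 : q ^ (k + 1) * q ^ 2 ≤ q ^ ((k + 1) ^ 2) := by
    rw [← pow_add]
    apply Nat.pow_le_pow_right (by omega)
    nlinarith
  have h4 : 2 ^ 2 ≤ q ^ 2 := Nat.pow_le_pow_left hq _
  have h5 : 0 < q ^ (2 * (k + 1)) - 1 := by
    have : 2 ^ (2 * (k + 1)) ≤ q ^ (2 * (k + 1)) := Nat.pow_le_pow_left hq _
    have h2 : 2 ^ 1 ≤ 2 ^ (2 * (k + 1)) := Nat.pow_le_pow_right (by norm_num) (by omega)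
    omega
  have h6 : 0 < q ^ (k + 1) := Nat.pow_pos (by omega)
  set a := q ^ (2 * (k + 1)) - 1
  set b := q ^ (k + 1)
  set c := ∏ i ∈ Finset.range k, (q ^ (2 * (i + 1)) - 1)
  calc 2 * (b * a) < 4 * (b * a) := by
        have : 0 < b * a := Nat.mul_pos h6 h5
        omega
    _ = (b * 4) * a := by ring
    _ ≤ (b * q ^ 2) * a := Nat.mul_le_mul_right _ (Nat.mul_le_mul_left _ (by simpa using h4))
    _ ≤ q ^ ((k + 1) ^ 2) * a := Nat.mul_le_mul_right _ h3
    _ ≤ q ^ ((k + 1) ^ 2) * (c * a) := by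
        apply Nat.mul_le_mul_left
        exact Nat.le_mul_of_pos_left _ h1

theorem card_psp_ge (m : ℕ) [Finite (PSp m F)] (hm : 1 ≤ m) :
    Nat.card (Matrix.symplecticGroup (Fin m) F) ≤ 2 * Nat.card (PSp m F) := by
  classical
  have h1 : Nat.card (Matrix.symplecticGroup (Fin m) F) =
      Nat.card (PSp m F) * Nat.card (center (Matrix.symplecticGroup (Fin m) F)) :=
    Subgroup.card_eq_card_quotient_mul_card_subgroup _
  have h2 : Nat.card (center (Matrix.symplecticGroup (Fin m) F)) ≤ 2 := by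
    let g : center (Matrix.symplecticGroup (Fin m) F) → F := fun z => z.1.1 (Sum.inl ⟨0, by omega⟩) (Sum.inl ⟨0, by omega⟩)
    have hg : ∀ z, z.1.1 = g z • 1 := by
      intro z
      obtain ⟨a, ha⟩ := (LieClassical.SympCenter.mem_center_iff m z.1).1 z.2
      have : g z = a := by
        change z.1.1 _ _ = a
        rw [ha, Matrix.smul_apply, Matrix.one_apply_eq, smul_eq_mul, mul_one]
      rw [this, ha]
    have hi : Function.Injective g := by
      intro y z h
      apply Subtype.ext
      apply Subtype.ext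
      rw [hg, hg, h]
    have hm1 : ∀ z, g z ∈ ({1, -1} : Finset F) := by
      intro z
      have h3 := sq_center z.2
      have h4 : (z.1 ^ 2).1 = z.1.1 * z.1.1 := by rw [pow_two]; rfl
      have h5 : z.1.1 * z.1.1 = 1 := by rw [← h4, h3]; rfl
      rw [hg z, smul_mul_smul_comm, mul_one] at h5
      have h6 := congrFun (congrFun h5 (Sum.inl ⟨0, by omega⟩)) (Sum.inl ⟨0, by omega⟩)
      rw [Matrix.smul_apply, Matrix.one_apply_eq, smul_eq_mul, mul_one] at h6
      rw [Finset.mem_insert, Finset.mem_singleton]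
      exact mul_self_eq_one_iff.1 h6
    have h3 : Nat.card (center (Matrix.symplecticGroup (Fin m) F)) ≤ Nat.card ({1, -1} : Finset F) :=
      Nat.card_le_card_of_injective (fun z => (⟨g z, hm1 z⟩ : ({1, -1} : Finset F))) fun y z h =>
        hi (congrArg Subtype.val h)
    refine h3.trans ?_
    rw [Nat.card_eq_fintype_card, Fintype.card_coe]
    exact Finset.card_le_two
  rw [h1, mul_comm 2]
  exact Nat.mul_le_mul_left _ h2

/-- **`Lw` for `PSp_2m(q)`**, by `SL_2(q ^ m)` -/
theorem lw_psp {m p : ℕ} [hp : Fact p.Prime] [Finite (PSp m F)] (h5 : 5 ≤ p) (hm : 2 ≤ m)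
    (hpq : p ∣ Fintype.card F ^ (2 * m) - 1) : Lw p (PSp m F) := by
  obtain ⟨ch, hch⟩ := CharP.exists F
  have hchp : Fact ch.Prime := ⟨CharP.char_is_prime F ch⟩
  have : NeZero m := ⟨by omega⟩
  let K := FiniteField.Extension F ch m
  have hKf : Fintype K := Fintype.ofFinite K
  have hK : Fintype.card K = Fintype.card F ^ m := by
    rw [← Nat.card_eq_fintype_card, ← Nat.card_eq_fintype_card]
    exact FiniteField.natCard_extension F ch m
  obtain ⟨φ, hφ⟩ := Cfsg.Agent.H454.SpExt.exists_hom_card' (K := K) (F := F) (q := Fintype.card F) (k := m)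
    (by omega) hK rfl (a := 1) (mul_one m)
  let f : Matrix.symplecticGroup (Fin 1) K →* PSp m F :=
    (QuotientGroup.mk' (center (Matrix.symplecticGroup (Fin m) F))).comp φ
  have hker : ∀ a ∈ f.ker, φ a ∈ center (Matrix.symplecticGroup (Fin m) F) := by
    intro a ha
    exact (QuotientGroup.eq_one_iff _).1 (MonoidHom.mem_ker.1 ha)
  have hcardK : Nat.card (Matrix.symplecticGroup (Fin 1) K) =
      Fintype.card F ^ m * ((Fintype.card F ^ m) ^ 2 - 1) := by rw [card_sp_two, hK]
  refine lw_of_hom h5 f ?_ ?_ (noRad_symplectic hp.out h5 1) ?_ ?_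
  · intro a ha b _
    apply hφ
    rw [map_mul, map_mul]
    exact (mem_center_iff.1 (hker a ha) (φ b)).symm
  · intro a ha
    apply hφ
    rw [map_pow, map_one]
    exact sq_center (hker a ha)
  · rw [hcardK, ← pow_mul, mul_comm m 2]
    exact hpq.mul_left _
  · rw [hcardK]
    have h1 := card_psp_ge (F := F) m (by omega)
    rw [LieClassical.SympCount.card_symplecticGroup] at h1
    have h2 := two_lt_pow (q := Fintype.card F) (m := m) Fintype.one_lt_card hm
    omega

theorem tv_pow {V : Type*} [AddCommGroup V] [Module F V] {B : LinearMap.BilinForm F V} {u : V} (hu : B u u = 0)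
    (n : ℕ) (v : V) : (tv B u hu ^ n) v = v + (n : F) • (B v u • u) := by
  induction n with
  | zero => simp
  | succ n ih =>
    rw [pow_succ']
    change tv B u hu ((tv B u hu ^ n) v) = _
    rw [ih, tv_apply, map_add, map_smul, LinearMap.add_apply, LinearMap.smul_apply, tv_aux hu, smul_zero, add_zero]
    push_cast
    module

/-- **the row of `PSp_2m(q)`** -/
theorem crow {m r p : ℕ} [hr : Fact r.Prime] [hp : Fact p.Prime] [CharP F r] [Finite (PSp m F)] (hm : 2 ≤ m)
    (h5 : 5 ≤ p) : CRow r p (PSp m F) := by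
  classical
  intro x hx hRC hP
  have hodd : Odd p := hp.out.odd_of_ne_two (by omega)
  obtain ⟨A₀, rfl⟩ := QuotientGroup.mk'_surjective (center (Matrix.symplecticGroup (Fin m) F)) x
  set π := QuotientGroup.mk' (center (Matrix.symplecticGroup (Fin m) F)) with hπ
  have h0 : A₀ ^ p ∈ center (Matrix.symplecticGroup (Fin m) F) := by
    apply (QuotientGroup.eq_one_iff _).1
    change π (A₀ ^ p) = 1
    rw [map_pow, ← hx, pow_orderOf_eq_one]
  have h1 := sq_center h0
  obtain ⟨A, hA, hπA⟩ : ∃ A : Matrix.symplecticGroup (Fin m) F, A ^ p = 1 ∧ π A = π A₀ := by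
    refine ⟨A₀ ^ (p + 1), ?_, ?_⟩
    · obtain ⟨k, hk⟩ := hodd
      have : (p + 1) * p = p * 2 * (k + 1) := by rw [hk]; ring
      rw [← pow_mul, this, pow_mul, pow_mul, h1, one_pow]
    · rw [map_pow, pow_succ]
      conv_lhs => rw [← hx, pow_orderOf_eq_one, one_mul]
  rw [← hπA] at hx hRC ⊢
  have hnd : ∀ u : Fin m ⊕ Fin m → F, (∀ v, sympBilin m F u v = 0) → u = 0 :=
    fun u hu => eq_zero_of_forall_sympForm_right hu
  have hAlt : (sympBilin m F).IsAlt := sympBilin_isAlt
  by_cases hfix : ∃ u : Fin m ⊕ Fin m → F, u ≠ 0 ∧ rho m F A u = u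
  · -- a fixed vector
    left
    obtain ⟨u, hu0, hu⟩ := hfix
    let Γ : Subgroup ((Fin m ⊕ Fin m → F) ≃ₗ[F] (Fin m ⊕ Fin m → F)) :=
      Cfsg.Agent.BpCl.Iso (fun u v => sympBilin m F u v)
    have hΓ : ∀ h : (Fin m ⊕ Fin m → F) ≃ₗ[F] (Fin m ⊕ Fin m → F),
        h ∈ Γ ↔ ∀ u v, sympBilin m F (h u) (h v) = sympBilin m F u v := fun h => Iff.rfl
    have htv := (hΓ _).1 (tv_mem hAlt hΓ u)
    obtain ⟨T, hT⟩ := exists_rho_eq (tv (sympBilin m F) u (hAlt u)).toEquiv
      (fun a b => map_add (tv (sympBilin m F) u (hAlt u)) a b)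
      (fun a b => map_smul (tv (sympBilin m F) u (hAlt u)) a b) (fun a b => htv a b)
    have hT' : ∀ v, rho m F T v = v + sympBilin m F v u • u := fun v => by rw [hT]; rfl
    have hcomm : A * T = T * A := by
      apply rho_injective
      rw [map_mul, map_mul]
      ext1 v
      change rho m F A (rho m F T v) = rho m F T (rho m F A v)
      have h2 : sympBilin m F (rho m F A v) u = sympBilin m F v u := by
        conv_lhs => rw [← hu]
        exact sympForm_rho A v u
      rw [hT', hT', h2, (isSemi_rho A).1, (isSemi_rho A).2.1, hu]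
      rfl
    have hpow : ∀ (n : ℕ) v, rho m F (T ^ n) v = v + (n : F) • (sympBilin m F v u • u) := by
      intro n
      induction n with
      | zero => intro v; simp
      | succ n ih =>
        intro v
        rw [pow_succ, map_mul, Equiv.Perm.mul_apply, hT', ih, map_add, map_smul, LinearMap.add_apply,
          LinearMap.smul_apply, hAlt u, smul_zero, add_zero]
        push_cast
        module
    have hTr : T ^ r = 1 := by
      apply rho_injective
      ext1 v
      rw [hpow, CharP.cast_eq_zero F r, zero_smul, add_zero, map_one]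
      rfl
    have hTc : T ∉ center (Matrix.symplecticGroup (Fin m) F) := by
      intro hc
      obtain ⟨a, ha⟩ := (LieClassical.SympCenter.mem_center_iff m T).1 hc
      have h2 : ∀ v, rho m F T v = a • v := by
        intro v
        rw [rho_apply, ha, Matrix.smul_mulVec, Matrix.one_mulVec]
      obtain ⟨v, hv⟩ := exists_ne_sp hAlt hnd hu0
      have h3 : v + sympBilin m F v u • u = a • v := by rw [← hT', h2]
      have h4 : sympBilin m F v u = a * sympBilin m F v u := by
        have h5 : sympBilin m F (v + sympBilin m F v u • u) u = sympBilin m F (a • v) u := by rw [h3]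
        rwa [map_add, LinearMap.add_apply, map_smul, LinearMap.smul_apply, hAlt u, smul_zero, add_zero, map_smul,
          LinearMap.smul_apply, smul_eq_mul] at h5
      have ha1 : a = 1 := by
        have h5 : (a - 1) * sympBilin m F v u = 0 := by rw [sub_mul, one_mul, ← h4, sub_self]
        exact sub_eq_zero.1 ((mul_eq_zero.1 h5).resolve_right hv)
      rw [ha1, one_smul, add_eq_left] at h3
      rcases smul_eq_zero.1 h3 with h6 | h6
      · exact hv h6
      · exact hu0 h6
    refine FixR.of_mem (v := π T) (fun h => hTc ((QuotientGroup.eq_one_iff T).1 h)) ?_ ⟨1, ?_⟩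
    · rw [MulAut.conj_apply, ← map_mul, hcomm, map_mul, mul_inv_cancel_right]
    · rw [pow_one, ← map_pow, hTr, map_one]
  · -- no fixed vector
    exfalso
    push Not at hfix
    have hpq : p ∣ Fintype.card F ^ (2 * m) - 1 := by
      have h2 : (rho m F A) ^ p ^ 1 = 1 := by rw [pow_one, ← map_pow, hA, map_one]
      have h3 := Equiv.Perm.card_compl_support_modEq h2
      have h4 : (rho m F A).supportᶜ = {0} := by
        ext v
        rw [Finset.mem_compl, Equiv.Perm.mem_support, not_not, Finset.mem_singleton]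
        constructor
        · intro hv
          by_contra h
          exact hfix v h hv
        · rintro rfl
          rw [rho_apply, Matrix.mulVec_zero]
      rw [h4, Finset.card_singleton, Fintype.card_fun, Fintype.card_sum, Fintype.card_fin, ← two_mul] at h3
      exact (Nat.modEq_iff_dvd' (Nat.one_le_pow _ _ Fintype.card_pos)).1 h3
    exact (lw_psp h5 hm hpq).false hx (RE.of_rc hRC) hP

end

/-- **the row `PSp` of S3846** -/
theorem crow_psp {K : Type*} [Group K] [Finite K] [IsSimpleGroup K] {r p : ℕ} [Fact r.Prime] [Fact p.Prime]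
    (h : Cfsg.IsPSpChar r K) (hp : 5 ≤ p) (_hpr : p ≠ r) : Cfsg.Agent.H301.SY.CRow r p K := by
  obtain ⟨F, _, _, _, m, hm, -, ⟨e⟩⟩ := h
  have : Finite (PSp m F) := Finite.of_equiv _ e.toEquiv
  exact (crow hm hp).congr e

end Cfsg.Agent.H387.SyPsp
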