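import Mathlib

/-!
# Linear algebra for the 3-parts of element orders of `PSU_n(3)` (helper387, S3464)

* `nilp_pow` : a nilpotent endomorphism of a space of dimension at most `k` has `N ^ k = 0`;
* `even_finrank` : `s² = c`, `c` not a square: the dimension is even;
* `two_mul_le` : `s² = c`, `c` not a square, `N` nilpotent commuting with `s`, `N ^ m ≠ 0`: the dimension is at least
  `2 (m + 1)`;
* `step` : square roots of eigenvalues;
* `card_modEq` : `s ^ r = 1` without fixed vectors: `r ∣ |V| - 1`.
-/

set_option autoImplicit false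
set_option linter.unusedSectionVars false

namespace Cfsg.Agent.H387.SuLin

open Module

universe u v

variable {F : Type u} [Field F] {V : Type v} [AddCommGroup V] [Module F V] [FiniteDimensional F V]

theorem nilp_pow {N : End F V} (h : IsNilpotent N) {k : ℕ} (hk : finrank F V ≤ k) : N ^ k = 0 := by
  have h1 := LinearMap.aeval_self_charpoly N
  rw [(LinearMap.isNilpotent_iff_charpoly N).1 h, map_pow, Polynomial.aeval_X] at h1
  obtain ⟨j, rfl⟩ := Nat.exists_eq_add_of_le hk
  rw [pow_add, h1, zero_mul]

theorem even_finrank {s : End F V} {c : F} (hs : s * s = c • (1 : End F V)) (hc : ¬ IsSquare c) :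
    Even (finrank F V) := by
  by_contra hodd
  rw [Nat.not_even_iff_odd] at hodd
  obtain ⟨k, hk⟩ := hodd
  have h1 : LinearMap.det s * LinearMap.det s = c ^ (2 * k + 1) := by
    rw [← map_mul, hs, LinearMap.det_smul, hk, map_one, mul_one]
  have hc0 : c ≠ 0 := by
    rintro rfl
    exact hc ⟨0, by rw [mul_zero]⟩
  apply hc
  refine ⟨LinearMap.det s * (c ^ k)⁻¹, ?_⟩
  have h2 : c ^ k ≠ 0 := pow_ne_zero _ hc0
  have h3 : LinearMap.det s * (c ^ k)⁻¹ * (LinearMap.det s * (c ^ k)⁻¹) =
      (LinearMap.det s * LinearMap.det s) * ((c ^ k)⁻¹ * (c ^ k)⁻¹) := by ring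
  rw [h3, h1]
  field_simp
  ring

/-- the restriction of a power -/
theorem restrict_pow {N : End F V} {U : Submodule F V} (hU : ∀ v ∈ U, N v ∈ U) (k : ℕ) (v : U) :
    (((N.restrict hU) ^ k) v : V) = (N ^ k) v := by
  induction k generalizing v with
  | zero => rfl
  | succ k ih => rw [pow_succ, pow_succ, End.mul_apply, End.mul_apply, ih]; rfl

theorem restrict_nilp {N : End F V} {U : Submodule F V} (hU : ∀ v ∈ U, N v ∈ U) (h : IsNilpotent N) :
    IsNilpotent (N.restrict hU) := by
  obtain ⟨k, hk⟩ := h
  refine ⟨k, ?_⟩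
  ext v
  rw [restrict_pow, hk]
  rfl

theorem two_mul_le_aux (m : ℕ) : ∀ {V : Type v} [AddCommGroup V] [Module F V] [FiniteDimensional F V]
    {s N : End F V} {c : F}, s * s = c • (1 : End F V) → ¬ IsSquare c → (∀ v, s (N v) = N (s v)) →
    IsNilpotent N → (∃ v, (N ^ m) v ≠ 0) → 2 * (m + 1) ≤ finrank F V := by
  induction m with
  | zero =>
    intro V _ _ _ s N c hs hc hsN hN hm
    obtain ⟨v, hv⟩ := hm
    have hnt : Nontrivial V := ⟨v, 0, fun h => hv (by rw [h, map_zero])⟩
    have h1 : 0 < finrank F V := Module.finrank_pos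
    obtain ⟨k, hk⟩ := even_finrank hs hc
    omega
  | succ m ih =>
    intro V _ _ _ s N c hs hc hsN hN hm
    let U : Submodule F V := LinearMap.range N
    have hsU : ∀ v ∈ U, s v ∈ U := by
      rintro _ ⟨v, rfl⟩
      exact ⟨s v, (hsN v).symm⟩
    have hNU : ∀ v ∈ U, N v ∈ U := fun v _ => ⟨v, rfl⟩
    have h1 : 2 * (m + 1) ≤ finrank F U := by
      refine ih (s := s.restrict hsU) (N := N.restrict hNU) (c := c) ?_ hc ?_ (restrict_nilp hNU hN) ?_
      · ext v
        have := LinearMap.congr_fun hs v
        exact this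
      · intro v
        exact Subtype.ext (hsN v)
      · obtain ⟨v, hv⟩ := hm
        refine ⟨⟨N v, ⟨v, rfl⟩⟩, fun h => hv ?_⟩
        have h2 := congrArg Subtype.val h
        rw [restrict_pow] at h2
        rw [pow_succ, End.mul_apply]
        exact h2
    have h2 : finrank F U < finrank F V := by
      apply Submodule.finrank_lt
      intro htop
      have hsur : Function.Surjective N := LinearMap.range_eq_top.1 htop
      obtain ⟨k, hk⟩ := hN
      obtain ⟨v, hv⟩ := hm
      have h3 : Function.Surjective ((N ^ k : End F V)) := by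
        clear hk
        induction k with
        | zero => exact fun x => ⟨x, rfl⟩
        | succ k ihk => rw [pow_succ]; exact ihk.comp hsur
      obtain ⟨w, hw⟩ := h3 v
      rw [hk] at hw
      apply hv
      rw [← hw]
      simp
    obtain ⟨k, hk⟩ := even_finrank hs hc
    obtain ⟨l, hl⟩ := even_finrank (s := s.restrict hsU) (c := c) (by
      ext v
      have := LinearMap.congr_fun hs v
      exact this) hc
    have hl' : finrank F U = l + l := hl
    omega

theorem two_mul_le {s N : End F V} {c : F} (hs : s * s = c • (1 : End F V)) (hc : ¬ IsSquare c)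
    (hsN : ∀ v, s (N v) = N (s v)) (hN : IsNilpotent N) {m : ℕ} (hm : ∃ v, (N ^ m) v ≠ 0) :
    2 * (m + 1) ≤ finrank F V := two_mul_le_aux m hs hc hsN hN hm

/-- square roots of eigenvalues -/
theorem step {s N : End F V} (hsN : ∀ v, s (N v) = N (s v)) (hN : IsNilpotent N) (h2 : (2 : F) ≠ 0) {c : F}
    (hc0 : c ≠ 0) {m : ℕ} {v : V} (hv : s (s v) = c • v) (hm : (N ^ m) v ≠ 0) (hdim : finrank F V < 2 * (m + 1)) :
    ∃ d : F, d * d = c ∧ ∃ w, s w = d • w ∧ (N ^ m) w ≠ 0 := by
  by_cases hc : IsSquare c
  · obtain ⟨d, rfl⟩ := hc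
    have hd : d ≠ 0 := fun h => hc0 (by rw [h, mul_zero])
    by_cases h3 : (N ^ m) (d • v + s v) = 0
    · refine ⟨-d, by ring, d • v - s v, ?_, ?_⟩
      · rw [map_sub, map_smul, hv]
        module
      · intro h4
        apply hm
        have h5 : (2 * d) • (N ^ m) v = 0 := by
          rw [← map_smul]
          have h6 : (2 * d) • v = (d • v + s v) + (d • v - s v) := by module
          rw [h6, map_add, h3, h4, add_zero]
        exact (smul_eq_zero.1 h5).resolve_left (mul_ne_zero h2 hd)
    · refine ⟨d, rfl, d • v + s v, ?_, h3⟩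
      rw [map_add, map_smul, hv]
      module
  · exfalso
    let U : Submodule F V := LinearMap.ker (s * s - c • (1 : End F V))
    have hU : ∀ w, w ∈ U ↔ s (s w) = c • w := by
      intro w
      rw [LinearMap.mem_ker, LinearMap.sub_apply, sub_eq_zero]
      rfl
    have hsU : ∀ w ∈ U, s w ∈ U := by
      intro w hw
      rw [hU] at hw ⊢
      rw [hw, map_smul]
    have hNU : ∀ w ∈ U, N w ∈ U := by
      intro w hw
      rw [hU] at hw ⊢
      rw [hsN, hsN, hw, map_smul]
    have h3 : 2 * (m + 1) ≤ finrank F U := by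
      refine two_mul_le (s := s.restrict hsU) (N := N.restrict hNU) (c := c) ?_ hc ?_ (restrict_nilp hNU hN)
        ⟨⟨v, (hU v).2 hv⟩, fun h => hm ?_⟩
      · ext w
        exact (hU w).1 w.2
      · intro w
        exact Subtype.ext (hsN w)
      · have h4 := congrArg Subtype.val h
        rwa [restrict_pow] at h4
    have h4 := U.finrank_le
    omega

/-- the dimension of an eigenspace on which `N ^ m ≠ 0` -/
theorem finrank_ker_ge {t N : End F V} (htN : ∀ v, t (N v) = N (t v)) (hN : IsNilpotent N) {l : F} {m : ℕ} {w : V}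
    (hw : t w = l • w) (hm : (N ^ m) w ≠ 0) : m + 1 ≤ finrank F (End.eigenspace t l) := by
  by_contra hlt
  push Not at hlt
  have hNU : ∀ w ∈ End.eigenspace t l, N w ∈ End.eigenspace t l := by
    intro w hw
    rw [End.mem_eigenspace_iff] at hw ⊢
    rw [htN, hw, map_smul]
  have h1 := nilp_pow (restrict_nilp hNU hN) (k := m) (by omega)
  have h2 := congrArg Subtype.val (LinearMap.congr_fun h1 ⟨w, End.mem_eigenspace_iff.2 hw⟩)
  rw [restrict_pow] at h2
  exact hm h2

/-- a fixed point free element of prime order -/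
theorem card_modEq [Finite F] {r : ℕ} [hr : Fact r.Prime] {s : End F V} (hs : s ^ r = 1) (hfix : ∀ v, s v = v → v = 0) :
    Nat.card F ^ finrank F V ≡ 1 [MOD r] := by
  classical
  have hVf : Finite V := Module.finite_of_finite F
  have := Fintype.ofFinite V
  have := Fintype.ofFinite F
  have h1 : s * s ^ (r - 1) = 1 := by rw [← pow_succ', Nat.sub_add_cancel hr.out.one_le, hs]
  have h2 : s ^ (r - 1) * s = 1 := by rw [← pow_succ, Nat.sub_add_cancel hr.out.one_le, hs]
  let σ : Equiv.Perm V :=
    { toFun := s
      invFun := (s ^ (r - 1) : End F V)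
      left_inv := fun v => LinearMap.congr_fun h2 v
      right_inv := fun v => LinearMap.congr_fun h1 v }
  have hσ : ∀ k : ℕ, ∀ v, (σ ^ k) v = (s ^ k : End F V) v := by
    intro k
    induction k with
    | zero => intro v; rfl
    | succ k ih => intro v; rw [pow_succ, pow_succ, Equiv.Perm.mul_apply, End.mul_apply, ih]; rfl
  have h3 : σ ^ r ^ 1 = 1 := by
    ext1 v
    rw [pow_one, hσ, hs]
    rfl
  have h4 := Equiv.Perm.card_compl_support_modEq h3
  have h5 : σ.supportᶜ = {0} := by
    ext v
    rw [Finset.mem_compl, Equiv.Perm.mem_support, not_not, Finset.mem_singleton]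
    constructor
    · exact fun h => hfix v h
    · rintro rfl
      exact map_zero s
  rw [h5, Finset.card_singleton, ← Nat.card_eq_fintype_card, Module.natCard_eq_pow_finrank (K := F)] at h4
  exact h4.symm

/-- the determinant from the eigenspaces -/
theorem det_of_eigenspaces {t : End F V} {l μ ν : F} (hn : 2 ≤ finrank F V)
    (hE : finrank F V - 2 ≤ finrank F (End.eigenspace t l))
    (hμ : ∃ v, t v = μ • v ∧ v ≠ 0) (hν : ∃ v, t v = ν • v ∧ v ≠ 0) (h1 : l ≠ μ) (h2 : l ≠ ν) (h3 : μ ≠ ν) :
    LinearMap.det t = l ^ (finrank F V - 2) * μ * ν := by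
  classical
  set n := finrank F V with hnn
  have hpos : ∀ κ : F, (∃ v, t v = κ • v ∧ v ≠ 0) → 1 ≤ t.charpoly.roots.count κ := by
    rintro κ ⟨v, hv, hv0⟩
    rw [Polynomial.count_roots]
    refine le_trans ?_ (LinearMap.finrank_eigenspace_le t κ)
    have : (⟨v, End.mem_eigenspace_iff.2 hv⟩ : End.eigenspace t κ) ≠ 0 := fun h => hv0 (congrArg Subtype.val h)
    have : Nontrivial (End.eigenspace t κ) := ⟨_, _, this⟩
    exact Module.finrank_pos
  have hle : (Multiset.replicate (n - 2) l + {μ} + {ν}) ≤ t.charpoly.roots := by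
    rw [Multiset.le_iff_count]
    intro κ
    rw [Multiset.count_add, Multiset.count_add, Multiset.count_replicate, Multiset.count_singleton,
      Multiset.count_singleton]
    by_cases e1 : l = κ
    · subst e1
      rw [if_pos rfl, if_neg h1, if_neg h2, add_zero, add_zero, Polynomial.count_roots]
      exact hE.trans (LinearMap.finrank_eigenspace_le t l)
    · by_cases e2 : κ = μ
      · subst e2
        rw [if_neg e1, if_pos rfl, if_neg h3]
        simpa using hpos κ hμ
      · by_cases e3 : κ = ν
        · subst e3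
          rw [if_neg e1, if_neg e2, if_pos rfl]
          simpa using hpos κ hν
        · rw [if_neg e1, if_neg e2, if_neg e3]
          exact Nat.zero_le _
  have hdeg : t.charpoly.natDegree = n := LinearMap.charpoly_natDegree t
  have hcard : t.charpoly.roots.card ≤ (Multiset.replicate (n - 2) l + {μ} + {ν}).card := by
    refine (Polynomial.card_roots' _).trans ?_
    rw [hdeg, Multiset.card_add, Multiset.card_add, Multiset.card_replicate, Multiset.card_singleton,
      Multiset.card_singleton]
    omega
  have heq := Multiset.eq_of_le_of_card_le hle hcard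
  have hs : t.charpoly.Splits := by
    rw [Polynomial.splits_iff_card_roots, ← heq, hdeg, Multiset.card_add, Multiset.card_add, Multiset.card_replicate,
      Multiset.card_singleton, Multiset.card_singleton]
    omega
  rw [Module.End.det_eq_prod_roots_charpoly_of_splits hs, ← heq]
  simp

end Cfsg.Agent.H387.SuLin
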