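import Mathlib
import Cfsg.Agent.H387.SuLin
import Cfsg.Agent.ClassicalGeometry.PSUAutBasic
import Cfsg.Agent.H373.HermFrame
import Cfsg.Agent.S0280

/-!
# 3-parts of element orders of `PSU_n(3)` (helper387, for S3464, helper356)

`no_pow`, `no_nine`, `no_eight`.
-/

set_option autoImplicit false
set_option linter.unusedSectionVars false

namespace Cfsg.Agent.H387.SuThree

open Cfsg Module Cfsg.Agent.LieClassical.HermBasic Cfsg.Agent.LieClassical.HermSiegel
  Cfsg.Agent.ClassicalGeometry.PSUAutBasic Cfsg.Agent.H387.SuLin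

universe u

variable {F : Type u} [Field F] [Fintype F] {n : ℕ}

/-- the endomorphism -/
def L (g : SU n F 3) : End F (Fin n → F) := Matrix.mulVecLin (mat g)

theorem L_apply (g : SU n F 3) (v : Fin n → F) : L g v = act g v := rfl

theorem L_mul (g h : SU n F 3) : L (g * h) = L g * L h := by
  refine LinearMap.ext fun v => ?_
  exact act_mul g h v

theorem L_one : L (1 : SU n F 3) = 1 := by
  refine LinearMap.ext fun v => ?_
  exact act_one v

theorem L_pow (g : SU n F 3) (k : ℕ) : L (g ^ k) = L g ^ k := by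
  induction k with
  | zero => rw [pow_zero, pow_zero, L_one]
  | succ k ih => rw [pow_succ, pow_succ, L_mul, ih]

theorem charP_three (hF : Fintype.card F = 9) : CharP F 3 := by
  obtain ⟨p, hp⟩ := CharP.exists F
  have hpp : Fact p.Prime := ⟨CharP.char_is_prime F p⟩
  obtain ⟨k, hk, hk'⟩ := FiniteField.card F p
  rw [hF] at hk'
  have h4 : p ∣ 3 ^ 2 := by
    have : p ∣ p ^ (k : ℕ) := dvd_pow_self p k.ne_zero
    rw [← hk'] at this
    simpa using this
  have h5 := (Nat.prime_dvd_prime_iff_eq hpp.out Nat.prime_three).1 (hpp.out.dvd_of_dvd_pow h4)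
  rwa [h5] at hp

/-- the lift of an element of order `k` -/
theorem exists_lift (hF : Fintype.card F = 9) (hn : 3 ≤ n) {k : ℕ} {y : PSU n F 3} (hy : orderOf y = k) :
    ∃ (g : SU n F 3) (c : F), c ^ 4 = 1 ∧ L g ^ k = c • (1 : End F (Fin n → F)) ∧
      ∀ (j : ℕ) (d : F), L g ^ j = d • (1 : End F (Fin n → F)) → k ∣ j := by
  have hF' : Fintype.card F = 3 ^ 2 := by rw [hF]; norm_num
  obtain ⟨g, rfl⟩ := QuotientGroup.mk'_surjective (Subgroup.center (SU n F 3)) y
  have h1 : g ^ k ∈ Subgroup.center (SU n F 3) := by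
    apply (QuotientGroup.eq_one_iff (g ^ k)).1
    change QuotientGroup.mk' (Subgroup.center (SU n F 3)) (g ^ k) = 1
    rw [map_pow, ← hy, pow_orderOf_eq_one]
  obtain ⟨c, -, hc, hc'⟩ := exists_scalar_of_mem_center hF' hn h1
  refine ⟨g, c, by rw [← hc]; ring, ?_, fun j d hd => ?_⟩
  · rw [← L_pow]
    refine LinearMap.ext fun v => ?_
    exact hc' v
  · have h2 : g ^ j ∈ Subgroup.center (SU n F 3) := by
      apply mem_center_of_act (c := d)
      intro v
      have h3 := LinearMap.congr_fun hd v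
      rw [← L_pow] at h3
      exact h3
    rw [← hy]
    apply orderOf_dvd_of_pow_eq_one
    rw [← map_pow]
    exact (QuotientGroup.eq_one_iff (g ^ j)).2 h2

instance charP_end [CharP F 3] [hn : NeZero n] : CharP (End F (Fin n → F)) 3 := by
  have : Nontrivial (Fin n → F) := ⟨1, 0, fun h => by
    have := congrFun h ⟨0, Nat.pos_of_ne_zero hn.out⟩
    exact one_ne_zero this⟩
  exact charP_of_injective_algebraMap (algebraMap F (End F (Fin n → F))).injective 3

theorem sub_one_pow [CharP F 3] (T : End F (Fin n → F)) (a : ℕ) : (T - 1) ^ 3 ^ a = T ^ 3 ^ a - 1 := by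
  rcases Nat.eq_zero_or_pos n with rfl | hn
  · ext v i
    exact i.elim0
  have : NeZero n := ⟨by omega⟩
  have : Fact (Nat.Prime 3) := ⟨Nat.prime_three⟩
  rw [sub_pow_char_pow_of_commute 3 a (Commute.one_right T), one_pow]

/-- a unipotent endomorphism: the order divides `3 ^ a` if `n ≤ 3 ^ a` -/
theorem unip_pow [CharP F 3] {T : End F (Fin n → F)} {a b : ℕ} (h : T ^ 3 ^ b = 1) (hn : n ≤ 3 ^ a) : T ^ 3 ^ a = 1 := by
  have h1 : IsNilpotent (T - 1) := ⟨3 ^ b, by rw [sub_one_pow, h, sub_self]⟩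
  have h2 := nilp_pow h1 (k := 3 ^ a) (by rw [finrank_fintype_fun_eq_card, Fintype.card_fin]; exact hn)
  rw [sub_one_pow] at h2
  exact sub_eq_zero.1 h2

theorem no_pow_of_three (hF : Fintype.card F = 9) {a : ℕ} (hn : 3 ≤ n) (h : n ≤ 3 ^ a) :
    ¬ ∃ y : Cfsg.PSU n F 3, orderOf y = 3 ^ (a + 1) := by
  rintro ⟨y, hy⟩
  have hch := charP_three hF
  obtain ⟨g, c, hc, h1, h2⟩ := exists_lift hF hn hy
  have h3 : (L g ^ 4) ^ 3 ^ (a + 1) = 1 := by
    rw [← pow_mul, mul_comm, pow_mul, h1, smul_pow, hc, one_pow, one_smul]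
  have h4 := unip_pow h3 h
  have h5 := h2 (4 * 3 ^ a) 1 (by rw [pow_mul, h4, one_smul])
  rw [pow_succ, mul_comm 4, Nat.mul_dvd_mul_iff_left (by positivity)] at h5
  omega

theorem no_pow {F : Type*} [Field F] [Fintype F] (hF : Fintype.card F = 9) {n a : ℕ} (hn : 2 ≤ n) (h : n ≤ 3 ^ a) :
    ¬ ∃ y : Cfsg.PSU n F 3, orderOf y = 3 ^ (a + 1) := by
  rcases Nat.lt_or_ge n 3 with h3 | h3
  · have hn2 : n = 2 := by omega
    subst hn2
    rintro ⟨y, hy⟩
    have hcard := Cfsg.Agent.S0280.result (F := F) (q := 3) (by rw [hF]; norm_num) 2 (by norm_num)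
    norm_num [Finset.prod_range_succ, Nat.even_iff] at hcard
    have h9 : 9 ∣ Nat.card (PSU 2 F 3) := by
      refine dvd_trans ?_ (orderOf_dvd_natCard y)
      rw [hy]
      have ha : 1 ≤ a := by
        by_contra ha
        have : a = 0 := by omega
        subst this
        norm_num at h
      obtain ⟨k, hk⟩ := Nat.exists_eq_add_of_le ha
      exact ⟨3 ^ k, by rw [hk]; ring⟩
    omega
  · exact no_pow_of_three hF h3 h

/-! ### `9 r` -/

theorem no_three_mul_aux {F : Type u} [Field F] [Fintype F] (hF : Fintype.card F = 9) {n r m c : ℕ} (hr : r.Prime)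
    (hr2 : r ≠ 2) (hr3 : r ≠ 3) (hm : m ≤ 3 ^ c) (hn : 2 * m < n) (hn3 : 3 ≤ n)
    (hrn : orderOf (9 : ZMod r) = n - m) : ¬ ∃ y : Cfsg.PSU n F 3, orderOf y = 3 ^ (c + 1) * r := by
  rintro ⟨y, hy⟩
  have hch := charP_three hF
  have hrp : Fact r.Prime := ⟨hr⟩
  have hrF : (r : F) ≠ 0 := by
    rw [Ne, CharP.cast_eq_zero_iff F 3]
    intro h
    exact hr3 ((Nat.prime_dvd_prime_iff_eq Nat.prime_three hr).1 h).symm
  obtain ⟨g, c', hc, h1, h2⟩ := exists_lift hF hn3 hy
  set V := Fin n → F with hV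
  set T : End F V := L g ^ 4 with hT
  have hT9 : T ^ (3 ^ (c + 1) * r) = 1 := by
    rw [hT, ← pow_mul, mul_comm 4, pow_mul, h1, smul_pow, hc, one_pow, one_smul]
  set s : End F V := T ^ 3 ^ (c + 1) with hs
  set N : End F V := T ^ r - 1 with hN
  have hsr : s ^ r = 1 := by rw [hs, ← pow_mul, hT9]
  have hN9 : N ^ 3 ^ (c + 1) = 0 := by
    rw [hN, sub_one_pow, ← pow_mul, mul_comm r, hT9, sub_self]
  have hNn : IsNilpotent N := ⟨_, hN9⟩
  have hsN : ∀ v, s (N v) = N (s v) := by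
    have : Commute s N := by
      rw [hs, hN]
      exact ((Commute.refl T).pow_pow _ r).sub_right (Commute.one_right _)
    exact fun v => LinearMap.congr_fun this.eq v
  -- the decomposition
  have hpow : ∀ (v : V) (w : V), s v - v = w → s w = w → ∀ k : ℕ, (s ^ k) v = v + (k : F) • w := by
    intro v w hv hw k
    induction k with
    | zero => simp
    | succ k ih =>
      rw [pow_succ', End.mul_apply, ih, map_add, map_smul, hw]
      have : s v = v + w := by rw [← hv]; abel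
      rw [this]
      push_cast
      module
  set K := LinearMap.ker (s - 1) with hK
  set W := LinearMap.range (s - 1) with hW
  have hmK : ∀ v, v ∈ K ↔ s v = v := by
    intro v
    rw [hK, LinearMap.mem_ker, LinearMap.sub_apply, End.one_apply, sub_eq_zero]
  have hdisj : Disjoint K W := by
    rw [Submodule.disjoint_def]
    rintro w hwK ⟨v, hv⟩
    rw [hmK] at hwK
    have h3 := hpow v w (by rw [← hv]; rfl) hwK r
    rw [hsr, End.one_apply, left_eq_add] at h3
    exact (smul_eq_zero.1 h3).resolve_left hrF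
  have hdim : finrank F W + finrank F K = n := by
    rw [hW, hK, LinearMap.finrank_range_add_finrank_ker, finrank_fintype_fun_eq_card, Fintype.card_fin]
  have hsup : K ⊔ W = ⊤ := by
    apply Submodule.eq_top_of_disjoint _ _ _ hdisj
    rw [finrank_fintype_fun_eq_card, Fintype.card_fin]
    omega
  have hsW : ∀ w ∈ W, s w ∈ W := by
    rintro _ ⟨v, rfl⟩
    exact ⟨s v, by simp⟩
  have hNW : ∀ w ∈ W, N w ∈ W := by
    rintro _ ⟨v, rfl⟩
    refine ⟨N v, ?_⟩
    change s (N v) - N v = N (s v - v)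
    rw [hsN, map_sub]
  have hNK : ∀ w ∈ K, N w ∈ K := by
    intro w hw
    rw [hmK] at hw ⊢
    rw [hsN, hw]
  -- the dimensions of the invariant subspaces of `W`
  have hinv : ∀ U : Submodule F V, U ≤ W → (∀ v ∈ U, s v ∈ U) → n - m ∣ finrank F U := by
    intro U hUW hU
    have h3 := card_modEq (F := F) (r := r) (s := s.restrict hU) (by
      refine LinearMap.ext fun v => Subtype.ext ?_
      rw [restrict_pow, hsr]
      rfl) (by
      intro v hv
      have h4 : s v = v := congrArg Subtype.val hv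
      apply Subtype.ext
      exact Submodule.disjoint_def.1 hdisj v ((hmK _).2 h4) (hUW v.2))
    rw [Nat.card_eq_fintype_card, hF, ← ZMod.natCast_eq_natCast_iff] at h3
    push_cast at h3
    rw [← hrn]
    exact orderOf_dvd_of_pow_eq_one h3
  have hW0 : W ≠ ⊥ := by
    intro h
    have h3 : s = 1 := by
      refine LinearMap.ext fun v => ?_
      have h4 : (s - 1) v ∈ W := ⟨v, rfl⟩
      rw [h, Submodule.mem_bot, LinearMap.sub_apply, sub_eq_zero] at h4
      exact h4
    have h4 := h2 (4 * 3 ^ (c + 1)) 1 (by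
      rw [one_smul, ← h3, hs, hT, ← pow_mul])
    have h5 : r ∣ 2 ^ 2 := by
      have h6 : 3 ^ (c + 1) * r ∣ 3 ^ (c + 1) * 2 ^ 2 := by
        rwa [mul_comm 4] at h4
      exact (Nat.mul_dvd_mul_iff_left (by positivity)).1 h6
    exact hr2 ((Nat.prime_dvd_prime_iff_eq hr Nat.prime_two).1 (hr.dvd_of_dvd_pow h5))
  have hWd : finrank F W = n - m := by
    obtain ⟨k, hk⟩ := hinv W le_rfl hsW
    have h3 : 0 < finrank F W := by
      rw [Nat.pos_iff_ne_zero]
      exact fun h => hW0 (Submodule.finrank_eq_zero.1 h)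
    have h4 : k = 1 := by
      rcases Nat.lt_or_ge k 2 with h5 | h5
      · interval_cases k
        · omega
        · rfl
      · have h6 : (n - m) * 2 ≤ (n - m) * k := Nat.mul_le_mul_left _ h5
        omega
    rw [hk, h4, mul_one]
  have hNW0 : ∀ w ∈ W, N w = 0 := by
    let U : Submodule F V := W ⊓ LinearMap.ker N
    have h3 := hinv U inf_le_left (by
      rintro v ⟨hv1, hv2⟩
      refine ⟨hsW v hv1, ?_⟩
      rw [SetLike.mem_coe, LinearMap.mem_ker] at hv2 ⊢
      rw [← hsN, hv2, map_zero])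
    have h4 : U ≠ ⊥ := by
      intro h
      have hinj : Function.Injective (N.restrict hNW) := by
        rw [← LinearMap.ker_eq_bot, eq_bot_iff]
        intro v hv
        have h5 : (v : V) ∈ U := ⟨v.2, congrArg Subtype.val hv⟩
        rw [h, Submodule.mem_bot] at h5
        exact Subtype.ext h5
      obtain ⟨w, hw, hw0⟩ := Submodule.exists_mem_ne_zero_of_ne_bot hW0
      obtain ⟨k, hk⟩ := restrict_nilp hNW hNn
      have h5 : Function.Injective ((N.restrict hNW) ^ k : End F W) := by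
        clear hk
        induction k with
        | zero => exact fun a b h => h
        | succ k ihk => rw [pow_succ]; exact ihk.comp hinj
      apply hw0
      have h6 : (⟨w, hw⟩ : W) = 0 := h5 (by rw [hk]; simp)
      exact congrArg Subtype.val h6
    have h5 : finrank F W ≤ finrank F U := by
      rw [hWd]
      apply Nat.le_of_dvd _ h3
      rw [Nat.pos_iff_ne_zero]
      exact fun h => h4 (Submodule.finrank_eq_zero.1 h)
    have h6 : U = W := Submodule.eq_of_le_of_finrank_le inf_le_left h5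
    intro w hw
    rw [← h6] at hw
    exact hw.2
  have hNK3 : ∀ w ∈ K, (N ^ 3 ^ c) w = 0 := by
    intro w hw
    have h3 := nilp_pow (restrict_nilp hNK hNn) (k := 3 ^ c) (by omega)
    have h4 := congrArg Subtype.val (LinearMap.congr_fun h3 ⟨w, hw⟩)
    rwa [restrict_pow] at h4
  have hN3 : N ^ 3 ^ c = 0 := by
    refine LinearMap.ext fun v => ?_
    obtain ⟨a, ha, b, hb, rfl⟩ := Submodule.mem_sup.1 (show v ∈ K ⊔ W by rw [hsup]; exact Submodule.mem_top)
    have h3 : (N ^ 3 ^ c) b = 0 := by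
      obtain ⟨k, hk⟩ := Nat.exists_eq_succ_of_ne_zero (pow_ne_zero c (by norm_num : (3 : ℕ) ≠ 0))
      rw [hk, pow_succ, End.mul_apply, hNW0 b hb, map_zero]
    rw [map_add, hNK3 a ha, h3, add_zero]
    rfl
  rw [hN, sub_one_pow, sub_eq_zero, hT, ← pow_mul, ← pow_mul] at hN3
  have h5 := h2 _ 1 (by rw [hN3, one_smul])
  have h6 : 3 ^ c * r * 3 ∣ 3 ^ c * r * 4 := by
    have e1 : 3 ^ (c + 1) * r = 3 ^ c * r * 3 := by ring
    have e2 : 4 * (r * 3 ^ c) = 3 ^ c * r * 4 := by ring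
    rwa [e1, e2] at h5
  have h7 := (Nat.mul_dvd_mul_iff_left (by have := hr.pos; positivity)).1 h6
  omega

theorem no_three_mul {F : Type*} [Field F] [Fintype F] (hF : Fintype.card F = 9) {n r s c : ℕ} (hr : r.Prime)
    (hs : s ≤ 3 ^ c) (hn : 2 * s < n) (hrn : orderOf (9 : ZMod r) = n - s) :
    ¬ ∃ y : Cfsg.PSU n F 3, orderOf y = 3 ^ (c + 1) * r := by
  have hr3 : r ≠ 3 := by
    rintro rfl
    have h1 : (9 : ZMod 3) = 0 := by
      have := (ZMod.natCast_eq_zero_iff 9 3).2 (by norm_num)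
      exact_mod_cast this
    rw [h1, orderOf_zero] at hrn
    omega
  by_cases h1 : n = 1
  · subst h1
    rintro ⟨y, hy⟩
    obtain ⟨g, rfl⟩ := QuotientGroup.mk'_surjective (Subgroup.center (SU 1 F 3)) y
    have h2 : g = 1 := by
      apply mat_injective
      have h3 := det_mat g
      rw [Matrix.det_fin_one] at h3
      rw [mat_one]
      ext i j
      rw [Subsingleton.elim i 0, Subsingleton.elim j 0, h3]
      simp
    rw [h2, map_one, orderOf_one] at hy
    have h4 : 1 < 3 ^ (c + 1) * r := by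
      have h5 := hr.two_le
      have h6 : 1 ≤ 3 ^ (c + 1) := Nat.one_le_pow _ _ (by norm_num)
      nlinarith
    omega
  have hr2 : r ≠ 2 := by
    rintro rfl
    have h1 : (9 : ZMod 2) = 1 := by
      have := (ZMod.natCast_eq_natCast_iff 9 1 2).2 (by decide)
      exact_mod_cast this
    rw [h1, orderOf_one] at hrn
    omega
  by_cases h2 : n = 2
  · subst h2
    rintro ⟨y, hy⟩
    have hcard := Cfsg.Agent.S0280.result (F := F) (q := 3) (by rw [hF]; norm_num) 2 (by norm_num)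
    norm_num [Finset.prod_range_succ, Nat.even_iff] at hcard
    have h9 : r ∣ 12 := by
      have h12 : Nat.card (PSU 2 F 3) = 12 := by omega
      rw [← h12]
      refine dvd_trans ?_ (orderOf_dvd_natCard y)
      rw [hy]
      exact dvd_mul_left _ _
    have h10 : r ≤ 12 := Nat.le_of_dvd (by norm_num) h9
    interval_cases r <;> first | omega | (exact absurd hr (by norm_num))
  · exact no_three_mul_aux hF hr hr2 hr3 hs hn (by omega) hrn

theorem no_nine {F : Type*} [Field F] [Fintype F] (hF : Fintype.card F = 9) {n r : ℕ} (hn : 8 ≤ n) (hr : r.Prime)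
    (hrn : orderOf (9 : ZMod r) = n - 3) : ¬ ∃ y : Cfsg.PSU n F 3, orderOf y = 3 * (3 * r) := by
  rintro ⟨y, hy⟩
  exact no_three_mul hF (s := 3) (c := 1) hr (by norm_num) (by omega) hrn ⟨y, by rw [hy]; ring⟩

/-! ### `3 ^ (a + 1) 8` -/

section Eight

variable {F : Type u} [Field F] [Fintype F] {n : ℕ}

theorem pow_eight (hF : Fintype.card F = 9) {x : F} (hx : x ≠ 0) : x ^ 8 = 1 := by
  have := FiniteField.pow_card_sub_one_eq_one x hx
  rwa [hF] at this

theorem isSquare_iff (hF : Fintype.card F = 9) {x : F} (hx : x ≠ 0) : IsSquare x ↔ x ^ 4 = 1 := by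
  have hch := charP_three hF
  have h2 : ringChar F ≠ 2 := by
    rw [ringChar.eq F 3]
    norm_num
  have := FiniteField.isSquare_iff h2 hx
  rw [hF] at this
  exact this

/-- a square root of an eigenvalue -/
theorem root {V : Type*} [AddCommGroup V] [Module F V] {s : End F V} (h2 : (2 : F) ≠ 0) {c : F} (hc0 : c ≠ 0)
    (hc : IsSquare c) {v : V} (hv : s (s v) = c • v) (hv0 : v ≠ 0) : ∃ d : F, d * d = c ∧ ∃ w, s w = d • w ∧ w ≠ 0 := by
  obtain ⟨d, rfl⟩ := hc
  have hd : d ≠ 0 := fun h => hc0 (by rw [h, mul_zero])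
  by_cases h3 : d • v + s v = 0
  · refine ⟨-d, by ring, d • v - s v, ?_, ?_⟩
    · rw [map_sub, map_smul, hv]
      module
    · intro h4
      apply hv0
      have h5 : (2 * d) • v = 0 := by
        have h6 : (2 * d) • v = (d • v + s v) + (d • v - s v) := by module
        rw [h6, h3, h4, add_zero]
      exact (smul_eq_zero.1 h5).resolve_left (mul_ne_zero h2 hd)
  · refine ⟨d, rfl, d • v + s v, ?_, h3⟩
    rw [map_add, map_smul, hv]
    module

theorem no_eight' (hF : Fintype.card F = 9) {a : ℕ} (ha : 2 ≤ a) (hn : n = 3 ^ a + 3) (h4 : 4 ∣ n) :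
    ¬ ∃ y : Cfsg.PSU n F 3, orderOf y = 3 * (3 ^ a * 8) := by
  rintro ⟨y, hy⟩
  have hF' : Fintype.card F = 3 ^ 2 := by rw [hF]; norm_num
  have hch := charP_three hF
  have h3a : 9 ≤ 3 ^ a := by
    have := Nat.pow_le_pow_right (n := 3) (by norm_num) ha
    simpa using this
  have hfr : finrank F (Fin n → F) = n := by rw [finrank_fintype_fun_eq_card, Fintype.card_fin]
  have h2 : (2 : F) ≠ 0 := by
    have : ((2 : ℕ) : F) ≠ 0 := by
      rw [Ne, CharP.cast_eq_zero_iff F 3]
      norm_num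
    exact_mod_cast this
  obtain ⟨g, c, hc, hk, hd⟩ := exists_lift hF (by omega) hy
  have hc0 : c ≠ 0 := by
    rintro rfl
    norm_num at hc
  set T : End F (Fin n → F) := L g with hT
  set N : End F (Fin n → F) := T ^ 32 - 1 with hN
  set t : End F (Fin n → F) := T ^ 3 ^ (a + 1) with ht
  have hN1 : N ^ 3 ^ (a + 1) = 0 := by
    rw [hN, sub_one_pow, ← pow_mul]
    have : 32 * 3 ^ (a + 1) = 3 * (3 ^ a * 8) * 4 := by ring
    rw [this, pow_mul, hk, smul_pow, hc, one_pow, one_smul, sub_self]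
  have hNn : IsNilpotent N := ⟨_, hN1⟩
  have hNne : N ^ 3 ^ a ≠ 0 := by
    intro h
    rw [hN, sub_one_pow, sub_eq_zero, ← pow_mul] at h
    have h5 := hd _ 1 (by rw [h, one_smul])
    have h6 : 8 * 3 ^ a * 3 ∣ 8 * 3 ^ a * 4 := by
      have e1 : 3 * (3 ^ a * 8) = 8 * 3 ^ a * 3 := by ring
      have e2 : 32 * 3 ^ a = 8 * 3 ^ a * 4 := by ring
      rwa [e1, e2] at h5
    have h7 := (Nat.mul_dvd_mul_iff_left (by positivity)).1 h6
    omega
  have ht8 : t ^ 8 = c • (1 : End F (Fin n → F)) := by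
    rw [ht, ← pow_mul, ← hk]
    congr 1
    ring
  have ht4 : ∀ d : F, t ^ 4 ≠ d • (1 : End F (Fin n → F)) := by
    intro d h
    rw [ht, ← pow_mul] at h
    have h5 := hd _ d h
    have h6 : 4 * 3 ^ (a + 1) * 2 ∣ 4 * 3 ^ (a + 1) * 1 := by
      have e1 : 3 * (3 ^ a * 8) = 4 * 3 ^ (a + 1) * 2 := by ring
      have e2 : 3 ^ (a + 1) * 4 = 4 * 3 ^ (a + 1) * 1 := by ring
      rwa [e1, e2] at h5
    have h7 := (Nat.mul_dvd_mul_iff_left (by positivity)).1 h6
    omega
  have hcomm : ∀ k : ℕ, ∀ v, (t ^ k) (N v) = N ((t ^ k) v) := by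
    intro k v
    have : Commute (t ^ k) N := by
      rw [ht, hN, ← pow_mul]
      exact ((Commute.refl T).pow_pow _ _).sub_right (Commute.one_right _)
    exact LinearMap.congr_fun this.eq v
  have hdim : finrank F (Fin n → F) < 2 * (3 ^ a + 1) := by omega
  obtain ⟨v₀, hv₀⟩ : ∃ v, (N ^ 3 ^ a) v ≠ 0 := by
    by_contra hcon
    push Not at hcon
    exact hNne (LinearMap.ext hcon)
  obtain ⟨d₁, hd₁, v₁, hv₁, hm₁⟩ := step (s := t ^ 4) (hcomm 4) hNn h2 hc0 (v := v₀) (by
    have := LinearMap.congr_fun ht8 v₀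
    rw [show (8 : ℕ) = 4 + 4 from rfl, pow_add] at this
    exact this) hv₀ hdim
  have hd₁0 : d₁ ≠ 0 := fun h => hc0 (by rw [← hd₁, h, mul_zero])
  obtain ⟨d₂, hd₂, v₂, hv₂, hm₂⟩ := step (s := t ^ 2) (hcomm 2) hNn h2 hd₁0 (v := v₁) (by
    rw [show (4 : ℕ) = 2 + 2 from rfl, pow_add] at hv₁
    exact hv₁) hm₁ hdim
  have hd₂0 : d₂ ≠ 0 := fun h => hd₁0 (by rw [← hd₂, h, mul_zero])
  obtain ⟨l, hl, v₃, hv₃, hm₃⟩ := step (s := t) (fun v => by simpa using hcomm 1 v) hNn h2 hd₂0 (v := v₂) (by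
    rw [pow_two] at hv₂
    exact hv₂) hm₂ hdim
  have hl0 : l ≠ 0 := fun h => hd₂0 (by rw [← hl, h, mul_zero])
  have hE : n - 2 ≤ finrank F (End.eigenspace t l) := by
    have := finrank_ker_ge (fun v => by simpa using hcomm 1 v) hNn hv₃ hm₃
    omega
  -- the form
  have hherm : ∀ v w, hermForm n F 3 (t v) (t w) = hermForm n F 3 v w := by
    intro v w
    rw [ht, hT, ← L_pow]
    exact herm_act _ v w
  have horth : ∀ {μ ν : F} {v w : Fin n → F}, t v = μ • v → t w = ν • w → μ * ν ^ 3 ≠ 1 → hermForm n F 3 v w = 0 := by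
    intro μ ν v w hv hw h
    have h5 := hherm v w
    rw [hv, hw, herm_smul_left, herm_smul_right] at h5
    have h6 : (μ * ν ^ 3 - 1) * hermForm n F 3 v w = 0 := by linear_combination h5
    exact (mul_eq_zero.1 h6).resolve_left (sub_ne_zero.2 h)
  have hl4 : l ^ 4 = 1 := by
    by_contra hne
    have h5 := Cfsg.Agent.H373.HermFrame.card_isotropic (q := 3) hF' (W := ⊤) (I := End.eigenspace t l) (by
      intro w _ hw
      exact herm_nondeg hF' fun v => hw v Submodule.mem_top) le_top (by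
      intro x hx y hy
      rw [End.mem_eigenspace_iff] at hx hy
      exact horth hx hy (fun h => hne (by rw [← h]; ring)))
    have e1 : Nat.card (End.eigenspace t l) = 9 ^ finrank F (End.eigenspace t l) := by
      rw [Module.natCard_eq_pow_finrank (K := F), Nat.card_eq_fintype_card, hF]
    have e2 : Nat.card (⊤ : Submodule F (Fin n → F)) = 9 ^ n := by
      rw [Module.natCard_eq_pow_finrank (K := F), Nat.card_eq_fintype_card, hF, finrank_top, hfr]
    rw [e1, e2, ← pow_add] at h5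
    have h6 := (Nat.pow_le_pow_iff_right (by norm_num : 1 < 9)).1 h5
    omega
  -- `t ^ 8 = 1`
  have hc1 : c = 1 := by
    have h5 : (t ^ 8) v₃ = l ^ 8 • v₃ := by
      have : ∀ k : ℕ, (t ^ k) v₃ = l ^ k • v₃ := by
        intro k
        induction k with
        | zero => simp
        | succ k ih => rw [pow_succ', End.mul_apply, ih, map_smul, hv₃, smul_smul, pow_succ]
      exact this 8
    rw [ht8, LinearMap.smul_apply, End.one_apply, pow_eight hF hl0, one_smul] at h5
    have hv₃0 : v₃ ≠ 0 := fun h => hm₃ (by rw [h, map_zero])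
    have h6 : (c - 1) • v₃ = 0 := by rw [sub_smul, h5, one_smul, sub_self]
    exact sub_eq_zero.1 ((smul_eq_zero.1 h6).resolve_right hv₃0)
  rw [hc1, one_smul] at ht8
  -- an eigenvector `w` with eigenvalue `μ`, `μ ^ 4 = -1`
  obtain ⟨w₀, hw₀, hw₀0⟩ : ∃ w, (t ^ 4) w = -w ∧ w ≠ 0 := by
    by_contra hcon
    push Not at hcon
    apply ht4 1
    rw [one_smul]
    refine LinearMap.ext fun v => ?_
    have h5 := hcon (v - (t ^ 4) v) (by
      rw [map_sub]
      have h6 : (t ^ 4) ((t ^ 4) v) = v := by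
        have := LinearMap.congr_fun ht8 v
        rw [show (8 : ℕ) = 4 + 4 from rfl, pow_add] at this
        exact this
      rw [h6]
      abel)
    rw [End.one_apply]
    exact (sub_eq_zero.1 h5).symm
  have hn1 : (-1 : F) ≠ 0 := neg_ne_zero.2 one_ne_zero
  obtain ⟨e₁, he₁, w₁, hw₁, hw₁0⟩ := root (s := t ^ 2) h2 hn1 ((isSquare_iff hF hn1).2 (by ring)) (v := w₀) (by
    rw [show (4 : ℕ) = 2 + 2 from rfl, pow_add] at hw₀
    rw [neg_one_smul]
    exact hw₀) hw₀0
  have he₁0 : e₁ ≠ 0 := fun h => hn1 (by rw [← he₁, h, mul_zero])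
  obtain ⟨μ, hμ, w, hw, hw0⟩ := root (s := t) h2 he₁0 ((isSquare_iff hF he₁0).2 (by
    have : e₁ ^ 4 = (e₁ * e₁) * (e₁ * e₁) := by ring
    rw [this, he₁]; ring)) (v := w₁) (by
    rw [pow_two] at hw₁
    exact hw₁) hw₁0
  have hμ0 : μ ≠ 0 := fun h => he₁0 (by rw [← hμ, h, mul_zero])
  have hμ4 : μ ^ 4 = -1 := by
    have : μ ^ 4 = (μ * μ) * (μ * μ) := by ring
    rw [this, hμ, he₁]
  -- an eigenvector `w'` with eigenvalue `ν`, `μ ν ^ 3 = 1`
  obtain ⟨ν, hν⟩ : ∃ ν : F, μ * ν ^ 3 = 1 := ⟨μ⁻¹ ^ 3, by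
    have h5 := pow_eight hF (inv_ne_zero hμ0)
    have h6 : μ * (μ⁻¹ ^ 3) ^ 3 = (μ * μ⁻¹) * μ⁻¹ ^ 8 := by ring
    rw [h6, h5, mul_inv_cancel₀ hμ0, one_mul]⟩
  have hν0 : ν ≠ 0 := by
    rintro rfl
    norm_num at hν
  have hν8 := pow_eight hF hν0
  have hν4 : ν ^ 4 = -1 := by
    have h5 : (μ * ν ^ 3) ^ 4 = μ ^ 4 * (ν ^ 8 * ν ^ 4) := by ring
    rw [hν, one_pow, hμ4, hν8, one_mul] at h5
    linear_combination h5
  obtain ⟨x, hx⟩ := exists_herm_ne_zero hF' hw0
  have hti : ∀ i : ℕ, hermForm n F 3 w ((t ^ i) x) = (μ⁻¹) ^ i * hermForm n F 3 w x := by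
    intro i
    induction i with
    | zero => simp
    | succ i ih =>
      rw [pow_succ', End.mul_apply]
      have h5 := hherm (μ⁻¹ • w) ((t ^ i) x)
      rw [map_smul, hw, smul_smul, inv_mul_cancel₀ hμ0, one_smul, herm_smul_left, ih] at h5
      rw [h5]
      ring
  obtain ⟨w', hw'⟩ : ∃ w', w' = ∑ i ∈ Finset.range 8, (ν⁻¹) ^ i • (t ^ i) x := ⟨_, rfl⟩
  have htw' : t w' = ν • w' := by
    have h5 : t w' = ∑ i ∈ Finset.range 8, ν • (ν⁻¹) ^ (i + 1) • (t ^ (i + 1)) x := by
      rw [hw', map_sum]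
      refine Finset.sum_congr rfl fun i _ => ?_
      rw [map_smul, pow_succ' t i, End.mul_apply, smul_smul]
      congr 1
      rw [pow_succ]
      field_simp
    have h6 : ν • w' = ∑ i ∈ Finset.range 8, ν • (ν⁻¹) ^ i • (t ^ i) x := by
      rw [hw', Finset.smul_sum]
    have h7 := Finset.sum_range_succ (fun i => ν • (ν⁻¹) ^ i • (t ^ i) x) 8
    rw [Finset.sum_range_succ' (fun i => ν • (ν⁻¹) ^ i • (t ^ i) x) 8, ← h5, ← h6, ht8, inv_pow ν 8, hν8] at h7
    simpa using h7
  have hww' : hermForm n F 3 w w' = 8 * hermForm n F 3 w x := by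
    rw [hw', herm_sum_right hF']
    have h5 : ∀ i ∈ Finset.range 8, hermForm n F 3 w ((ν⁻¹) ^ i • (t ^ i) x) = hermForm n F 3 w x := by
      intro i _
      rw [herm_smul_right, hti]
      have h6 : ((ν⁻¹) ^ i) ^ 3 * (μ⁻¹ ^ i * hermForm n F 3 w x) = ((μ * ν ^ 3)⁻¹) ^ i * hermForm n F 3 w x := by
        rw [mul_inv, mul_pow, ← inv_pow, ← pow_mul, ← pow_mul, mul_comm i 3, pow_mul]
        ring
      rw [h6, hν, inv_one, one_pow, one_mul]
    rw [Finset.sum_congr rfl h5, Finset.sum_const, Finset.card_range, nsmul_eq_mul]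
    norm_num
  have hw'0 : w' ≠ 0 := by
    intro h
    rw [h, herm_zero_right hF'] at hww'
    have h8 : (8 : F) = 2 * 2 * 2 := by norm_num
    rw [h8] at hww'
    exact mul_ne_zero (mul_ne_zero (mul_ne_zero h2 h2) h2) hx hww'.symm
  have h11 : (1 : F) ≠ -1 := by
    intro h
    apply h2
    linear_combination h
  have hlμ : l ≠ μ := fun h => h11 (by rw [← hμ4, ← h, hl4])
  have hlν : l ≠ ν := fun h => h11 (by rw [← hν4, ← h, hl4])
  have hμν : μ ≠ ν := fun h => h11 (by rw [← hμ4, ← hν, h]; ring)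
  have hdet := det_of_eigenspaces (t := t) (l := l) (μ := μ) (ν := ν) (by rw [hfr]; omega) (by rw [hfr]; exact hE)
    ⟨w, hw, hw0⟩ ⟨w', htw', hw'0⟩ hlμ hlν hμν
  have hdet1 : LinearMap.det t = 1 := by
    rw [ht, hT, ← L_pow]
    have h5 : L (g ^ 3 ^ (a + 1)) = Matrix.toLin' (mat (g ^ 3 ^ (a + 1))) := rfl
    rw [h5, LinearMap.det_toLin', det_mat]
  rw [hdet1, hfr] at hdet
  have h5 : ν ^ 2 = l ^ (n - 2) := by
    have h6 : μ * ν * ν ^ 2 = μ * ν * l ^ (n - 2) := by linear_combination hν + hdet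
    exact mul_left_cancel₀ (mul_ne_zero hμ0 hν0) h6
  obtain ⟨k, hk4⟩ := h4
  have h6 : ν ^ 4 = 1 := by
    have h7 : ν ^ 4 = ν ^ 2 * ν ^ 2 := by ring
    have h8 : n - 2 + (n - 2) = 4 * (2 * k - 1) := by omega
    rw [h7, h5, ← pow_add, h8, pow_mul, hl4, one_pow]
  exact h11 (h6.symm.trans hν4)

end Eight

theorem no_eight {F : Type*} [Field F] [Fintype F] (hF : Fintype.card F = 9) {n a : ℕ} (ha : 2 ≤ a) (hn : n = 3 ^ a + 3)
    (h4 : 4 ∣ n) : ¬ ∃ y : Cfsg.PSU n F 3, orderOf y = 3 * (3 ^ a * 8) := no_eight' hF ha hn h4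

end Cfsg.Agent.H387.SuThree
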