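import Mathlib

/-!
# 2-transitive groups acting with rank three (helper387, HUB H1, symplectic family)

`rank_three` : `G` is 2-transitive on `Ω` (`n` points) and has rank 3 on `P` (`N` points, the symmetric relation `B` is such that two
different points have `μ` common `B`-neighbours and one point has `K` of them): then a point stabiliser `G_a` is
transitive on `P`, or `n = N`, or `(K - μ) (2n - 1 - N)² = (N - K)²`.

`count` : counting for a normal family of subgroups.
-/

set_option autoImplicit false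

namespace Cfsg.Agent.H387.TwoSpA

open MulAction Matrix

section RankThree

variable {G Ω P : Type*} [Group G] [MulAction G Ω] [MulAction G P]

/-- the `G`-orbit of `(a, u)` as a relation -/
def Rel (G : Type*) {Ω P : Type*} [Group G] [MulAction G Ω] [MulAction G P] (a : Ω) (u : P) (x : Ω) (v : P) :
    Prop := ∃ g : G, g • a = x ∧ g • u = v

theorem rel_smul (a : Ω) (u : P) (g : G) (x : Ω) (v : P) :
    Rel G a u (g • x) (g • v) ↔ Rel G a u x v := by
  constructor
  · rintro ⟨k, h1, h2⟩
    exact ⟨g⁻¹ * k, by rw [mul_smul, h1, inv_smul_smul], by rw [mul_smul, h2, inv_smul_smul]⟩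
  · rintro ⟨k, h1, h2⟩
    exact ⟨g * k, by rw [mul_smul, h1], by rw [mul_smul, h2]⟩

variable [Fintype Ω] [Fintype P]

open Classical in
/-- the incidence matrix -/
noncomputable def M (G : Type*) {Ω P : Type*} [Group G] [MulAction G Ω] [MulAction G P] (a : Ω) (u : P) :
    Matrix Ω P ℤ := Matrix.of fun x v => if Rel G a u x v then 1 else 0

omit [Fintype Ω] [Fintype P] in
theorem M_smul (a : Ω) (u : P) (g : G) (x : Ω) (v : P) : M G a u (g • x) (g • v) = M G a u x v := by
  simp only [M, of_apply]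
  by_cases h : Rel G a u x v
  · rw [if_pos h, if_pos ((rel_smul a u g x v).2 h)]
  · rw [if_neg h, if_neg fun h' => h ((rel_smul a u g x v).1 h')]

omit [Fintype Ω] [Fintype P] in
theorem M_sq (a : Ω) (u : P) (x : Ω) (v : P) : M G a u x v * M G a u x v = M G a u x v := by
  simp only [M, of_apply]; split_ifs <;> simp

omit [Fintype Ω] [Fintype P] in
theorem M_nonneg (a : Ω) (u : P) (x : Ω) (v : P) : 0 ≤ M G a u x v := by
  simp only [M, of_apply]; split_ifs <;> simp

omit [Fintype Ω] [Fintype P] in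
theorem M_le_one (a : Ω) (u : P) (x : Ω) (v : P) : M G a u x v ≤ 1 := by
  simp only [M, of_apply]; split_ifs <;> simp

omit [Fintype Ω] [Fintype P] in
theorem M_eq_one (a : Ω) (u : P) (x : Ω) (v : P) : M G a u x v = 1 ↔ Rel G a u x v := by
  simp only [M, of_apply]; split_ifs with h <;> simp [h]

theorem sum_comm_smul {X : Type*} [Fintype X] [MulAction G X] (g : G) (φ : X → ℤ) :
    ∑ x, φ (g • x) = ∑ x, φ x :=
  Fintype.sum_equiv (MulAction.toPerm g) _ _ (fun _ => rfl)

theorem rank_three
    (h2 : ∀ a b c d : Ω, a ≠ b → c ≠ d → ∃ g : G, g • a = c ∧ g • b = d)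
    (h1 : ∀ a b : Ω, ∃ g : G, g • a = b)
    (B : P → P → Prop) (hBrefl : ∀ u, B u u) (hBsymm : ∀ u v, B u v → B v u)
    (htr : ∀ u v : P, ∃ g : G, g • u = v)
    (hB : ∀ u v u' v' : P, u ≠ v → B u v → u' ≠ v' → B u' v' → ∃ g : G, g • u = u' ∧ g • v = v')
    (hnB : ∀ u v u' v' : P, ¬ B u v → ¬ B u' v' → ∃ g : G, g • u = u' ∧ g • v = v')
    (hex : ∃ u v : P, u ≠ v ∧ B u v) (hex' : ∃ u v : P, ¬ B u v)
    (K μ : ℕ) (hK : ∀ u, Nat.card {w // B u w} = K)
    (hμ : ∀ u v, u ≠ v → Nat.card {w // B u w ∧ B v w} = μ)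
    (a : Ω) (hΩ : 2 ≤ Fintype.card Ω) :
    (∀ u v : P, ∃ g : G, g • a = a ∧ g • u = v) ∨ Fintype.card Ω = Fintype.card P ∨
      ((K : ℤ) - μ) * (2 * Fintype.card Ω - 1 - Fintype.card P) ^ 2 = ((Fintype.card P : ℤ) - K) ^ 2 := by
  classical
  by_cases hcon : ∀ u v : P, ∃ g : G, g • a = a ∧ g • u = v
  · exact Or.inl hcon
  right
  push Not at hcon
  obtain ⟨u₀, v₀, huv⟩ := hcon
  set A := M G a u₀ with hA
  have hAs : ∀ (g : G) x v, A (g • x) (g • v) = A x v := M_smul a u₀
  obtain ⟨a', haa'⟩ : ∃ a' : Ω, a' ≠ a := by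
    have : 1 < Fintype.card Ω := by omega
    have := Fintype.one_lt_card_iff_nontrivial.1 this
    exact exists_ne a
  obtain ⟨x₁, y₁, hxy1, hBxy1⟩ := hex
  obtain ⟨x₂, y₂, hxy2⟩ := hex'
  have hne2 : ∀ {u v : P}, ¬ B u v → u ≠ v := by
    rintro u v h rfl
    exact h (hBrefl u)
  -- the constants
  set r : ℤ := ∑ x, A x u₀ with hr
  set b : ℤ := ∑ v, A a v with hb
  set ν : ℤ := ∑ v, A a v * A a' v with hν
  set l1 : ℤ := ∑ x, A x x₁ * A x y₁ with hl1
  set l2 : ℤ := ∑ x, A x x₂ * A x y₂ with hl2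
  have hrv : ∀ v, ∑ x, A x v = r := by
    intro v
    obtain ⟨g, rfl⟩ := htr u₀ v
    rw [← sum_comm_smul g (fun x => A x (g • u₀))]
    exact Finset.sum_congr rfl fun x _ => hAs g x u₀
  have hbx : ∀ x, ∑ v, A x v = b := by
    intro x
    obtain ⟨g, rfl⟩ := h1 a x
    rw [← sum_comm_smul g (fun v => A (g • a) v)]
    exact Finset.sum_congr rfl fun v _ => hAs g a v
  have hνx : ∀ x y, x ≠ y → ∑ v, A x v * A y v = ν := by
    intro x y hxy
    obtain ⟨g, rfl, rfl⟩ := h2 a a' x y haa'.symm hxy
    rw [← sum_comm_smul g (fun v => A (g • a) v * A (g • a') v)]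
    exact Finset.sum_congr rfl fun v _ => by rw [hAs, hAs]
  have hl1v : ∀ u v, u ≠ v → B u v → ∑ x, A x u * A x v = l1 := by
    intro u v huv hBuv
    obtain ⟨g, rfl, rfl⟩ := hB x₁ y₁ u v hxy1 hBxy1 huv hBuv
    rw [← sum_comm_smul g (fun x => A x (g • x₁) * A x (g • y₁))]
    exact Finset.sum_congr rfl fun x _ => by rw [hAs, hAs]
  have hl2v : ∀ u v, ¬ B u v → ∑ x, A x u * A x v = l2 := by
    intro u v hBuv
    obtain ⟨g, rfl, rfl⟩ := hnB x₂ y₂ u v hxy2 hBuv
    rw [← sum_comm_smul g (fun x => A x (g • x₂) * A x (g • y₂))]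
    exact Finset.sum_congr rfl fun x _ => by rw [hAs, hAs]
  -- the matrix `C = Aᵀ A`
  set C : Matrix P P ℤ := Aᵀ * A with hC
  have hCap : ∀ v w, C v w = ∑ x, A x v * A x w := by
    intro v w
    simp only [hC, Matrix.mul_apply, transpose_apply]
  have hCvv : ∀ v, C v v = r := by
    intro v
    rw [hCap, ← hrv v]
    exact Finset.sum_congr rfl fun x _ => M_sq a u₀ x v
  have hCsymm : ∀ v w, C v w = C w v := by
    intro v w
    rw [hCap, hCap]
    exact Finset.sum_congr rfl fun x _ => mul_comm _ _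
  -- `B` as a matrix
  set Bm : P → P → ℤ := fun u v => if B u v then 1 else 0 with hBm
  have hCform : ∀ v w, C v w = (r - l1) * (if v = w then 1 else 0) + (l1 - l2) * Bm v w + l2 := by
    intro v w
    by_cases hvw : v = w
    · subst hvw
      rw [hCvv]
      simp only [hBm, hBrefl, if_true]
      ring
    · by_cases hBvw : B v w
      · rw [hCap, hl1v v w hvw hBvw]
        simp only [hBm, hBvw, if_true, hvw, if_false]
        ring
      · rw [hCap, hl2v v w hBvw]
        simp only [hBm, hBvw, hvw, if_false]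
        ring
  -- sums of `Bm`
  have hBsum : ∀ u, ∑ w, Bm u w = K := by
    intro u
    simp only [hBm]
    rw [Finset.sum_boole, ← hK u, Nat.card_eq_fintype_card, Fintype.card_subtype]
  have hBsum' : ∀ u, ∑ w, Bm w u = K := by
    intro u
    rw [← hBsum u]
    refine Finset.sum_congr rfl fun w _ => ?_
    simp only [hBm]
    by_cases h : B u w
    · simp only [h, hBsymm _ _ h, if_true]
    · have h' : ¬ B w u := fun h' => h (hBsymm _ _ h')
      simp only [h, h', if_false]
  have hBB : ∀ u v, ∑ w, Bm u w * Bm w v = if u = v then (K : ℤ) else μ := by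
    intro u v
    have key : ∀ w, Bm u w * Bm w v = if B u w ∧ B v w then 1 else 0 := by
      intro w
      simp only [hBm]
      by_cases h1 : B u w <;> by_cases h2 : B v w
      · simp only [h1, h2, hBsymm _ _ h2, if_true, and_self, mul_one]
      · have h3 : ¬ B w v := fun h => h2 (hBsymm _ _ h)
        simp only [h1, h2, h3, if_true, if_false, and_false, mul_zero]
      · simp only [h1, false_and, if_false, zero_mul]
      · simp only [h1, false_and, if_false, zero_mul]
    rw [Finset.sum_congr rfl fun w _ => key w, Finset.sum_boole]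
    split_ifs with h
    · subst h
      rw [← hK u, Nat.card_eq_fintype_card, Fintype.card_subtype]
      simp only [and_self]
    · rw [← hμ u v h, Nat.card_eq_fintype_card, Fintype.card_subtype]
  -- `C * C`
  have hAAt : ∀ x y, ∑ v, A x v * A y v = (b - ν) * (if x = y then 1 else 0) + ν := by
    intro x y
    by_cases hxy : x = y
    · subst hxy
      rw [if_pos rfl, mul_one, sub_add_cancel, ← hbx x]
      exact Finset.sum_congr rfl fun v _ => M_sq a u₀ x v
    · rw [hνx x y hxy, if_neg hxy]; ring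
  have hCC : ∀ v w, ∑ u, C v u * C u w = (b - ν) * C v w + ν * r ^ 2 := by
    intro v w
    have e1 : ∀ u, C v u * C u w = ∑ x, ∑ y, A x v * A y w * (A x u * A y u) := by
      intro u
      rw [hCap, hCap, Finset.sum_mul_sum]
      refine Finset.sum_congr rfl fun x _ => Finset.sum_congr rfl fun y _ => ?_
      ring
    rw [Finset.sum_congr rfl fun u _ => e1 u, Finset.sum_comm]
    have e2 : ∀ x, ∑ u, ∑ y, A x v * A y w * (A x u * A y u) =
        (b - ν) * (A x v * A x w) + ν * (A x v * r) := by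
      intro x
      rw [Finset.sum_comm]
      have e3 : ∀ y, ∑ u, A x v * A y w * (A x u * A y u) =
          (b - ν) * (if x = y then A x v * A y w else 0) + ν * (A x v * A y w) := by
        intro y
        rw [← Finset.mul_sum, hAAt]
        split_ifs <;> ring
      rw [Finset.sum_congr rfl fun y _ => e3 y, Finset.sum_add_distrib, ← Finset.mul_sum, ← Finset.mul_sum,
        ← Finset.mul_sum, hrv w, Finset.sum_ite_eq Finset.univ x]
      simp
    rw [Finset.sum_congr rfl fun x _ => e2 x, Finset.sum_add_distrib, ← Finset.mul_sum, ← hCap v w,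
      ← Finset.mul_sum, ← Finset.sum_mul, hrv v]
    ring
  set N : ℤ := (Fintype.card P : ℤ) with hN
  set n : ℤ := (Fintype.card Ω : ℤ) with hn
  set α := r - l1 with hα
  set β := l1 - l2 with hβ
  have hCC2 : ∀ v w, ∑ u, C v u * C u w = α ^ 2 * (if v = w then 1 else 0) + 2 * α * β * Bm v w +
      β ^ 2 * (if v = w then (K : ℤ) else μ) + (2 * α * l2 + 2 * β * l2 * K + l2 ^ 2 * N) := by
    intro v w
    have e1 : ∀ u, C v u * C u w = α ^ 2 * ((if v = u then 1 else 0) * (if u = w then 1 else 0)) +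
        α * β * ((if v = u then 1 else 0) * Bm u w) + α * β * (Bm v u * (if u = w then 1 else 0)) +
        α * l2 * (if v = u then 1 else 0) + α * l2 * (if u = w then 1 else 0) +
        β ^ 2 * (Bm v u * Bm u w) + β * l2 * Bm v u + β * l2 * Bm u w + l2 ^ 2 := by
      intro u
      rw [hCform, hCform]
      ring
    rw [Finset.sum_congr rfl fun u _ => e1 u]
    simp only [Finset.sum_add_distrib, ← Finset.mul_sum, hBB, hBsum, hBsum']
    have e2 : ∑ u : P, ((if v = u then (1 : ℤ) else 0) * (if u = w then 1 else 0)) = if v = w then 1 else 0 := by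
      simp
    have e3 : ∑ u : P, ((if v = u then (1 : ℤ) else 0) * Bm u w) = Bm v w := by
      simp
    have e4 : ∑ u : P, (Bm v u * (if u = w then (1 : ℤ) else 0)) = Bm v w := by
      simp
    have e5 : ∑ u : P, (if v = u then (1 : ℤ) else 0) = 1 := by simp
    have e6 : ∑ u : P, (if u = w then (1 : ℤ) else 0) = 1 := by simp
    have e7 : ∑ u : P, l2 ^ 2 = N * l2 ^ 2 := by
      rw [Finset.sum_const, Finset.card_univ, nsmul_eq_mul, hN]
    rw [e2, e3, e4, e5, e6, e7]
    ring
  -- the three equations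
  have q1 : 2 * α * β + β ^ 2 * μ + (2 * α * l2 + 2 * β * l2 * K + l2 ^ 2 * N) =
      (b - ν) * (β + l2) + ν * r ^ 2 := by
    have h := (hCC2 x₁ y₁).symm.trans (hCC x₁ y₁)
    rw [hCform x₁ y₁] at h
    simp only [hBm, hBxy1, hxy1, if_true, if_false] at h
    linear_combination h
  have q2 : β ^ 2 * μ + (2 * α * l2 + 2 * β * l2 * K + l2 ^ 2 * N) =
      (b - ν) * l2 + ν * r ^ 2 := by
    have h := (hCC2 x₂ y₂).symm.trans (hCC x₂ y₂)
    rw [hCform x₂ y₂] at h
    simp only [hBm, hxy2, hne2 hxy2, if_false] at h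
    linear_combination h
  have q3 : α ^ 2 + 2 * α * β + β ^ 2 * K + (2 * α * l2 + 2 * β * l2 * K + l2 ^ 2 * N) =
      (b - ν) * (α + β + l2) + ν * r ^ 2 := by
    have h := (hCC2 x₂ x₂).symm.trans (hCC x₂ x₂)
    rw [hCform x₂ x₂] at h
    simp only [hBm, hBrefl, if_true] at h
    linear_combination h
  -- row sums
  have q4 : α + β * K + l2 * N = b * r := by
    have h : ∑ w, C u₀ w = b * r := by
      have e : ∀ x, ∑ w, A x u₀ * A x w = A x u₀ * b := fun x => by rw [← Finset.mul_sum, hbx]
      rw [Finset.sum_congr rfl fun w _ => hCap u₀ w, Finset.sum_comm,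
        Finset.sum_congr rfl fun x _ => e x, ← Finset.sum_mul, hrv, mul_comm]
    rw [← h, Finset.sum_congr rfl fun w _ => hCform u₀ w]
    simp only [Finset.sum_add_distrib, ← Finset.mul_sum, hBsum]
    have e5 : ∑ u : P, (if u₀ = u then (1 : ℤ) else 0) = 1 := by simp
    have e7 : ∑ u : P, l2 = N * l2 := by
      rw [Finset.sum_const, Finset.card_univ, nsmul_eq_mul, hN]
    rw [e5, e7]; ring
  have q5 : n * b = N * r := by
    have h : ∑ x, ∑ v, A x v = ∑ v, ∑ x, A x v := Finset.sum_comm
    rw [Finset.sum_congr rfl fun x _ => hbx x, Finset.sum_congr rfl fun v _ => hrv v, Finset.sum_const,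
      Finset.sum_const, Finset.card_univ, Finset.card_univ, nsmul_eq_mul, nsmul_eq_mul] at h
    exact h
  have q6 : (b - ν) + n * ν = b * r := by
    have h : ∑ y, ∑ v, A a v * A y v = b * r := by
      have e : ∀ v, ∑ y, A a v * A y v = A a v * r := fun v => by rw [← Finset.mul_sum, hrv]
      rw [Finset.sum_comm, Finset.sum_congr rfl fun v _ => e v, ← Finset.sum_mul, hbx]
    rw [← h, Finset.sum_congr rfl fun y _ => hAAt a y, Finset.sum_add_distrib, ← Finset.mul_sum, Finset.sum_const,
      Finset.card_univ, nsmul_eq_mul]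
    have e5 : ∑ u : Ω, (if a = u then (1 : ℤ) else 0) = 1 := by simp
    rw [e5, mul_one]
  have q7 : α + β + l2 = r := by rw [hα, hβ]; ring
  have z3 : (n - 1) * (b - ν) = N * r - b * r := by
    linear_combination q5 - q6
  set D := b - ν with hD
  have z1 : 2 * α * β = D * β := by linear_combination q1 - q2
  have z2 : α ^ 2 + β ^ 2 * (K - μ) = D * α := by linear_combination q3 - q1
  have z4 : α * (N - 1) + β * (N - K) = N * r - b * r := by
    linear_combination N * q7 - q4
  by_cases hβ0 : β = 0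
  · left
    have z2' : α * α = D * α := by rw [hβ0] at z2; linear_combination z2
    have hα0 : α ≠ 0 := by
      intro h0
      -- every row is constant
      have hl : ∀ w, ∑ x, A x u₀ * A x w = ∑ x, A x u₀ := by
        intro w
        rw [← hCap, hCform, h0, hβ0, hrv]
        have : l2 = r := by rw [h0, hβ0] at q7; linear_combination q7
        rw [this]; ring
      have h3 : ∑ x, A x u₀ * (1 - A x v₀) = 0 := by
        simp only [mul_sub, mul_one, Finset.sum_sub_distrib]
        rw [hl v₀, sub_self]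
      have h4 : A a u₀ * (1 - A a v₀) = 0 := (Finset.sum_eq_zero_iff_of_nonneg (fun x _ =>
        mul_nonneg (M_nonneg a u₀ x u₀) (sub_nonneg.2 (M_le_one a u₀ x v₀)))).1 h3 a (Finset.mem_univ a)
      have h5 : A a u₀ = 1 := (M_eq_one a u₀ a u₀).2 ⟨1, one_smul _ _, one_smul _ _⟩
      rw [h5, one_mul, sub_eq_zero] at h4
      obtain ⟨g, hg1, hg2⟩ := (M_eq_one a u₀ a v₀).1 h4.symm
      exact huv g hg1 hg2
    have hαD : α = D := mul_right_cancel₀ hα0 z2'
    have h5 : (N - 1) * α = (n - 1) * α := by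
      rw [hβ0] at z4
      rw [← hαD] at z3
      linear_combination z4 - z3
    have h6 : N - 1 = n - 1 := mul_right_cancel₀ hα0 h5
    have h7 : (Fintype.card Ω : ℤ) = Fintype.card P := by
      rw [← hn, ← hN]; linear_combination -h6
    exact_mod_cast h7
  · right
    have hD2 : D = 2 * α := by
      have : (2 * α) * β = D * β := z1
      exact (mul_right_cancel₀ hβ0 this).symm
    have h5 : α ^ 2 = β ^ 2 * (K - μ) := by
      rw [hD2] at z2; linear_combination -z2
    have h6 : α * (2 * n - 1 - N) = β * (N - K) := by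
      rw [hD2] at z3
      linear_combination z3 - z4
    have h7 : β ^ 2 * (((K : ℤ) - μ) * (2 * n - 1 - N) ^ 2) = β ^ 2 * (N - K) ^ 2 := by
      have : (α * (2 * n - 1 - N)) ^ 2 = (β * (N - K)) ^ 2 := by rw [h6]
      rw [mul_pow, mul_pow, h5] at this
      linear_combination this
    exact mul_left_cancel₀ (pow_ne_zero 2 hβ0) h7

end RankThree

end Cfsg.Agent.H387.TwoSpA
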