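import Mathlib
import Cfsg.Agent.ClassicalGeometry.SympAutExists
import Cfsg.Agent.H387.TwoSpA

/-!
# Geometry of `Sp_2m(q)` for the 2-transitive actions (helper387, HUB H1)

Transitivity of the symplectic group on pairs of points and the numbers of points.
-/

set_option autoImplicit false
open Cfsg
open scoped Matrix

namespace Cfsg.Agent.H387.TwoSpGeo

open Cfsg.Agent.ClassicalGeometry.SympBasic
open Cfsg.Agent.ClassicalGeometry.SympSiegel
open Cfsg.Agent.ClassicalGeometry.SympAutExists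

variable {F : Type*} [Field F] {m : ℕ}

local notation "V" => (Fin m ⊕ Fin m → F)
local notation "S" => Matrix.symplecticGroup (Fin m) F
local notation "f" => sympForm m F

theorem exists_smul_eq' {v w : V} (hv : v ≠ 0) (hw : w ≠ 0) : ∃ g : S, g • v = w := by
  obtain ⟨A, -, hA⟩ := exists_transvGroup_mulVec_eq hv hw
  exact ⟨A, hA⟩

theorem exists_hyp {v w v' w' : V} (h : f v w ≠ 0) (h' : f v' w' ≠ 0) :
    ∃ g : S, g • v = v' ∧ ∃ a : F, a ≠ 0 ∧ g • w = a • w' := by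
  have h1 : f v ((f v w)⁻¹ • w) = 1 := by rw [sympForm_smul_right, inv_mul_cancel₀ h]
  have h2 : f v' ((f v' w')⁻¹ • w') = 1 := by rw [sympForm_smul_right, inv_mul_cancel₀ h']
  obtain ⟨A, -, hA1, hA2⟩ := exists_transvGroup_hyperbolic h1 h2
  refine ⟨A, hA1, f v w * (f v' w')⁻¹, mul_ne_zero h (inv_ne_zero h'), ?_⟩
  have h3 : A • ((f v w)⁻¹ • w) = (f v' w')⁻¹ • w' := hA2
  rw [smul_smul'] at h3
  rw [mul_smul, ← h3, smul_smul, mul_inv_cancel₀ h, one_smul]

theorem transv_sub_smul {x y : V} (h : f x y ≠ 0) : transv (y - x) (f x y)⁻¹ • x = y := by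
  rw [transv_smul, sympForm_sub_right, sympForm_self, sub_zero, inv_mul_cancel₀ h, one_smul,
    add_sub_cancel]

theorem transv_sub_fix {x y u : V} (c : F) (h : f u x = f u y) : transv (y - x) c • u = u := by
  rw [transv_smul, sympForm_sub_right, h, sub_self, mul_zero, zero_smul, add_zero]

/-- the stabiliser of `v` is transitive on the vectors of `v^⊥` outside `⟨v⟩` -/
theorem exists_fix_perp {v w w' : V} (hv : v ≠ 0) (hw : ∀ a : F, w ≠ a • v) (hw' : ∀ a : F, w' ≠ a • v)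
    (h : f v w = 0) (h' : f v w' = 0) : ∃ g : S, g • v = v ∧ g • w = w' := by
  have key : ∀ x y : V, f v x = 0 → f v y = 0 → f x y ≠ 0 → ∃ g : S, g • v = v ∧ g • x = y := by
    intro x y hx hy hxy
    exact ⟨transv (y - x) (f x y)⁻¹, transv_sub_fix _ (hx.trans hy.symm), transv_sub_smul hxy⟩
  obtain ⟨a, ha, ha'⟩ := Cfsg.Agent.LieClassical.SympSimple.exists_perp_of_not_smul hv hw
  obtain ⟨b, hb, hb'⟩ := Cfsg.Agent.LieClassical.SympSimple.exists_perp_of_not_smul hv hw'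
  obtain ⟨z, hz, hz1, hz2⟩ : ∃ z, f v z = 0 ∧ f w z ≠ 0 ∧ f w' z ≠ 0 := by
    by_cases h1 : f w' a = 0
    · by_cases h2 : f w b = 0
      · refine ⟨a + b, ?_, ?_, ?_⟩
        · rw [sympForm_add_right, ha, hb, add_zero]
        · rwa [sympForm_add_right, h2, add_zero]
        · rwa [sympForm_add_right, h1, zero_add]
      · exact ⟨b, hb, h2, hb'⟩
    · exact ⟨a, ha, ha', h1⟩
  obtain ⟨g, hg1, hg2⟩ := key w z h hz hz1
  obtain ⟨k, hk1, hk2⟩ := key z w' hz h' (by rw [sympForm_swap]; exact neg_ne_zero.2 hz2)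
  exact ⟨k * g, by rw [mul_smul, hg1, hk1], by rw [mul_smul, hg2, hk2]⟩

theorem exists_perp {v w v' w' : V} (hv : v ≠ 0) (hv' : v' ≠ 0) (hw : ∀ a : F, w ≠ a • v)
    (hw' : ∀ a : F, w' ≠ a • v') (h : f v w = 0) (h' : f v' w' = 0) :
    ∃ g : S, g • v = v' ∧ g • w = w' := by
  obtain ⟨g, hg⟩ := exists_smul_eq' hv hv'
  have h1 : ∀ a : F, g • w ≠ a • v' := by
    intro a ha
    apply hw a
    have := congrArg (fun x => g⁻¹ • x) ha
    simp only [inv_smul_smul] at this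
    rw [this, ← hg, smul_smul', inv_smul_smul]
  have h2 : f v' (g • w) = 0 := by rw [← hg, form_smul, h]
  obtain ⟨k, hk1, hk2⟩ := exists_fix_perp hv' h1 hw' h2 h'
  exact ⟨k * g, by rw [mul_smul, hg, hk1], by rw [mul_smul, hk2]⟩

/-! ### Counting -/

section Count

variable [Fintype F]

omit [Field F] in
theorem card_V : Nat.card V = Fintype.card F ^ (2 * m) := by
  rw [Nat.card_eq_fintype_card, Fintype.card_fun, Fintype.card_sum, Fintype.card_fin, two_mul]

theorem card_perp_mul {v : V} (hv : v ≠ 0) :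
    Nat.card {x : V // f v x = 0} * Fintype.card F = Fintype.card F ^ (2 * m) := by
  have hs : Function.Surjective (sympBilin m F v) := by
    intro a
    obtain ⟨w, hw⟩ := exists_form_eq_one hv
    exact ⟨a • w, by rw [sympBilin_apply, sympForm_smul_right, hw, mul_one]⟩
  have h1 := Submodule.card_eq_card_quotient_mul_card (LinearMap.ker (sympBilin m F v))
  rw [card_V, Nat.card_congr ((sympBilin m F v).quotKerEquivOfSurjective hs).toEquiv,
    Nat.card_eq_fintype_card (α := F)] at h1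
  rw [h1]
  rfl

theorem card_perp2_mul {v w : V} (hv : v ≠ 0) (hw : ∀ a : F, w ≠ a • v) :
    Nat.card {x : V // f v x = 0 ∧ f w x = 0} * Fintype.card F ^ 2 = Fintype.card F ^ (2 * m) := by
  have hw0 : w ≠ 0 := by
    rintro rfl
    exact hw 0 (zero_smul _ _).symm
  have hv' : ∀ a : F, v ≠ a • w := by
    intro a ha
    have ha0 : a ≠ 0 := by
      rintro rfl
      rw [zero_smul] at ha
      exact hv ha
    apply hw a⁻¹
    rw [ha, smul_smul, inv_mul_cancel₀ ha0, one_smul]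
  obtain ⟨y, hy1, hy2⟩ := Cfsg.Agent.LieClassical.SympSimple.exists_perp_of_not_smul hv hw
  obtain ⟨z, hz1, hz2⟩ := Cfsg.Agent.LieClassical.SympSimple.exists_perp_of_not_smul hw0 hv'
  have hs : Function.Surjective ((sympBilin m F v).prod (sympBilin m F w)) := by
    rintro ⟨a, b⟩
    refine ⟨(a * (f v z)⁻¹) • z + (b * (f w y)⁻¹) • y, ?_⟩
    have e1 : f v ((a * (f v z)⁻¹) • z + (b * (f w y)⁻¹) • y) = a := by
      rw [sympForm_add_right, sympForm_smul_right, sympForm_smul_right, hy1, mul_zero, add_zero, mul_assoc,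
        inv_mul_cancel₀ hz2, mul_one]
    have e2 : f w ((a * (f v z)⁻¹) • z + (b * (f w y)⁻¹) • y) = b := by
      rw [sympForm_add_right, sympForm_smul_right, sympForm_smul_right, hz1, mul_zero, zero_add, mul_assoc,
        inv_mul_cancel₀ hy2, mul_one]
    exact Prod.ext e1 e2
  have h1 := Submodule.card_eq_card_quotient_mul_card
    (LinearMap.ker ((sympBilin m F v).prod (sympBilin m F w)))
  rw [card_V, Nat.card_congr (((sympBilin m F v).prod (sympBilin m F w)).quotKerEquivOfSurjective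
    hs).toEquiv, Nat.card_prod, Nat.card_eq_fintype_card (α := F), ← sq] at h1
  rw [h1]
  congr 1
  refine Nat.card_congr (Equiv.subtypeEquivRight fun x => ?_)
  rw [LinearMap.mem_ker]
  constructor
  · rintro ⟨h2, h3⟩
    exact Prod.ext h2 h3
  · intro h2
    exact ⟨congrArg Prod.fst h2, congrArg Prod.snd h2⟩

end Count

theorem card_fiber {A B : Type*} [Finite A] [Finite B] (φ : A → B) (c : ℕ)
    (h : ∀ b, Nat.card {a : A // φ a = b} = c) : Nat.card A = Nat.card B * c := by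
  classical
  have : Fintype B := Fintype.ofFinite B
  rw [Nat.card_congr (Equiv.sigmaFiberEquiv φ).symm, Nat.card_sigma, Finset.sum_congr rfl fun b _ => h b,
    Finset.sum_const, Finset.card_univ, smul_eq_mul, Nat.card_eq_fintype_card]

/-! ### The transvection groups -/

section Points

variable {G : Type*} [Group G] (ι : PSp m F →* G)

/-- the transvection group with centre `v` -/
def X (v : V) : Subgroup G where
  carrier := {x | ∃ c : F, x = ι (pr (transv v c))}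
  mul_mem' := by
    rintro _ _ ⟨c, rfl⟩ ⟨d, rfl⟩
    exact ⟨c + d, by rw [← map_mul, ← pr_mul, transv_mul]⟩
  one_mem' := ⟨0, by rw [transv_zero, pr_one, map_one]⟩
  inv_mem' := by
    rintro _ ⟨c, rfl⟩
    exact ⟨-c, by rw [← map_inv, ← pr_inv, transv_inv]⟩

theorem mem_X {v : V} {x : G} : x ∈ X ι v ↔ ∃ c : F, x = ι (pr (transv v c)) := Iff.rfl

theorem X_smul {v : V} {a : F} (ha : a ≠ 0) : X ι (a • v) = X ι v := by
  ext x
  constructor
  · rintro ⟨c, rfl⟩
    exact ⟨a ^ 2 * c, by rw [transv_smul_vec]⟩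
  · rintro ⟨c, rfl⟩
    exact ⟨(a ^ 2)⁻¹ * c, by rw [← transv_smul_vec' v ha]⟩

theorem conj_X (g : S) (v : V) :
    (X ι v).map (MulAut.conj (ι (pr g))).toMonoidHom = X ι (g • v) := by
  ext x
  constructor
  · rintro ⟨_, ⟨c, rfl⟩, rfl⟩
    exact ⟨c, by
      show ι (pr g) * ι (pr (transv v c)) * (ι (pr g))⁻¹ = _
      rw [← map_inv, ← map_mul, ← map_mul, conj_transv_eq]⟩
  · rintro ⟨c, rfl⟩
    exact ⟨ι (pr (transv v c)), ⟨c, rfl⟩, by
      show ι (pr g) * ι (pr (transv v c)) * (ι (pr g))⁻¹ = _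
      rw [← map_inv, ← map_mul, ← map_mul, conj_transv_eq]⟩

/-- the set of the transvection groups -/
def P : Type _ := {Y : Subgroup G // ∃ v : V, v ≠ 0 ∧ Y = X ι v}

/-- the transvection group with centre `v` as a point -/
def pt (v : V) (hv : v ≠ 0) : P ι := ⟨X ι v, v, hv, rfl⟩

/-- `G` permutes the transvection groups -/
def Inv : Prop :=
  ∀ g : G, ∀ v : V, v ≠ 0 → ∃ v' : V, v' ≠ 0 ∧ (X ι v).map (MulAut.conj g).toMonoidHom = X ι v'

variable {ι} in
/-- the action of `G` on the transvection groups -/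
@[instance_reducible] def act (h : Inv ι) : MulAction G (P ι) where
  smul g Y := ⟨Y.1.map (MulAut.conj g).toMonoidHom, by
    obtain ⟨Y, v, hv, rfl⟩ := Y
    obtain ⟨v', hv', h'⟩ := h g v hv
    exact ⟨v', hv', h'⟩⟩
  one_smul Y := Subtype.ext (by
    show Y.1.map (MulAut.conj (1 : G)).toMonoidHom = Y.1
    ext x
    simp)
  mul_smul g k Y := Subtype.ext (by
    show Y.1.map (MulAut.conj (g * k)).toMonoidHom =
      (Y.1.map (MulAut.conj k).toMonoidHom).map (MulAut.conj g).toMonoidHom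
    rw [Subgroup.map_map, map_mul]
    rfl)

/-- perpendicular points: commuting transvection groups -/
def Perp (Y Z : P ι) : Prop := ∀ x ∈ Y.1, ∀ y ∈ Z.1, x * y = y * x

instance finiteP [Finite F] : Finite (P ι) := by
  have h : Function.Surjective (fun v : {v : V // v ≠ 0} => pt ι v.1 v.2) := by
    rintro ⟨_, v, hv, rfl⟩
    exact ⟨⟨v, hv⟩, rfl⟩
  exact Finite.of_surjective _ h

section P

variable (p : ℕ) [Fact p.Prime] [CharP F p] (hm : 1 ≤ m) (hι : Function.Injective ι)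

include p hm hι

theorem ι_transv_inj {v : V} (hv : v ≠ 0) {c d : F} (h : ι (pr (transv v c)) = ι (pr (transv v d))) :
    c = d := by
  have h1 := eq_of_pr_eq p hm (transv_pow_char p v c) (transv_pow_char p v d) (hι h)
  have h2 : transv v (c - d) = 1 := by
    rw [sub_eq_add_neg, ← transv_mul, ← transv_inv, h1, mul_inv_cancel]
  by_contra hne
  exact transv_ne_one hv (sub_ne_zero.2 hne) h2

theorem X_eq_of_mem {v w : V} (hv : v ≠ 0) {x : G} (hx : x ≠ 1) (h1 : x ∈ X ι v)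
    (h2 : x ∈ X ι w) : ∃ a : F, a ≠ 0 ∧ w = a • v := by
  obtain ⟨c, rfl⟩ := h1
  obtain ⟨d, hd⟩ := h2
  have hc : c ≠ 0 := by
    rintro rfl
    exact hx (by rw [transv_zero, pr_one, map_one])
  have h3 := eq_of_pr_eq p hm (transv_pow_char p v c) (transv_pow_char p w d) (hι hd)
  obtain ⟨a, ha⟩ := transv_eq_transv hv hc h3
  refine ⟨a, ?_, ha⟩
  rintro rfl
  rw [zero_smul] at ha
  rw [ha] at h3
  have h4 : transv (0 : V) d = 1 := by
    apply ext_smul
    intro x
    rw [transv_smul, smul_zero, add_zero, one_smul]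
  rw [h4] at h3
  exact transv_ne_one hv hc h3

theorem X_inj {v w : V} (hv : v ≠ 0) (h : X ι v = X ι w) : ∃ a : F, a ≠ 0 ∧ w = a • v := by
  refine X_eq_of_mem ι p hm hι hv (x := ι (pr (transv v 1))) ?_ ⟨1, rfl⟩ (h ▸ ⟨1, rfl⟩)
  intro h1
  apply pr_transv_ne_one p hm hv (one_ne_zero (α := F))
  apply hι
  rw [h1, map_one]

theorem card_X [Fintype F] {v : V} (hv : v ≠ 0) : Nat.card (X ι v) = Fintype.card F := by
  rw [← Nat.card_eq_fintype_card]
  symm
  refine Nat.card_congr (Equiv.ofBijective (fun c : F => (⟨ι (pr (transv v c)), c, rfl⟩ : X ι v)) ⟨?_, ?_⟩)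
  · intro c d h
    exact ι_transv_inj ι p hm hι hv (congrArg Subtype.val h)
  · rintro ⟨_, c, rfl⟩
    exact ⟨c, rfl⟩

theorem comm_iff {v w : V} : (∀ x ∈ X ι v, ∀ y ∈ X ι w, x * y = y * x) ↔ f v w = 0 := by
  constructor
  · intro h
    rw [← commute_iff p hm (one_ne_zero (α := F)) (one_ne_zero (α := F))]
    apply hι
    rw [map_mul, map_mul]
    exact h _ ⟨1, rfl⟩ _ ⟨1, rfl⟩
  · rintro h _ ⟨c, rfl⟩ _ ⟨d, rfl⟩
    by_cases hc : c = 0
    · rw [hc, transv_zero, pr_one, map_one, one_mul, mul_one]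
    by_cases hd : d = 0
    · rw [hd, transv_zero, pr_one, map_one, one_mul, mul_one]
    rw [← map_mul, ← map_mul, (commute_iff p hm hc hd).2 h]

theorem pt_eq_iff {v w : V} (hv : v ≠ 0) (hw : w ≠ 0) :
    pt ι w hw = pt ι v hv ↔ ∃ a : F, a ≠ 0 ∧ w = a • v := by
  constructor
  · intro h
    exact X_inj ι p hm hι hv (congrArg Subtype.val h).symm
  · rintro ⟨a, ha, rfl⟩
    exact Subtype.ext (X_smul ι ha)

theorem card_pred [Fintype F] (R : P ι → Prop) :
    Nat.card {v : V // ∃ h : v ≠ 0, R (pt ι v h)} = Nat.card {Y : P ι // R Y} * (Fintype.card F - 1) := by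
  classical
  refine card_fiber (fun v : {v : V // ∃ h : v ≠ 0, R (pt ι v h)} =>
    (⟨pt ι v.1 v.2.1, v.2.2⟩ : {Y : P ι // R Y})) _ ?_
  rintro ⟨⟨_, v₀, hv₀, rfl⟩, hR⟩
  have h1 : Nat.card {a : F // a ≠ 0} = Fintype.card F - 1 := by
    rw [Nat.card_eq_fintype_card, Fintype.card_subtype_compl, Fintype.card_subtype_eq]
  rw [← h1]
  symm
  have hpt : ∀ a : F, (ha : a ≠ 0) → pt ι (a • v₀) (smul_ne_zero ha hv₀) = ⟨X ι v₀, v₀, hv₀, rfl⟩ :=
    fun a ha => Subtype.ext (X_smul ι ha)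
  refine Nat.card_congr (Equiv.ofBijective (fun a : {a : F // a ≠ 0} =>
    (⟨⟨a.1 • v₀, smul_ne_zero a.2 hv₀, (hpt a.1 a.2).symm ▸ hR⟩, Subtype.ext (hpt a.1 a.2)⟩ :
    {v : {v : V // ∃ h : v ≠ 0, R (pt ι v h)} // (⟨pt ι v.1 v.2.1, v.2.2⟩ : {Y : P ι // R Y}) =
      ⟨⟨X ι v₀, v₀, hv₀, rfl⟩, hR⟩})) ⟨?_, ?_⟩)
  · intro a b h
    have h2 : a.1 • v₀ = b.1 • v₀ := congrArg (fun x => x.1.1) h
    exact Subtype.ext (smul_right_cancel_vec hv₀ h2)
  · rintro ⟨⟨w, hw, hRw⟩, h⟩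
    have h2 : pt ι w hw = pt ι v₀ hv₀ := congrArg Subtype.val h
    obtain ⟨a, ha, rfl⟩ := (pt_eq_iff ι p hm hι hv₀ hw).1 h2
    exact ⟨⟨a, ha⟩, rfl⟩

omit p hm hι [Fact p.Prime] [CharP F p] in
theorem card_nonzero [Finite F] (R : V → Prop) (h0 : R 0) :
    Nat.card {v : V // v ≠ 0 ∧ R v} + 1 = Nat.card {v : V // R v} := by
  classical
  have : Fintype F := Fintype.ofFinite F
  rw [Nat.card_eq_fintype_card, Nat.card_eq_fintype_card, Fintype.card_subtype, Fintype.card_subtype]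
  have h1 : (Finset.univ.filter fun v : V => v ≠ 0 ∧ R v) = (Finset.univ.filter fun v : V => R v).erase 0 := by
    ext v
    simp
  rw [h1, Finset.card_erase_add_one]
  simpa using h0

theorem card_P [Fintype F] : Nat.card (P ι) * (Fintype.card F - 1) = Fintype.card F ^ (2 * m) - 1 := by
  have h1 := card_pred ι p hm hι (fun _ => True)
  have h2 := card_nonzero (F := F) (m := m) (fun _ => True) trivial
  have h3 : Nat.card {v : V // ∃ h : v ≠ 0, (fun _ : P ι => True) (pt ι v h)} =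
      Nat.card {v : V // v ≠ 0 ∧ True} :=
    Nat.card_congr (Equiv.subtypeEquivRight fun v => by simp)
  have h4 : Nat.card {v : V // True} = Nat.card V := Nat.card_congr (Equiv.subtypeUnivEquiv fun _ => trivial)
  have h5 : Nat.card {Y : P ι // True} = Nat.card (P ι) :=
    Nat.card_congr (Equiv.subtypeUnivEquiv fun _ => trivial)
  rw [h3, h5] at h1
  rw [h4, card_V] at h2
  omega

theorem perp_pt {v w : V} (hv : v ≠ 0) (hw : w ≠ 0) : Perp ι (pt ι v hv) (pt ι w hw) ↔ f v w = 0 :=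
  comm_iff ι p hm hι

theorem card_K [Fintype F] (Y : P ι) : Nat.card {Z : P ι // Perp ι Y Z} * (Fintype.card F - 1) =
    Fintype.card F ^ (2 * m - 1) - 1 := by
  obtain ⟨_, v, hv, rfl⟩ := Y
  have h1 := card_pred ι p hm hι (fun Z => Perp ι (pt ι v hv) Z)
  have h2 := card_nonzero (F := F) (m := m) (fun x => f v x = 0) (sympForm_zero_right v)
  have h3 : Nat.card {x : V // ∃ h : x ≠ 0, Perp ι (pt ι v hv) (pt ι x h)} =
      Nat.card {x : V // x ≠ 0 ∧ f v x = 0} :=
    Nat.card_congr (Equiv.subtypeEquivRight fun x => by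
      constructor
      · rintro ⟨h, h'⟩
        exact ⟨h, (perp_pt ι p hm hι hv h).1 h'⟩
      · rintro ⟨h, h'⟩
        exact ⟨h, (perp_pt ι p hm hι hv h).2 h'⟩)
  have h4 := card_perp_mul hv
  obtain ⟨k, hk⟩ : ∃ k, 2 * m = k + 1 := ⟨2 * m - 1, by omega⟩
  rw [hk, pow_succ] at h4
  have h5 := Nat.eq_of_mul_eq_mul_right Fintype.card_pos h4
  rw [h3] at h1
  have h6 : 2 * m - 1 = k := by omega
  rw [h6, ← h5, ← h2, Nat.add_sub_cancel]
  exact h1.symm

theorem card_mu [Fintype F] (Y Y' : P ι) (hne : Y ≠ Y') :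
    Nat.card {Z : P ι // Perp ι Y Z ∧ Perp ι Y' Z} * (Fintype.card F - 1) =
    Fintype.card F ^ (2 * m - 2) - 1 := by
  obtain ⟨_, v, hv, rfl⟩ := Y
  obtain ⟨_, w, hw, rfl⟩ := Y'
  have hvw : ∀ a : F, w ≠ a • v := by
    intro a ha
    have ha0 : a ≠ 0 := by
      rintro rfl
      rw [zero_smul] at ha
      exact hw ha
    apply hne
    exact ((pt_eq_iff ι p hm hι hv hw).2 ⟨a, ha0, ha⟩).symm
  have h1 := card_pred ι p hm hι (fun Z => Perp ι (pt ι v hv) Z ∧ Perp ι (pt ι w hw) Z)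
  have h2 := card_nonzero (F := F) (m := m) (fun x => f v x = 0 ∧ f w x = 0)
    ⟨sympForm_zero_right v, sympForm_zero_right w⟩
  have h3 : Nat.card {x : V // ∃ h : x ≠ 0, Perp ι (pt ι v hv) (pt ι x h) ∧ Perp ι (pt ι w hw) (pt ι x h)} =
      Nat.card {x : V // x ≠ 0 ∧ f v x = 0 ∧ f w x = 0} :=
    Nat.card_congr (Equiv.subtypeEquivRight fun x => by
      constructor
      · rintro ⟨h, h', h''⟩
        exact ⟨h, (perp_pt ι p hm hι hv h).1 h', (perp_pt ι p hm hι hw h).1 h''⟩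
      · rintro ⟨h, h', h''⟩
        exact ⟨h, (perp_pt ι p hm hι hv h).2 h', (perp_pt ι p hm hι hw h).2 h''⟩)
  have h4 := card_perp2_mul hv hvw
  obtain ⟨k, hk⟩ : ∃ k, 2 * m = k + 2 := ⟨2 * m - 2, by omega⟩
  rw [hk, pow_add] at h4
  have h5 := Nat.eq_of_mul_eq_mul_right (pow_pos Fintype.card_pos 2) h4
  rw [h3] at h1
  have h6 : 2 * m - 2 = k := by omega
  rw [h6, ← h5, ← h2, Nat.add_sub_cancel]
  exact h1.symm

/-- **The rank three step.** -/
theorem rank [Fintype F] (hm2 : 2 ≤ m) {Ω : Type*} [MulAction G Ω] [Finite Ω]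
    (h2 : ∀ a b c d : Ω, a ≠ b → c ≠ d → ∃ g : G, g • a = c ∧ g • b = d)
    (h1 : ∀ a b : Ω, ∃ g : G, g • a = b) (hinv : Inv ι) (a : Ω) (hΩ : 2 ≤ Nat.card Ω) :
    (∀ v w : V, v ≠ 0 → w ≠ 0 → ∃ g : G, g • a = a ∧ (X ι v).map (MulAut.conj g).toMonoidHom = X ι w) ∨
    Nat.card Ω = Nat.card (P ι) ∨
    (Fintype.card F : ℤ) ^ (2 * m - 2) * (2 * Nat.card Ω - 1 - Nat.card (P ι)) ^ 2 =
      ((Fintype.card F : ℤ) ^ (2 * m - 1)) ^ 2 := by
  classical
  have : Fintype Ω := Fintype.ofFinite Ω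
  have : Fintype (P ι) := Fintype.ofFinite _
  let _ := act hinv
  -- three vectors
  obtain ⟨e, e', hee⟩ := exists_hyperbolic (F := F) hm
  have he : e ≠ 0 := ne_zero_of_form_left (by rw [hee]; exact one_ne_zero)
  have he' : e' ≠ 0 := ne_zero_of_form_right (by rw [hee]; exact one_ne_zero)
  have hS : ∀ (g : S) (v : V) (hv : v ≠ 0), ι (pr g) • pt ι v hv = pt ι (g • v) (smul_ne_zero' g hv) := by
    intro g v hv
    exact Subtype.ext (conj_X ι g v)
  have hpa : ∀ {v w : V} (hv : v ≠ 0) (hw : w ≠ 0) {b : F}, b ≠ 0 → w = b • v → pt ι w hw = pt ι v hv :=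
    fun {_ _} hv hw {b} hb h => (pt_eq_iff ι p hm hι hv hw).2 ⟨b, hb, h⟩
  -- a vector perpendicular to `e`, not in `⟨e⟩`
  obtain ⟨e2, he2, hee2⟩ : ∃ e2 : V, (∀ b : F, e2 ≠ b • e) ∧ f e e2 = 0 := by
    have h4 := card_perp_mul he
    by_contra hcon
    push Not at hcon
    have h5 : ∀ x : V, f e x = 0 → ∃ b : F, x = b • e := by
      intro x hx
      by_contra h
      push Not at h
      exact hcon x h hx
    have h6 : Nat.card {x : V // f e x = 0} ≤ Nat.card F := by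
      choose g hg using h5
      refine Nat.card_le_card_of_injective (fun x : {x : V // f e x = 0} => g x.1 x.2) ?_
      intro x y hxy
      apply Subtype.ext
      rw [hg x.1 x.2, hg y.1 y.2]
      exact congrArg (· • e) hxy
    rw [Nat.card_eq_fintype_card (α := F)] at h6
    have h7 : Fintype.card F ^ (2 * m) ≤ Fintype.card F ^ 2 := by
      rw [← h4, sq]
      exact Nat.mul_le_mul_right _ h6
    have h8 := (Nat.pow_le_pow_iff_right (Fintype.one_lt_card (α := F))).1 h7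
    omega
  have he20 : e2 ≠ 0 := by
    rintro rfl
    exact he2 0 (zero_smul _ _).symm
  have hq1 : 0 < Fintype.card F - 1 := by
    have := Fintype.one_lt_card (α := F)
    omega
  obtain ⟨K, hK⟩ : ∃ K, K = Nat.card {Z : P ι // Perp ι (pt ι e he) Z} := ⟨_, rfl⟩
  have hne2 : pt ι e he ≠ pt ι e2 he20 := by
    intro h
    obtain ⟨b, hb, h3⟩ := (pt_eq_iff ι p hm hι he he20).1 h.symm
    exact he2 b h3
  obtain ⟨μ, hμ⟩ : ∃ μ, μ = Nat.card {Z : P ι // Perp ι (pt ι e he) Z ∧ Perp ι (pt ι e2 he20) Z} := ⟨_, rfl⟩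
  have hKall : ∀ Y : P ι, Nat.card {Z : P ι // Perp ι Y Z} = K := by
    intro Y
    apply Nat.eq_of_mul_eq_mul_right hq1
    rw [card_K ι p hm hι, hK, card_K ι p hm hι]
  have hμall : ∀ Y Y' : P ι, Y ≠ Y' → Nat.card {Z : P ι // Perp ι Y Z ∧ Perp ι Y' Z} = μ := by
    intro Y Y' h
    apply Nat.eq_of_mul_eq_mul_right hq1
    rw [card_mu ι p hm hι _ _ h, hμ, card_mu ι p hm hι _ _ hne2]
  have hres := TwoSpA.rank_three (G := G) (Ω := Ω) (P := P ι) h2 h1 (Perp ι)
    (by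
      rintro ⟨_, v, hv, rfl⟩
      exact (perp_pt ι p hm hι hv hv).2 (sympForm_self v))
    (fun Y Z h x hx y hy => (h y hy x hx).symm)
    (by
      rintro ⟨_, v, hv, rfl⟩ ⟨_, w, hw, rfl⟩
      obtain ⟨g, hg⟩ := exists_smul_eq' hv hw
      exact ⟨ι (pr g), by subst hg; exact hS g v hv⟩)
    (by
      rintro ⟨_, v, hv, rfl⟩ ⟨_, w, hw, rfl⟩ ⟨_, v', hv', rfl⟩ ⟨_, w', hw', rfl⟩ hne hperp hne' hperp'
      have h3 : ∀ {v w : V} (hv : v ≠ 0) (hw : w ≠ 0), pt ι v hv ≠ pt ι w hw → ∀ b : F, w ≠ b • v := by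
        intro v w hv hw h b hb
        have hb0 : b ≠ 0 := by
          rintro rfl
          rw [zero_smul] at hb
          exact hw hb
        exact h (hpa hv hw hb0 hb).symm
      obtain ⟨g, hg1, hg2⟩ := exists_perp hv hv' (h3 hv hw hne) (h3 hv' hw' hne')
        ((perp_pt ι p hm hι hv hw).1 hperp) ((perp_pt ι p hm hι hv' hw').1 hperp')
      subst hg1
      subst hg2
      exact ⟨ι (pr g), hS g v hv, hS g w hw⟩)
    (by
      rintro ⟨_, v, hv, rfl⟩ ⟨_, w, hw, rfl⟩ ⟨_, v', hv', rfl⟩ ⟨_, w', hw', rfl⟩ hperp hperp'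
      have h3 : f v w ≠ 0 := fun h => hperp ((perp_pt ι p hm hι hv hw).2 h)
      have h4 : f v' w' ≠ 0 := fun h => hperp' ((perp_pt ι p hm hι hv' hw').2 h)
      obtain ⟨g, hg1, b, hb, hg2⟩ := exists_hyp h3 h4
      refine ⟨ι (pr g), ?_, ?_⟩
      · subst hg1
        exact hS g v hv
      · refine (hS g w hw).trans ?_
        exact hpa hw' (smul_ne_zero' g hw) hb hg2)
    ⟨pt ι e he, pt ι e2 he20, hne2, (perp_pt ι p hm hι he he20).2 hee2⟩
    ⟨pt ι e he, pt ι e' he', fun h => one_ne_zero (hee.symm.trans ((perp_pt ι p hm hι he he').1 h))⟩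
    K μ hKall hμall a (by rwa [← Nat.card_eq_fintype_card])
  rcases hres with h | h | h
  · left
    intro v w hv hw
    obtain ⟨g, hg1, hg2⟩ := h (pt ι v hv) (pt ι w hw)
    exact ⟨g, hg1, congrArg Subtype.val hg2⟩
  · right; left
    rw [Nat.card_eq_fintype_card, Nat.card_eq_fintype_card, h]
  · right; right
    have hKc := card_K ι p hm hι (pt ι e he)
    have hμc := card_mu ι p hm hι _ _ hne2
    have hPc := card_P ι p hm hι
    rw [← hK] at hKc
    rw [← hμ] at hμc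
    obtain ⟨q, hq⟩ : ∃ q, Fintype.card F = q + 1 := ⟨Fintype.card F - 1, by omega⟩
    obtain ⟨k, hk⟩ : ∃ k, 2 * m = k + 2 := ⟨2 * m - 2, by omega⟩
    have hk1 : 2 * m - 1 = k + 1 := by omega
    have hk2 : 2 * m - 2 = k := by omega
    rw [hq, hk1, Nat.add_sub_cancel] at hKc
    rw [hq, hk2, Nat.add_sub_cancel] at hμc
    rw [hq, hk, Nat.add_sub_cancel] at hPc
    rw [hq, hk1, hk2]
    have hq0 : (q : ℤ) ≠ 0 := by
      have : q ≠ 0 := by omega
      exact_mod_cast this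
    have cast : ∀ (A j : ℕ), A * q = (q + 1) ^ j - 1 → (A : ℤ) * q = ((q : ℤ) + 1) ^ j - 1 := by
      intro A j h
      have h1 : 1 ≤ (q + 1) ^ j := Nat.one_le_pow _ _ (by omega)
      have := congrArg (Nat.cast : ℕ → ℤ) h
      push_cast [h1] at this
      exact this
    have c1 := cast _ _ hKc
    have c2 := cast _ _ hμc
    have c3 := cast _ _ hPc
    have d1 : (K : ℤ) - μ = ((q : ℤ) + 1) ^ k := by
      have : ((K : ℤ) - μ) * q = ((q : ℤ) + 1) ^ k * q := by
        rw [sub_mul, c1, c2]; ring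
      exact mul_right_cancel₀ hq0 this
    have d2 : (Nat.card (P ι) : ℤ) - K = ((q : ℤ) + 1) ^ (k + 1) := by
      have : ((Nat.card (P ι) : ℤ) - K) * q = ((q : ℤ) + 1) ^ (k + 1) * q := by
        rw [sub_mul, c3, c1]; ring
      exact mul_right_cancel₀ hq0 this
    rw [← Nat.card_eq_fintype_card, ← Nat.card_eq_fintype_card, d1, d2] at h
    push_cast
    exact h

end P

end Points

end Cfsg.Agent.H387.TwoSpGeo
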