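import Mathlib
import Cfsg.Agent.H387.TwoSpGeo
import Cfsg.Agent.H392.LongRoot

/-!
# Orbits of the unipotent radical of a point stabiliser, odd characteristic (helper387, HUB H1)
-/

set_option autoImplicit false
open Cfsg MulAction
open scoped commutatorElement

namespace Cfsg.Agent.H387.TwoSpOdd

open Cfsg.Agent.ClassicalGeometry.SympBasic
open Cfsg.Agent.ClassicalGeometry.SympSiegel
open Cfsg.Agent.ClassicalGeometry.SympAutExists
open Cfsg.Agent.H387.TwoSpGeo
open Cfsg.Agent.H392.LongRoot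

/-- **Heisenberg bound**, general form. -/
theorem heis {Y : Type*} [Group Y] [Finite Y] (X A : Subgroup Y) (hXc : ∀ x ∈ X, ∀ y, x * y = y * x)
    (hcomm : ∀ y y' : Y, ⁅y, y'⁆ ∈ X) (hnd : ∀ y, y ∉ X → ∀ x ∈ X, ∃ y' : Y, ⁅y, y'⁆ = x) (hAX : ¬ X ≤ A) :
    Nat.card A * Nat.card A * Nat.card X ≤ Nat.card (A ⊓ X : Subgroup Y) ^ 2 * Nat.card Y := by
  have hXn : X.Normal := ⟨fun x hx y => by
    rw [← hXc x hx y, mul_inv_cancel_right]; exact hx⟩
  obtain ⟨l, hl1, z, hz, hlz⟩ : ∃ l : X →* ℂˣ, (∀ x (hx : x ∈ X), x ∈ A → l ⟨x, hx⟩ = 1) ∧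
      ∃ z, ∃ hz : z ∈ X, l ⟨z, hz⟩ ≠ 1 := by
    let _ : CommGroup X := { (inferInstance : Group X) with
      mul_comm := fun a b => Subtype.ext (hXc a a.2 b) }
    obtain ⟨z, hz, hzA⟩ := SetLike.not_le_iff_exists.1 hAX
    let Z : Subgroup X := A.subgroupOf X
    have h1 : (QuotientGroup.mk (⟨z, hz⟩ : X) : X ⧸ Z) ≠ 1 := by
      intro h
      exact hzA (Subgroup.mem_subgroupOf.1 ((QuotientGroup.eq_one_iff (N := Z) _).1 h))
    obtain ⟨φ, hφ⟩ := CommGroup.exists_apply_ne_one_of_hasEnoughRootsOfUnity (X ⧸ Z) ℂ h1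
    refine ⟨φ.comp (QuotientGroup.mk' Z), ?_, z, hz, hφ⟩
    intro x hx hxA
    have : (QuotientGroup.mk' Z) ⟨x, hx⟩ = 1 := (QuotientGroup.eq_one_iff _).2 hxA
    rw [MonoidHom.comp_apply, this, map_one]
  have h1 := pairing A ⊤ X (A ⊔ X) X (fun a _ n _ => hcomm a n)
    (fun x hx a _ => hXc x hx a) (fun x hx n _ => hXc x hx n) l le_top (by
      intro a ha b hb
      obtain ⟨y, hy, x, hx, rfl⟩ := Subgroup.mem_sup_of_normal_right.1 hb
      have h2 : ⁅a, y * x⁆ = ⁅a, y⁆ := by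
        have h3 : Commute x a := hXc x hx a
        have h4 : Commute x y := hXc x hx y
        simp only [commutatorElement_def]
        have h5 : x * a⁻¹ * x⁻¹ = a⁻¹ := by
          rw [h3.inv_right.eq, mul_inv_cancel_right]
        calc a * (y * x) * a⁻¹ * (y * x)⁻¹ = a * y * (x * a⁻¹ * x⁻¹) * y⁻¹ := by group
          _ = a * y * a⁻¹ * y⁻¹ := by rw [h5]
      have h3 : ⁅a, y⁆ ∈ A := by
        rw [commutatorElement_def]
        exact A.mul_mem (A.mul_mem (A.mul_mem ha hy) (A.inv_mem ha)) (A.inv_mem hy)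
      exact hl1 _ _ (h2 ▸ h3)) (by
      intro a ha h
      by_contra haX
      obtain ⟨y, hay⟩ := hnd a haX z hz
      apply hlz
      rw [← h y trivial]
      congr 1
      exact Subtype.ext hay.symm)
  rw [Subgroup.card_top] at h1
  have h2 := card_inf_mul_relIndex A X
  have h3 := card_inf_mul_relIndex (A ⊔ X) X
  rw [Subgroup.relIndex_sup_right, inf_eq_right.2 (le_sup_right : X ≤ A ⊔ X)] at h3
  calc Nat.card A * Nat.card A * Nat.card X
      = Nat.card (A ⊓ X : Subgroup Y) * (Nat.card A * Nat.card (A ⊔ X : Subgroup Y)) := by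
        rw [← h3]
        conv_lhs => rw [mul_assoc, ← h2]
        conv_rhs => rw [← h2]
        ring
    _ ≤ Nat.card (A ⊓ X : Subgroup Y) * (Nat.card (A ⊓ X : Subgroup Y) * Nat.card Y) :=
        Nat.mul_le_mul_left _ h1
    _ = _ := by ring

theorem dvd_card_of_orbits {K Ω : Type*} [Group K] [MulAction K Ω] [Finite Ω] (d : ℕ)
    (h : ∀ x : Ω, d ∣ Nat.card (orbit K x)) : d ∣ Nat.card Ω := by
  classical
  have : Fintype Ω := Fintype.ofFinite Ω
  have h2 : Nat.card Ω = ∑ ω : Quotient (orbitRel K Ω), Nat.card (orbitRel.Quotient.orbit ω) := by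
    rw [Nat.card_congr (MulAction.selfEquivSigmaOrbits' K Ω), Nat.card_sigma]
  rw [h2]
  apply Finset.dvd_sum
  intro ω _
  induction ω using Quotient.inductionOn with
  | h b =>
    rw [MulAction.orbitRel.Quotient.orbit_mk]
    exact h b

section

variable {F : Type*} [Field F] {m : ℕ}

local notation "V" => (Fin m ⊕ Fin m → F)
local notation "S" => Matrix.symplecticGroup (Fin m) F
local notation "f" => sympForm m F

/-- the transvections in `Q e` -/
def XQ (e : V) : Subgroup (Q e) where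
  carrier := {g | ∃ c : F, (g : S) = transv e c}
  mul_mem' := by
    rintro ⟨g, hg⟩ ⟨k, hk⟩ ⟨c, hc⟩ ⟨d, hd⟩
    refine ⟨c + d, ?_⟩
    have hc' : g = transv e c := hc
    have hd' : k = transv e d := hd
    show g * k = _
    rw [hc', hd', transv_mul]
  one_mem' := ⟨0, by rw [transv_zero]; rfl⟩
  inv_mem' := by
    rintro ⟨g, hg⟩ ⟨c, hc⟩
    refine ⟨-c, ?_⟩
    have hc' : g = transv e c := hc
    show g⁻¹ = _
    rw [hc', transv_inv]

theorem commutator_siegel {e w w' : V} (h : f e w = 0) (h' : f e w' = 0) (c c' : F) :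
    ⁅siegel e w c, siegel e w' c'⁆ = transv e (-(2 * f w w')) := by
  have h1 : f e (w + w') = 0 := by rw [sympForm_add_right, h, h', add_zero]
  have h2 : f e (w' + w) = 0 := by rw [sympForm_add_right, h, h', add_zero]
  have h3 : f e (-(w' + w)) = 0 := form_neg_eq_zero h2
  rw [commutatorElement_def, siegel_mul h h', mul_assoc, ← mul_inv_rev, siegel_mul h' h, siegel_inv h2,
    siegel_mul h1 h3, ← siegel_zero_eq_transv]
  congr 1
  · abel
  · rw [sympForm_neg_right, sympForm_add_left, sympForm_add_right, sympForm_add_right, sympForm_self,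
      sympForm_self, sympForm_swap w' w]
    ring

theorem card_Q [Fintype F] {e : V} (he : e ≠ 0) :
    Nat.card (Q e) * Fintype.card F = Fintype.card F ^ (2 * m) := by
  obtain ⟨e', hee⟩ := exists_form_eq_one he
  have he0' : ∀ a : F, e' ≠ a • e := by
    rintro a rfl
    rw [sympForm_smul_right, sympForm_self, mul_zero] at hee
    exact zero_ne_one hee
  have h1 := card_perp2_mul he he0'
  rw [← h1, sq, ← mul_assoc]
  congr 1
  rw [← Nat.card_eq_fintype_card (α := F), ← Nat.card_prod]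
  symm
  refine Nat.card_congr (Equiv.ofBijective (fun x : {x : V // f e x = 0 ∧ f e' x = 0} × F =>
    (⟨siegel e x.1.1 x.2, siegel_mem_Q x.1.2.1 x.2⟩ : Q e)) ⟨?_, ?_⟩)
  · rintro ⟨⟨w, hw, hw'⟩, c⟩ ⟨⟨u, hu, hu'⟩, d⟩ h
    have h3 : siegel e w c = siegel e u d := congrArg Subtype.val h
    obtain ⟨h4, h5⟩ := siegel_inj hee hw hu (form_eq_zero_comm.1 hw') (form_eq_zero_comm.1 hu') h3
    subst h4
    subst h5
    rfl
  · rintro ⟨_, w, c, hw, rfl⟩
    obtain ⟨a, ha⟩ : ∃ a, a = f w e' := ⟨_, rfl⟩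
    have hw0 : f e (w - a • e) = 0 := by
      rw [sympForm_sub_right, sympForm_smul_right, sympForm_self, hw, mul_zero, sub_zero]
    have hw1 : f e' (w - a • e) = 0 := by
      rw [sympForm_sub_right, sympForm_smul_right, sympForm_swap e' e, hee, sympForm_swap e' w, ha]
      ring
    refine ⟨(⟨w - a • e, hw0, hw1⟩, c + 2 * a), Subtype.ext ?_⟩
    show siegel e (w - a • e) (c + 2 * a) = siegel e w c
    rw [← siegel_add_smul hw0 a c, sub_add_cancel]

theorem card_XQ [Fintype F] {e : V} (he : e ≠ 0) : Nat.card (XQ e) = Fintype.card F := by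
  rw [← Nat.card_eq_fintype_card]
  symm
  refine Nat.card_congr (Equiv.ofBijective (fun c : F =>
    (⟨⟨transv e c, transv_mem_Q e c⟩, c, rfl⟩ : XQ e)) ⟨?_, ?_⟩)
  · intro c d h
    have h1 : transv e c = transv e d := congrArg (fun x : XQ e => ((x : Q e) : S)) h
    have h2 : transv e (c - d) = 1 := by
      rw [sub_eq_add_neg, ← transv_mul, ← transv_inv, h1, mul_inv_cancel]
    by_contra hne
    exact transv_ne_one he (sub_ne_zero.2 hne) h2
  · rintro ⟨⟨g, hg⟩, c, hc⟩
    refine ⟨c, Subtype.ext (Subtype.ext ?_)⟩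
    exact hc.symm

/-- **The odd case.** -/
theorem dvd [Fintype F] (p : ℕ) [Fact p.Prime] [CharP F p] (hp2 : p ≠ 2) (hm : 1 ≤ m) {Ω : Type*} [Finite Ω]
    [MulAction S Ω] {e : V} (he : e ≠ 0) {h l : ℕ} (hl : 1 < l) (hq : Fintype.card F = h * l)
    (hh : ∀ x : Ω, Nat.card {c : F // transv e c • x = x} = h) :
    Fintype.card F ^ (m - 1) * l ∣ Nat.card Ω := by
  have hp : p.Prime := Fact.out
  have h2 : (2 : F) ≠ 0 := by
    intro h0
    have h1 := (CharP.cast_eq_zero_iff F p 2).1 (by exact_mod_cast h0)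
    exact hp2 ((Nat.prime_dvd_prime_iff_eq hp Nat.prime_two).1 h1)
  have : Finite (Q e) := Subtype.finite
  apply dvd_card_of_orbits (K := Q e)
  intro x
  -- the bound
  have hXc : ∀ x ∈ XQ e, ∀ y : Q e, x * y = y * x := by
    rintro ⟨g, hg⟩ ⟨c, hc⟩ ⟨k, hk⟩
    apply Subtype.ext
    have hc' : g = transv e c := hc
    show g * k = k * g
    rw [hc']
    have h3 := conj_transv k e c
    rw [smul_eq_self_of_mem_Q hk] at h3
    exact (mul_inv_eq_iff_eq_mul.1 h3).symm
  have hinf : Nat.card (stabilizer (Q e) x ⊓ XQ e : Subgroup (Q e)) = h := by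
    rw [← hh x]
    symm
    refine Nat.card_congr (Equiv.ofBijective (fun c : {c : F // transv e c • x = x} =>
      (⟨⟨transv e c.1, transv_mem_Q e c.1⟩, c.2, c.1, rfl⟩ :
        (stabilizer (Q e) x ⊓ XQ e : Subgroup (Q e)))) ⟨?_, ?_⟩)
    · intro c d h
      have h1 : transv e c.1 = transv e d.1 := congrArg (fun y :
        (stabilizer (Q e) x ⊓ XQ e : Subgroup (Q e)) => ((y : Q e) : S)) h
      have h2 : transv e (c.1 - d.1) = 1 := by
        rw [sub_eq_add_neg, ← transv_mul, ← transv_inv, h1, mul_inv_cancel]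
      by_contra hne
      exact transv_ne_one he (sub_ne_zero.2 fun h => hne (Subtype.ext h)) h2
    · rintro ⟨⟨g, hg⟩, h1, c, hc⟩
      have hc' : g = transv e c := hc
      refine ⟨⟨c, ?_⟩, Subtype.ext (Subtype.ext hc'.symm)⟩
      rw [← hc']
      exact h1
  have hq1 : 0 < Fintype.card F := Fintype.card_pos
  have hh0 : 0 < h := by
    rcases Nat.eq_zero_or_pos h with h0 | h0
    · rw [h0, zero_mul] at hq; omega
    · exact h0
  have hb := heis (XQ e) (stabilizer (Q e) x) hXc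
    (by
      rintro ⟨g, hg⟩ ⟨g', hg'⟩
      obtain ⟨w, c, hw, rfl⟩ := hg
      obtain ⟨w', c', hw', rfl⟩ := hg'
      exact ⟨-(2 * f w w'), commutator_siegel hw hw' c c'⟩)
    (by
      rintro ⟨g, hg⟩ hgX ⟨x, hx⟩ ⟨d, hd⟩
      obtain ⟨w, c, hw, rfl⟩ := hg
      have hwe : ∀ a : F, w ≠ a • e := by
        rintro a rfl
        apply hgX
        exact ⟨_, siegel_smul_self_eq a c⟩
      obtain ⟨y, hy1, hy2⟩ := Cfsg.Agent.LieClassical.SympSimple.exists_perp_of_not_smul he hwe
      have hy3 : f e ((-d * (2 * f w y)⁻¹) • y) = 0 := by rw [sympForm_smul_right, hy1, mul_zero]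
      refine ⟨⟨siegel e ((-d * (2 * f w y)⁻¹) • y) 0, siegel_mem_Q hy3 0⟩, Subtype.ext ?_⟩
      have h4 := commutator_siegel hw hy3 c 0
      have hd' : x = transv e d := hd
      show ⁅siegel e w c, siegel e ((-d * (2 * f w y)⁻¹) • y) 0⁆ = x
      rw [h4, hd']
      congr 1
      rw [sympForm_smul_right]
      field_simp)
    (by
      intro hle
      rw [inf_eq_right.2 hle, card_XQ he] at hinf
      rw [hinf] at hq
      have : h * 1 < h * l := Nat.mul_lt_mul_of_pos_left hl hh0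
      omega)
  rw [hinf, card_XQ he] at hb
  have hQc := card_Q he
  have hor : Nat.card (orbit (Q e) x) * Nat.card (stabilizer (Q e) x) = Nat.card (Q e) := by
    have := Nat.card_congr (MulAction.orbitProdStabilizerEquivGroup (Q e) x)
    rwa [Nat.card_prod] at this
  -- everything is a power of `p`
  obtain ⟨k, hp', hk⟩ := FiniteField.card F p
  have hcardQ : ∃ j, Nat.card (Q e) = p ^ j := by
    have h3 : Nat.card (Q e) ∣ p ^ (k * (2 * m)) := by
      rw [pow_mul, ← hk, ← hQc]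
      exact Dvd.intro _ rfl
    obtain ⟨j, -, hj⟩ := (Nat.dvd_prime_pow hp).1 h3
    exact ⟨j, hj⟩
  obtain ⟨j, hj⟩ := hcardQ
  obtain ⟨o, -, ho⟩ : ∃ o ≤ j, Nat.card (orbit (Q e) x) = p ^ o := by
    apply (Nat.dvd_prime_pow hp).1
    rw [← hj, ← hor]
    exact Dvd.intro _ rfl
  obtain ⟨b, -, hb'⟩ : ∃ b ≤ k * (m - 1) + k, Fintype.card F ^ (m - 1) * l = p ^ b := by
    apply (Nat.dvd_prime_pow hp).1
    rw [pow_add, pow_mul, ← hk]
    exact Nat.mul_dvd_mul_left _ ⟨h, by rw [hq, mul_comm]⟩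
  rw [ho, hb']
  apply pow_dvd_pow
  apply (Nat.pow_le_pow_iff_right hp.one_lt).1
  rw [← ho, ← hb']
  -- the inequality
  set a := Nat.card (stabilizer (Q e) x) with ha
  set t := Nat.card (orbit (Q e) x) with ht
  have ha0 : 0 < a := Nat.card_pos
  obtain ⟨m', rfl⟩ : ∃ m', m = m' + 1 := ⟨m - 1, by omega⟩
  rw [Nat.add_sub_cancel]
  have hQ2 : Nat.card (Q e) = Fintype.card F ^ (2 * m' + 1) := by
    apply Nat.eq_of_mul_eq_mul_right hq1
    rw [hQc, ← pow_succ]
    congr 1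
  have h3 : (Fintype.card F ^ m' * l) ^ 2 ≤ t ^ 2 := by
    have h4 : (a * a * h ^ 2) * (Fintype.card F ^ m' * l) ^ 2 ≤ (a * a * h ^ 2) * t ^ 2 := by
      calc (a * a * h ^ 2) * (Fintype.card F ^ m' * l) ^ 2
          = (a * a) * (Fintype.card F ^ m') ^ 2 * (h * l) ^ 2 := by ring
        _ = (a * a * Fintype.card F) * Fintype.card F ^ (2 * m' + 1) := by rw [← hq]; ring
        _ ≤ (h ^ 2 * Nat.card (Q e)) * Fintype.card F ^ (2 * m' + 1) := Nat.mul_le_mul_right _ hb
        _ = h ^ 2 * (Nat.card (Q e)) ^ 2 := by rw [← hQ2]; ring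
        _ = (a * a * h ^ 2) * t ^ 2 := by rw [← hor]; ring
    exact Nat.le_of_mul_le_mul_left h4 (by positivity)
  exact (Nat.pow_le_pow_iff_left (by norm_num)).1 h3

end

end Cfsg.Agent.H387.TwoSpOdd
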