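import Mathlib
import Cfsg.Agent.H387.TwoSpEvenA

/-!
# Orbits of a 2-subgroup of `Sp_2m(2^f)` (helper387, HUB H1)

`dvd` : if all transvection groups with centre `e` have orbits of the same length `l > 1`, then `q^(m-1) l ∣ 2 n`.
-/

set_option autoImplicit false
open Cfsg MulAction

namespace Cfsg.Agent.H387.TwoSpEven

open Cfsg.Agent.ClassicalGeometry.SympBasic
open Cfsg.Agent.ClassicalGeometry.SympSiegel
open Cfsg.Agent.ClassicalGeometry.SympAutExists
open Cfsg.Agent.H387.TwoSpGeo
open Cfsg.Agent.H387.TwoSpEvenA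

variable {F : Type*} [Field F] {m : ℕ}

local notation "V" => (Fin m ⊕ Fin m → F)
local notation "S" => Matrix.symplecticGroup (Fin m) F
local notation "f" => sympForm m F

/-! ### A totally isotropic subspace -/

theorem exists_M [Fintype F] (hm : 1 ≤ m) {e : V} (he : e ≠ 0) :
    ∃ (e' : V) (M : Submodule F V), f e e' = 1 ∧ (∀ u ∈ M, f e u = 0) ∧ (∀ u ∈ M, f u e' = 0) ∧
      (∀ u ∈ M, ∀ v ∈ M, f u v = 0) ∧ Nat.card M = Fintype.card F ^ (m - 1) := by
  classical
  let i0 : Fin m := ⟨0, hm⟩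
  have he0 : (Pi.single (Sum.inr i0) 1 : V) ≠ 0 := by
    intro h
    have := congrFun h (Sum.inr i0)
    rw [Pi.single_eq_same] at this
    exact one_ne_zero this
  obtain ⟨g, hg⟩ := exists_smul_eq' he0 he
  let M : Submodule F V :=
    { carrier := {v | (g⁻¹ • v : V) (Sum.inr i0) = 0 ∧ ∀ i, (g⁻¹ • v : V) (Sum.inl i) = 0}
      add_mem' := by
        rintro u v ⟨h1, h2⟩ ⟨h3, h4⟩
        refine ⟨?_, fun i => ?_⟩
        · rw [smul_add', Pi.add_apply, h1, h3, add_zero]
        · rw [smul_add', Pi.add_apply, h2, h4, add_zero]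
      zero_mem' := by
        refine ⟨?_, fun i => ?_⟩
        · rw [smul_zero', Pi.zero_apply]
        · rw [smul_zero', Pi.zero_apply]
      smul_mem' := by
        rintro c u ⟨h1, h2⟩
        refine ⟨?_, fun i => ?_⟩
        · rw [smul_smul', Pi.smul_apply, h1, smul_zero]
        · rw [smul_smul', Pi.smul_apply, h2, smul_zero] }
  refine ⟨g • (Pi.single (Sum.inl i0) 1 : V), M, ?_, ?_, ?_, ?_, ?_⟩
  · rw [← hg, form_smul, sympForm_single_inr_left, Pi.single_eq_same]
  · rintro u ⟨-, h2⟩
    rw [← hg, form_smul_left, sympForm_single_inr_left]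
    exact h2 i0
  · rintro u ⟨h1, -⟩
    rw [← form_smul g⁻¹, inv_smul_smul, sympForm_single_inl_right]
    exact h1
  · rintro u ⟨-, h2⟩ v ⟨-, h4⟩
    rw [← form_smul g⁻¹, sympForm_eq_sum]
    refine Finset.sum_eq_zero fun i _ => ?_
    rw [h2, h4]
    ring
  · have h1 : Nat.card ({i : Fin m // i ≠ i0} → F) = Fintype.card F ^ (m - 1) := by
      rw [Nat.card_eq_fintype_card, Fintype.card_fun, Fintype.card_subtype_compl, Fintype.card_subtype_eq,
        Fintype.card_fin]
    rw [← h1]
    let φ : ({i : Fin m // i ≠ i0} → F) → V := fun a => Sum.elim (fun _ => 0)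
      (fun i => if h : i = i0 then 0 else a ⟨i, h⟩)
    refine (Nat.card_congr (Equiv.ofBijective (fun a => (⟨g • φ a, ?_, ?_⟩ : M)) ⟨?_, ?_⟩)).symm
    · rw [inv_smul_smul]
      simp [φ]
    · intro i
      rw [inv_smul_smul]
      simp [φ]
    · intro a b h
      have h2 : g • φ a = g • φ b := congrArg Subtype.val h
      have h3 : φ a = φ b := by
        have := congrArg (fun x => g⁻¹ • x) h2
        simpa only [inv_smul_smul] using this
      funext i
      have h4 := congrFun h3 (Sum.inr i.1)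
      simpa [φ, i.2] using h4
    · rintro ⟨v, h2, h3⟩
      refine ⟨fun i => (g⁻¹ • v : V) (Sum.inr i.1), Subtype.ext ?_⟩
      have h4 : φ (fun i => (g⁻¹ • v : V) (Sum.inr i.1)) = g⁻¹ • v := by
        funext i
        rcases i with i | i
        · simp only [φ, Sum.elim_inl]
          exact (h3 i).symm
        · simp only [φ, Sum.elim_inr]
          split_ifs with h5
          · rw [h5]; exact h2.symm
          · rfl
      exact (congrArg (fun x => g • x) h4).trans (smul_inv_smul g v)

/-! ### The 2-group -/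

variable (e : Fin m ⊕ Fin m → F) (M : Submodule F (Fin m ⊕ Fin m → F))

/-- the 2-group -/
def EE (_hMe : ∀ u ∈ M, f e u = 0) : Subgroup S where
  carrier := {g : S | g • e = e ∧ (∀ u ∈ M, ∃ a : F, g • u = u + a • e) ∧
    ∀ v : V, f e v = 0 → ∃ u ∈ M, ∃ a : F, g • v = v + u + a • e}
  mul_mem' := by
    rintro g k ⟨h1, h2, h3⟩ ⟨k1, k2, k3⟩
    refine ⟨by rw [mul_smul, k1, h1], fun u hu => ?_, fun v hv => ?_⟩
    · obtain ⟨a, ha⟩ := k2 u hu
      obtain ⟨b, hb⟩ := h2 u hu
      refine ⟨b + a, ?_⟩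
      have e1 : (g * k) • u = g • k • u := mul_smul g k u
      rw [e1, ha, smul_add', smul_smul', h1, hb]
      module
    · obtain ⟨u, hu, a, ha⟩ := k3 v hv
      obtain ⟨u', hu', a', ha'⟩ := h3 v hv
      obtain ⟨b, hb⟩ := h2 u hu
      refine ⟨u' + u, M.add_mem hu' hu, a' + b + a, ?_⟩
      have e1 : (g * k) • v = g • k • v := mul_smul g k v
      rw [e1, ha, smul_add', smul_add', smul_smul', h1, hb, ha']
      module
  one_mem' := ⟨one_smul _ _, fun u _ => ⟨0, by rw [one_smul, zero_smul, add_zero]⟩,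
    fun v _ => ⟨0, M.zero_mem, 0, by rw [one_smul, zero_smul, add_zero, add_zero]⟩⟩
  inv_mem' := by
    rintro g ⟨h1, h2, h3⟩
    have h1' : g⁻¹ • e = e := by rw [inv_smul_eq_iff, h1]
    have h2' : ∀ u ∈ M, ∃ a : F, g⁻¹ • u = u + a • e := by
      intro u hu
      obtain ⟨a, ha⟩ := h2 u hu
      refine ⟨-a, ?_⟩
      rw [inv_smul_eq_iff, smul_add', smul_smul', h1, ha]
      module
    refine ⟨h1', h2', fun v hv => ?_⟩
    obtain ⟨u, hu, a, ha⟩ := h3 v hv
    obtain ⟨b, hb⟩ := h2 u hu
    refine ⟨-u, M.neg_mem hu, b - a, ?_⟩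
    rw [inv_smul_eq_iff, smul_add', smul_add', smul_smul', smul_neg', h1, ha, hb]
    module

variable {e M}
variable (hMe : ∀ u ∈ M, sympForm m F e u = 0)

theorem pow_four [CharP F 2] {g : S} (hg : g ∈ EE e M hMe) : g ^ 4 = 1 := by
  obtain ⟨h1, h2, h3⟩ := hg
  have h20 : (2 : F) = 0 := CharTwo.two_eq_zero
  have key : ∀ x : V, x + x = 0 := by
    intro x
    rw [← two_smul F x, h20, zero_smul]
  have hN : ∀ v : V, ∃ x, f e x = 0 ∧ g • v = v + x := by
    intro v
    refine ⟨g • v - v, ?_, by abel⟩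
    have := form_smul g e v
    rw [h1] at this
    rw [sympForm_sub_right, this, sub_self]
  -- `g²` fixes `M + ⟨e⟩`
  have hsq : ∀ u ∈ M, ∀ a : F, g • g • (u + a • e) = u + a • e := by
    intro u hu a
    obtain ⟨b, hb⟩ := h2 u hu
    rw [smul_add', smul_smul', h1, hb, smul_add', smul_add', smul_smul', smul_smul', h1, hb]
    have : u + b • e + b • e + a • e = u + (b • e + b • e) + a • e := by abel
    rw [this, key, add_zero]
  apply ext_smul
  intro v
  obtain ⟨x, hx, hgv⟩ := hN v
  obtain ⟨u, hu, a, hgx⟩ := h3 x hx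
  have h4 : g • g • v = v + (u + a • e) := by
    rw [hgv, smul_add', hgv, hgx]
    have : v + x + (x + u + a • e) = v + (x + x) + (u + a • e) := by abel
    rw [this, key, add_zero]
  rw [show (4 : ℕ) = 1 + 1 + 1 + 1 from rfl, pow_succ, pow_succ, pow_succ, pow_one, mul_smul, mul_smul, mul_smul,
    h4, smul_add', smul_add', h4, hsq u hu a, one_smul, add_assoc, key, add_zero]

theorem isPGroup [CharP F 2] : IsPGroup 2 (EE e M hMe) := by
  intro g
  refine ⟨2, Subtype.ext ?_⟩
  exact pow_four hMe g.2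

theorem siegel_mem (w : V) (d : F) : siegel e w d ∈ EE e M hMe := by
  by_cases h : f e w = 0
  · refine ⟨smul_siegel_self h d, fun u hu => ⟨f w u, ?_⟩, fun v hv => ⟨0, M.zero_mem, f w v, ?_⟩⟩
    · rw [siegel_smul h, hMe u hu, zero_smul, add_zero]
    · rw [siegel_smul h, hv, zero_smul, add_zero, add_zero]
  · rw [siegel, dif_neg h]
    exact one_mem _

theorem siegel_mem_Q' (w : V) (d : F) : siegel e w d ∈ Q e := by
  by_cases h : f e w = 0
  · exact siegel_mem_Q h d
  · rw [siegel, dif_neg h]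
    exact one_mem _

theorem Q_le : Q e ≤ EE e M hMe := by
  rintro _ ⟨w, d, -, rfl⟩
  exact siegel_mem hMe w d

theorem transv_mem (hMM : ∀ u ∈ M, ∀ v ∈ M, f u v = 0) {u : V} (hu : u ∈ M) (c : F) :
    transv u c ∈ EE e M hMe := by
  refine ⟨?_, fun u' hu' => ⟨0, ?_⟩, fun v _ => ⟨(c * f v u) • u, M.smul_mem _ hu, 0, ?_⟩⟩
  · rw [transv_smul, hMe u hu, mul_zero, zero_smul, add_zero]
  · rw [transv_smul, hMM u' hu' u hu, mul_zero, zero_smul, add_zero, zero_smul, add_zero]
  · rw [transv_smul, zero_smul, add_zero]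

/-- the unipotent radical in the 2-group -/
def QE : Subgroup (EE e M hMe) := (Q e).subgroupOf (EE e M hMe)

instance QE_normal : (QE hMe).Normal := by
  refine ⟨fun x hx g => ?_⟩
  have h := (smul_mem_Q_iff (g : S) e (x : S)).2 hx
  rw [g.2.1] at h
  exact h

/-- the Siegel elements -/
noncomputable def qq (w : V) (d : F) : QE hMe := ⟨⟨siegel e w d, siegel_mem hMe w d⟩, siegel_mem_Q' w d⟩

theorem qq_mul {w w' : V} (h : f e w = 0) (h' : f e w' = 0) (d d' : F) :
    qq hMe w d * qq hMe w' d' = qq hMe (w + w') (d + d' + f w w') :=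
  Subtype.ext (Subtype.ext (siegel_mul h h' d d'))

theorem exists_qq (n : QE hMe) : ∃ (w : V) (d : F), f e w = 0 ∧ n = qq hMe w d := by
  obtain ⟨⟨n, hn⟩, hn'⟩ := n
  obtain ⟨w, d, hw, h⟩ := id hn'
  exact ⟨w, d, hw, Subtype.ext (Subtype.ext h)⟩

theorem QE_comm [CharP F 2] : ∀ x ∈ QE hMe, ∀ y ∈ QE hMe, x * y = y * x := by
  intro x hx y hy
  obtain ⟨w, d, hw, h⟩ := exists_qq hMe ⟨x, hx⟩
  obtain ⟨w', d', hw', h'⟩ := exists_qq hMe ⟨y, hy⟩
  have h1 : (⟨x, hx⟩ * ⟨y, hy⟩ : QE hMe) = ⟨y, hy⟩ * ⟨x, hx⟩ := by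
    rw [h, h', qq_mul hMe hw hw', qq_mul hMe hw' hw, add_comm w, add_comm d, sympForm_swap w w', CharTwo.neg_eq]
  exact congrArg Subtype.val h1

section Chars

variable (hMM : ∀ u ∈ M, ∀ v ∈ M, sympForm m F u v = 0)

/-- the transvections with centre in `M` -/
def tM (u : M) : EE e M hMe := ⟨transv u.1 1, transv_mem hMe hMM u.2 1⟩

variable (c : QE hMe →* ℂˣ)

/-- the character on the centre -/
noncomputable def ps (s : F) : ℂˣ := c (qq hMe 0 s)

/-- the character on `M` -/
noncomputable def L (u : V) : ℂˣ := c (qq hMe u 0)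

theorem ps_add (s t : F) : ps hMe c (s + t) = ps hMe c s * ps hMe c t := by
  rw [ps, ps, ps, ← map_mul, qq_mul hMe (sympForm_zero_right e) (sympForm_zero_right e), add_zero,
    sympForm_zero_left, add_zero]

include hMM in
theorem L_add {u v : V} (hu : u ∈ M) (hv : v ∈ M) : L hMe c (u + v) = L hMe c u * L hMe c v := by
  rw [L, L, L, ← map_mul, qq_mul hMe (hMe u hu) (hMe v hv), hMM u hu v hv, add_zero, add_zero]

theorem cj_qq [CharP F 2] (u : M) {w : V} (hw : f e w = 0) (d : F) :
    cj (QE hMe) (tM hMe hMM u) c (qq hMe w d) =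
      c (qq hMe w d) * (L hMe c (f w u.1 • u.1) * ps hMe c (f w u.1 ^ 2)) := by
  have h20 : (2 : F) = 0 := CharTwo.two_eq_zero
  rw [cj_apply]
  have h1 : (MulAut.conjNormal (tM hMe hMM u)⁻¹ : MulAut (QE hMe)) (qq hMe w d) =
      qq hMe (w + f w u.1 • u.1) d := by
    apply Subtype.ext
    apply Subtype.ext
    rw [MulAut.conjNormal_apply, inv_inv]
    show (transv u.1 1)⁻¹ * siegel e w d * transv u.1 1 = siegel e (w + f w u.1 • u.1) d
    have h2 := conj_siegel (transv u.1 1)⁻¹ hw d
    rw [inv_inv] at h2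
    rw [h2, transv_inv, transv_smul, transv_smul, hMe u.1 u.2, mul_zero, zero_smul, add_zero, CharTwo.neg_eq,
      one_mul]
  have hu : f e (f w u.1 • u.1) = 0 := by rw [sympForm_smul_right, hMe u.1 u.2, mul_zero]
  have hwu : f e (w + f w u.1 • u.1) = 0 := by rw [sympForm_add_right, hw, hu, add_zero]
  rw [h1, L, ps, ← map_mul, ← map_mul, qq_mul hMe hu (sympForm_zero_right e), add_zero, zero_add,
    sympForm_zero_right, add_zero, qq_mul hMe hw hu, sympForm_smul_right]
  congr 2
  rw [← sq, add_assoc, ← two_mul, h20, zero_mul, add_zero]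

variable {e' : Fin m ⊕ Fin m → F} (hee : sympForm m F e e' = 1) (hMe' : ∀ u ∈ M, sympForm m F u e' = 0)

include hee hMe' in
/-- `f(·, u) : e^⊥ → F` is onto for `u ∈ M`, `u ≠ 0` -/
theorem exists_w {u : V} (hu : u ∈ M) (hu0 : u ≠ 0) (s : F) : ∃ w, f e w = 0 ∧ f w u = s := by
  have he : e ≠ 0 := ne_zero_of_form_left (by rw [hee]; exact one_ne_zero)
  have hue : ∀ a : F, u ≠ a • e := by
    rintro a rfl
    have h1 := hMe' _ hu
    rw [sympForm_smul_left, hee, mul_one] at h1
    rw [h1, zero_smul] at hu0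
    exact hu0 rfl
  obtain ⟨y, hy1, hy2⟩ := Cfsg.Agent.LieClassical.SympSimple.exists_perp_of_not_smul he hue
  have hy3 : f y u ≠ 0 := by
    rw [sympForm_swap]; exact neg_ne_zero.2 hy2
  exact ⟨(s * (f y u)⁻¹) • y, by rw [sympForm_smul_right, hy1, mul_zero],
    by rw [sympForm_smul_left, mul_assoc, inv_mul_cancel₀ hy3, mul_one]⟩

include hee hMe' in
/-- independent `u, u' ∈ M` -/
theorem exists_w' {u u' : V} (hu : u ∈ M) (hu' : u' ∈ M) (hu0' : u' ≠ 0) (hind : ∀ a : F, u ≠ a • u') (s : F) :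
    ∃ w, f e w = 0 ∧ f w u = s ∧ f w u' = 0 := by
  have he : e ≠ 0 := ne_zero_of_form_left (by rw [hee]; exact one_ne_zero)
  have hue : ∀ a : F, u' ≠ a • e := by
    rintro a rfl
    have h1 := hMe' _ hu'
    rw [sympForm_smul_left, hee, mul_one] at h1
    rw [h1, zero_smul] at hu0'
    exact hu0' rfl
  obtain ⟨y, hy0, hy1, hy2⟩ : ∃ y, f u' y = 0 ∧ f e y = 0 ∧ f u y ≠ 0 := by
    by_contra hcon
    push Not at hcon
    obtain ⟨a, b, hab⟩ := span_of_perp he hue hcon
    have h1 := hMe' _ hu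
    rw [hab, sympForm_add_left, sympForm_smul_left, sympForm_smul_left, hMe' u' hu', hee, mul_zero, zero_add,
      mul_one] at h1
    rw [h1, zero_smul, add_zero] at hab
    exact hind a hab
  have hy3 : f y u ≠ 0 := by
    rw [sympForm_swap]; exact neg_ne_zero.2 hy2
  refine ⟨(s * (f y u)⁻¹) • y, by rw [sympForm_smul_right, hy1, mul_zero],
    by rw [sympForm_smul_left, mul_assoc, inv_mul_cancel₀ hy3, mul_one], ?_⟩
  rw [sympForm_smul_left, form_eq_zero_comm.1 hy0, mul_zero]

include hee hMe' hMM in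
/-- **The number of conjugates of a character.** -/
theorem card_cj [CharP F 2] [Fintype F] (hc : ∃ s, ps hMe c s ≠ 1) :
    Nat.card M + 2 ≤ 4 * Nat.card (Set.range fun g : EE e M hMe => cj (QE hMe) g c) := by
  classical
  have h20 : (2 : F) = 0 := CharTwo.two_eq_zero
  have : Fintype M := Fintype.ofFinite _
  have : Finite (EE e M hMe) := Subtype.finite
  set κ : M → (QE hMe →* ℂˣ) := fun u => cj (QE hMe) (tM hMe hMM u) c with hκ
  -- not all squares are in the kernel
  have hps : ¬ ∀ s : F, ps hMe c (s ^ 2) = 1 := by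
    intro h
    obtain ⟨s, hs⟩ := hc
    obtain ⟨r, hr⟩ := FiniteField.isSquare_of_char_two (ringChar.eq F 2) s
    apply hs
    rw [hr, ← sq]
    exact h r
  have hL0 : L hMe c 0 = 1 := by
    have h1 := L_add hMe hMM c M.zero_mem M.zero_mem
    rw [add_zero] at h1
    exact left_eq_mul.1 h1
  have hps0 : ps hMe c 0 = 1 := by
    have h1 := ps_add hMe c 0 0
    rw [add_zero] at h1
    exact left_eq_mul.1 h1
  -- comparison
  have hcmp : ∀ u u' : M, κ u = κ u' → ∀ w, f e w = 0 →
      L hMe c (f w u.1 • u.1) * ps hMe c (f w u.1 ^ 2) =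
        L hMe c (f w u'.1 • u'.1) * ps hMe c (f w u'.1 ^ 2) := by
    intro u u' h w hw
    have h1 := congrArg (fun γ : QE hMe →* ℂˣ => γ (qq hMe w 0)) h
    simp only [hκ] at h1
    rw [cj_qq hMe hMM c u hw, cj_qq hMe hMM c u' hw] at h1
    exact mul_left_cancel h1
  have hκ0 : κ 0 = c := by
    ext n
    obtain ⟨w, d, hw, rfl⟩ := exists_qq hMe n
    simp only [hκ]
    rw [cj_qq hMe hMM c 0 hw]
    have : f w ((0 : M) : V) = 0 := sympForm_zero_right w
    rw [this, zero_smul, hL0, zero_pow two_ne_zero, hps0, mul_one, mul_one]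
  have hκeq : ∀ u : M, κ u = c → u ≠ 0 → ∀ s : F, L hMe c (s • u.1) * ps hMe c (s ^ 2) = 1 := by
    intro u h hu0 s
    obtain ⟨w, hw, hws⟩ := exists_w hee hMe' u.2 (fun h => hu0 (Subtype.ext h)) s
    have h1 := hcmp u 0 (h.trans hκ0.symm) w hw
    have : f w ((0 : M) : V) = 0 := sympForm_zero_right w
    rw [hws, this, zero_smul, hL0, zero_pow two_ne_zero, hps0, mul_one] at h1
    exact h1
  have hκne : ∀ u : M, κ u ≠ c → ∃ s : F, L hMe c (s • u.1) * ps hMe c (s ^ 2) ≠ 1 := by
    intro u h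
    by_contra hcon
    push Not at hcon
    apply h
    ext n
    obtain ⟨w, d, hw, rfl⟩ := exists_qq hMe n
    simp only [hκ]
    rw [cj_qq hMe hMM c u hw, hcon, mul_one]
  -- the fibre over `c`
  set Z : Finset M := Finset.univ.filter fun u => κ u = c with hZ
  have hZc : 2 * Z.card ≤ Nat.card M + 2 := by
    let N0 : AddSubgroup M :=
      { carrier := {v | ∀ s : F, L hMe c (s • v.1) = 1}
        add_mem' := by
          intro a b ha hb s
          have : s • (a + b : M).1 = s • a.1 + s • b.1 := by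
            rw [Submodule.coe_add, smul_add]
          rw [this, L_add hMe hMM c (M.smul_mem s a.2) (M.smul_mem s b.2), ha s, hb s, mul_one]
        zero_mem' := by
          intro s
          rw [Submodule.coe_zero, smul_zero, hL0]
        neg_mem' := by
          intro a ha s
          have h1 : s • (-a : M).1 = (-s) • a.1 := by
            rw [Submodule.coe_neg, smul_neg, neg_smul]
          rw [h1]
          exact ha (-s) }
    by_cases hex : ∃ u₁ : M, κ u₁ = c ∧ u₁ ≠ 0
    · obtain ⟨u₁, hu₁, hu₁0⟩ := hex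
      have hN : u₁ ∉ N0 := by
        intro h
        apply hps
        intro s
        have h1 := hκeq u₁ hu₁ hu₁0 s
        have h2 : L hMe c (s • u₁.1) = 1 := h s
        rwa [h2, one_mul] at h1
      have hNc : 2 * Nat.card N0 ≤ Nat.card M := by
        obtain ⟨k, hk⟩ := AddSubgroup.card_addSubgroup_dvd_card N0
        have hk2 : 2 ≤ k := by
          rcases k with _ | _ | k
          · rw [mul_zero] at hk
            have : 0 < Nat.card M := Nat.card_pos
            omega
          · exfalso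
            rw [zero_add, mul_one] at hk
            apply hN
            have := AddSubgroup.eq_top_of_card_eq N0 hk.symm
            rw [this]
            exact AddSubgroup.mem_top _
          · omega
        rw [hk, mul_comm]
        exact Nat.mul_le_mul_left _ hk2
      have hZle : Z.card ≤ Nat.card N0 + 1 := by
        have h1 : (Z.erase 0).card ≤ Nat.card N0 := by
          have h2 : (Z.erase 0).card ≤ (Finset.univ.filter fun v : M => v ∈ N0).card := by
            refine Finset.card_le_card_of_injOn (fun u => u - u₁) ?_ ?_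
            · intro u hu
              rw [Finset.mem_coe, Finset.mem_erase, hZ, Finset.mem_filter] at hu
              rw [Finset.coe_filter]
              refine ⟨Finset.mem_univ _, fun s => ?_⟩
              have h3 := hκeq u hu.2.2 hu.1 s
              have h4 := hκeq u₁ hu₁ hu₁0 s
              have h5 := L_add hMe hMM c (M.smul_mem s (u - u₁).2) (M.smul_mem s u₁.2)
              rw [← smul_add, Submodule.coe_sub, sub_add_cancel] at h5
              have h6 : L hMe c (s • u.1) = L hMe c (s • u₁.1) := mul_right_cancel (h3.trans h4.symm)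
              rw [h6] at h5
              show L hMe c (s • (u - u₁ : M).1) = 1
              rw [Submodule.coe_sub]
              exact right_eq_mul.1 h5
            · intro a _ b _ h
              exact sub_left_injective h
          refine h2.trans (le_of_eq ?_)
          rw [Nat.card_eq_fintype_card, Fintype.card_subtype]
        have h3 : (0 : M) ∈ Z := by
          rw [hZ, Finset.mem_filter]
          exact ⟨Finset.mem_univ _, hκ0⟩
        rw [Finset.card_erase_of_mem h3] at h1
        omega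
      omega
    · push Not at hex
      have h1 : Z ⊆ {0} := by
        intro u hu
        rw [hZ, Finset.mem_filter] at hu
        rw [Finset.mem_singleton]
        exact hex u hu.2
      have h2 := Finset.card_le_card h1
      rw [Finset.card_singleton] at h2
      have : 0 < Nat.card M := Nat.card_pos
      omega
  -- the other fibres
  have hfib : ∀ u : M, κ u ≠ c → ((Finset.univ.filter fun u' : M => κ u ≠ c ∧ κ u' = κ u)).card ≤ 2 := by
    intro u hu
    have hu0 : u ≠ 0 := by
      rintro rfl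
      exact hu hκ0
    have hu0' : (u : V) ≠ 0 := fun h => hu0 (Subtype.ext h)
    obtain ⟨s₀, hs₀⟩ := hκne u hu
    -- everything in the fibre is a multiple of `u`
    have hmul : ∀ u' : M, κ u' = κ u → ∃ a : F, a ≠ 0 ∧ (u' : V) = a • (u : V) := by
      intro u' hu'
      have hu'0 : (u' : V) ≠ 0 := by
        intro h
        apply hu
        rw [← hu', show u' = 0 from Subtype.ext h, hκ0]
      by_cases hind : ∀ a : F, (u : V) ≠ a • (u' : V)
      · exfalso
        obtain ⟨w, hw1, hw2, hw3⟩ := exists_w' hee hMe' u.2 u'.2 hu'0 hind s₀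
        have h1 := hcmp u u' hu'.symm w hw1
        rw [hw2, hw3, zero_smul, hL0, zero_pow two_ne_zero, hps0, mul_one] at h1
        exact hs₀ h1
      · push Not at hind
        obtain ⟨a, ha⟩ := hind
        have ha0 : a ≠ 0 := by
          rintro rfl
          rw [zero_smul] at ha
          exact hu0' ha
        exact ⟨a⁻¹, inv_ne_zero ha0, by rw [ha, smul_smul, inv_mul_cancel₀ ha0, one_smul]⟩
    have hd : ∀ u' : M, κ u' = κ u → u' ≠ u → ∃ d : F, d ≠ 0 ∧ (u' : V) = (1 + d) • (u : V) ∧
        ∀ s : F, L hMe c ((d * s) • (u : V)) * ps hMe c (s ^ 2) = 1 := by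
      intro u' hu' hne
      obtain ⟨a, ha0, ha⟩ := hmul u' hu'
      have hd0 : a - 1 ≠ 0 := by
        intro h
        apply hne
        apply Subtype.ext
        rw [ha, sub_eq_zero.1 h, one_smul]
      refine ⟨a - 1, hd0, by rw [ha]; congr 1; ring, ?_⟩
      have key : ∀ s : F, L hMe c (((a - 1) ^ 2 * s) • (u : V)) * ps hMe c ((a - 1) ^ 2 * s ^ 2) = 1 := by
        intro s
        obtain ⟨w, hw1, hw2⟩ := exists_w hee hMe' u.2 hu0' s
        have h1 := hcmp u' u hu' w hw1
        have h2 : f w (u' : V) = a * s := by rw [ha, sympForm_smul_right, hw2]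
        rw [h2, hw2, ha] at h1
        have h3 : (a * s) • a • (u : V) = s • (u : V) + ((a - 1) ^ 2 * s) • (u : V) := by
          rw [smul_smul, ← add_smul]
          congr 1
          linear_combination (a - 1) * s * h20
        have h4 : (a * s) ^ 2 = s ^ 2 + (a - 1) ^ 2 * s ^ 2 := by
          linear_combination (a - 1) * s ^ 2 * h20
        rw [h3, h4, L_add hMe hMM c (M.smul_mem _ u.2) (M.smul_mem _ u.2), ps_add] at h1
        have h5 : (L hMe c (s • (u : V)) * ps hMe c (s ^ 2)) *
            (L hMe c (((a - 1) ^ 2 * s) • (u : V)) * ps hMe c ((a - 1) ^ 2 * s ^ 2)) =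
            (L hMe c (s • (u : V)) * ps hMe c (s ^ 2)) * 1 := by
          rw [mul_one, mul_mul_mul_comm]
          exact h1
        exact mul_left_cancel h5
      intro s
      have h1 := key (s * (a - 1)⁻¹)
      have h2 : (a - 1) ^ 2 * (s * (a - 1)⁻¹) = (a - 1) * s := by field_simp
      have h3 : (a - 1) ^ 2 * (s * (a - 1)⁻¹) ^ 2 = s ^ 2 := by field_simp
      rwa [h2, h3] at h1
    by_contra hcon
    push Not at hcon
    have h1 : 1 < ((Finset.univ.filter fun u' : M => κ u ≠ c ∧ κ u' = κ u).erase u).card := by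
      rw [Finset.card_erase_of_mem]
      · omega
      · rw [Finset.mem_filter]
        exact ⟨Finset.mem_univ _, hu, rfl⟩
    obtain ⟨u₁, h1, u₂, h2, hne⟩ := Finset.one_lt_card.1 h1
    rw [Finset.mem_erase, Finset.mem_filter] at h1 h2
    obtain ⟨d₁, hd1, e1, k1⟩ := hd u₁ h1.2.2.2 h1.1
    obtain ⟨d₂, hd2, e2, k2⟩ := hd u₂ h2.2.2.2 h2.1
    have hdd : d₁ - d₂ ≠ 0 := by
      intro h
      apply hne
      apply Subtype.ext
      rw [e1, e2, sub_eq_zero.1 h]
    have h3 : ∀ s : F, L hMe c (((d₁ - d₂) * s) • (u : V)) = 1 := by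
      intro s
      have h4 : L hMe c ((d₁ * s) • (u : V)) = L hMe c ((d₂ * s) • (u : V)) :=
        mul_right_cancel ((k1 s).trans (k2 s).symm)
      have h5 := L_add hMe hMM c (M.smul_mem ((d₁ - d₂) * s) u.2) (M.smul_mem (d₂ * s) u.2)
      rw [← add_smul, ← add_mul, sub_add_cancel, h4] at h5
      exact right_eq_mul.1 h5
    apply hps
    intro s
    have h4 := h3 ((d₁ - d₂)⁻¹ * (d₁ * s))
    rw [mul_inv_cancel_left₀ hdd] at h4
    have h5 := k1 s
    rwa [h4, one_mul] at h5
  -- counting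
  set R : Finset M := Finset.univ.filter fun u => κ u ≠ c with hR
  have hRZ : R.card + Z.card = Nat.card M := by
    rw [hR, hZ, add_comm, Finset.card_filter_add_card_filter_not, Finset.card_univ, Nat.card_eq_fintype_card]
  have hRim : R.card ≤ 2 * (R.image κ).card := by
    apply Finset.card_le_mul_card_image
    intro γ hγ
    obtain ⟨u, hu, rfl⟩ := Finset.mem_image.1 hγ
    rw [hR, Finset.mem_filter] at hu
    refine le_trans (Finset.card_le_card ?_) (hfib u hu.2)
    intro u' hu'
    rw [Finset.mem_filter] at hu' ⊢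
    exact ⟨Finset.mem_univ _, hu.2, hu'.2⟩
  have hins : (R.image κ).card + 1 ≤ Nat.card (Set.range fun g : EE e M hMe => cj (QE hMe) g c) := by
    have h1 : c ∉ R.image κ := by
      intro h
      obtain ⟨u, hu, h2⟩ := Finset.mem_image.1 h
      rw [hR, Finset.mem_filter] at hu
      exact hu.2 h2
    have h2 : ((insert c (R.image κ) : Finset (QE hMe →* ℂˣ)) : Set (QE hMe →* ℂˣ)) ⊆
        Set.range fun g : EE e M hMe => cj (QE hMe) g c := by
      intro γ hγ
      rcases Finset.mem_insert.1 (Finset.mem_coe.1 hγ) with rfl | h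
      · exact ⟨tM hMe hMM 0, hκ0⟩
      · obtain ⟨u, -, rfl⟩ := Finset.mem_image.1 h
        exact ⟨tM hMe hMM u, rfl⟩
    have h3 := Set.ncard_le_ncard h2 (Set.finite_range _)
    rw [Set.ncard_coe_finset, Finset.card_insert_of_notMem h1] at h3
    rwa [Nat.card_coe_set_eq]
  omega

end Chars

/-- **The even case.** -/
theorem dvd [Fintype F] [CharP F 2] (hm : 2 ≤ m) {Ω : Type*} [Finite Ω] [MulAction S Ω] {e : V} (he : e ≠ 0)
    {h l : ℕ} (hl : 1 < l) (hq : Fintype.card F = h * l)
    (hh : ∀ x : Ω, Nat.card {c : F // transv e c • x = x} = h) :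
    Fintype.card F ^ (m - 1) * l ∣ 2 * Nat.card Ω := by
  obtain ⟨e', M, hee, hMe, hMe', hMM, hMc⟩ := exists_M (F := F) (m := m) (by omega) he
  have : Finite (EE e M hMe) := Subtype.finite
  obtain ⟨k, -, hk⟩ := FiniteField.card F 2
  -- the transvection group in `EE`
  let X : Subgroup (EE e M hMe) :=
    { carrier := {g | ∃ c : F, (g : S) = transv e c}
      mul_mem' := by
        rintro ⟨g, hg⟩ ⟨k, hk⟩ ⟨c, hc⟩ ⟨d, hd⟩
        refine ⟨c + d, ?_⟩
        have hc' : g = transv e c := hc
        have hd' : k = transv e d := hd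
        show g * k = _
        rw [hc', hd', transv_mul]
      one_mem' := ⟨0, by rw [transv_zero]; rfl⟩
      inv_mem' := by
        rintro ⟨g, hg⟩ ⟨c, hc⟩
        refine ⟨-c, ?_⟩
        have hc' : g = transv e c := hc
        show g⁻¹ = _
        rw [hc', transv_inv] }
  have hXQ : X ≤ QE hMe := by
    rintro ⟨g, hg⟩ ⟨c, hc⟩
    have hc' : g = transv e c := hc
    show g ∈ Q e
    rw [hc']
    exact transv_mem_Q e c
  have htE : ∀ c : F, transv e c ∈ EE e M hMe := fun c => Q_le hMe (transv_mem_Q e c)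
  have hXc : ∀ x ∈ X, ∀ g : EE e M hMe, x * g = g * x := by
    rintro ⟨x, hx⟩ ⟨c, hc⟩ ⟨g, hg⟩
    apply Subtype.ext
    have hc' : x = transv e c := hc
    show x * g = g * x
    rw [hc']
    have h3 := conj_transv g e c
    rw [hg.1] at h3
    exact (mul_inv_eq_iff_eq_mul.1 h3).symm
  have hinj : ∀ {c d : F}, transv e c = transv e d → c = d := by
    intro c d h1
    have h2 : transv e (c - d) = 1 := by
      rw [sub_eq_add_neg, ← transv_mul, ← transv_inv, h1, mul_inv_cancel]
    by_contra hne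
    exact transv_ne_one he (sub_ne_zero.2 hne) h2
  have hXcard : Nat.card X = h * l := by
    rw [← hq, ← Nat.card_eq_fintype_card]
    symm
    refine Nat.card_congr (Equiv.ofBijective (fun c : F => (⟨⟨transv e c, htE c⟩, c, rfl⟩ : X)) ⟨?_, ?_⟩)
    · intro c d h
      exact hinj (congrArg (fun x : X => ((x : EE e M hMe) : S)) h)
    · rintro ⟨⟨g, hg⟩, c, hc⟩
      exact ⟨c, Subtype.ext (Subtype.ext hc.symm)⟩
  have hXx : ∀ x : Ω, Nat.card (X ⊓ stabilizer (EE e M hMe) x : Subgroup (EE e M hMe)) = h := by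
    intro x
    rw [← hh x]
    symm
    refine Nat.card_congr (Equiv.ofBijective (fun c : {c : F // transv e c • x = x} =>
      (⟨⟨transv e c.1, htE c.1⟩, ⟨c.1, rfl⟩, c.2⟩ :
        (X ⊓ stabilizer (EE e M hMe) x : Subgroup (EE e M hMe)))) ⟨?_, ?_⟩)
    · intro c d h
      exact Subtype.ext (hinj (congrArg (fun x : (X ⊓ stabilizer (EE e M hMe) x : Subgroup (EE e M hMe)) =>
        ((x : EE e M hMe) : S)) h))
    · rintro ⟨⟨g, hg⟩, ⟨c, hc⟩, h1⟩
      have hc' : g = transv e c := hc
      refine ⟨⟨c, ?_⟩, Subtype.ext (Subtype.ext hc'.symm)⟩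
      rw [← hc']
      exact h1
  -- the orbits
  set z := Fintype.card F ^ (m - 1) with hz
  have hzt : ∀ x : Ω, (z + 5) / 4 * l ≤ Nat.card (orbit (EE e M hMe) x) := by
    intro x
    refine orbit_bound (QE hMe) (QE_comm hMe) X hXQ hXc x hXcard (hXx x) hl ?_
    rintro c ⟨⟨g, hg⟩, hgX, hc⟩
    obtain ⟨d, hd⟩ := id hgX
    have hd' : g = transv e d := hd
    have h1 := card_cj hMe hMM c hee hMe' ⟨-d, by
      intro h2
      apply hc
      rw [← h2, ps]
      congr 1
      apply Subtype.ext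
      apply Subtype.ext
      show g = siegel e 0 (-d)
      rw [siegel_zero_eq_transv, neg_neg, hd']⟩
    rw [hMc] at h1
    omega
  have hz2 : ∃ j, z = 2 ^ j ∧ 1 ≤ j := by
    refine ⟨k * (m - 1), by rw [hz, hk, pow_mul], ?_⟩
    have h1 : 0 < (k : ℕ) := k.2
    exact Nat.mul_pos h1 (by omega)
  obtain ⟨j, hj, hj1⟩ := hz2
  obtain ⟨b, -, hb⟩ : ∃ b ≤ (k : ℕ), l = 2 ^ b := by
    apply (Nat.dvd_prime_pow Nat.prime_two).1
    rw [← hk, hq]
    exact Dvd.intro_left _ rfl
  have hdvd : 2 ^ (j - 1 + b) ∣ Nat.card Ω := by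
    apply TwoSpOdd.dvd_card_of_orbits (K := EE e M hMe)
    intro x
    have : Finite (orbit (EE e M hMe) x) := by infer_instance
    obtain ⟨a, ha⟩ : ∃ a, Nat.card (orbit (EE e M hMe) x) = 2 ^ a := by
      have : Fact (Nat.Prime 2) := ⟨Nat.prime_two⟩
      exact (isPGroup hMe).card_orbit x
    rw [ha]
    apply pow_dvd_pow
    have h1 := hzt x
    rw [ha] at h1
    have h2 : 2 ^ (j + b) < 2 ^ (a + 2) := by
      have h3 : z + 2 ≤ 4 * ((z + 5) / 4) := by omega
      have h4 : (z + 2) * l ≤ 4 * 2 ^ a := by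
        calc (z + 2) * l ≤ (4 * ((z + 5) / 4)) * l := Nat.mul_le_mul_right _ h3
          _ = 4 * ((z + 5) / 4 * l) := by ring
          _ ≤ _ := Nat.mul_le_mul_left _ h1
      rw [pow_add, pow_add, ← hj, ← hb]
      have h5 : z * l < (z + 2) * l := Nat.mul_lt_mul_of_pos_right (by omega) (by omega)
      omega
    have h3 := (Nat.pow_lt_pow_iff_right (by norm_num : 1 < 2)).1 h2
    omega
  have h2 : z * l = 2 * 2 ^ (j - 1 + b) := by
    rw [hj, hb, ← pow_add, ← pow_succ']
    congr 1
    omega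
  rw [h2]
  exact Nat.mul_dvd_mul_left 2 hdvd

end Cfsg.Agent.H387.TwoSpEven
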