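import Mathlib
import Cfsg.Agent.H387.TwoSpGeo
import Cfsg.Agent.H387.TwoSpArith

/-!
# Counting for the 2-transitive actions of `PSp_2m(q)` (helper387, HUB H1)

`count` : `(n - 1) ρ = N (ℓ - 1)`; `const` : `|X ∩ G_a|` is constant.
-/

set_option autoImplicit false
open Cfsg MulAction

namespace Cfsg.Agent.H387.TwoSpCount

open Cfsg.Agent.H387.TwoSpGeo
open Cfsg.Agent.ClassicalGeometry.SympBasic
open Cfsg.Agent.ClassicalGeometry.SympSiegel
open Cfsg.Agent.ClassicalGeometry.SympAutExists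

section Count

variable {G Ω Pt : Type*} [Group G] [MulAction G Ω] [MulAction G Pt]

theorem orbit_conj {Y Y' : Subgroup G} {g : G} (hY : Y' = Y.map (MulAut.conj g).toMonoidHom) {a b : Ω} :
    b ∈ orbit Y a ↔ g • b ∈ orbit Y' (g • a) := by
  subst hY
  constructor
  · rintro ⟨⟨y, hy⟩, rfl⟩
    refine ⟨⟨g * y * g⁻¹, y, hy, rfl⟩, ?_⟩
    show (g * y * g⁻¹) • g • a = g • y • a
    rw [mul_smul, mul_smul, inv_smul_smul]
  · rintro ⟨⟨_, y, hy, rfl⟩, h⟩
    refine ⟨⟨y, hy⟩, ?_⟩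
    have h' : (g * y * g⁻¹) • g • a = g • b := h
    rw [mul_smul, mul_smul, inv_smul_smul] at h'
    exact smul_left_cancel g h'

theorem count [Finite Ω] [Finite Pt] (Y : Pt → Subgroup G)
    (hY : ∀ (g : G) (u : Pt), Y (g • u) = (Y u).map (MulAut.conj g).toMonoidHom) (a : Ω)
    (h2 : ∀ a b c d : Ω, a ≠ b → c ≠ d → ∃ g : G, g • a = c ∧ g • b = d) (l : ℕ)
    (hl : ∀ u, Nat.card (orbit (Y u) a) = l) (hΩ : 2 ≤ Nat.card Ω) :
    ∃ ρ, (Nat.card Ω - 1) * ρ = Nat.card Pt * (l - 1) := by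
  classical
  have : Fintype Ω := Fintype.ofFinite Ω
  let A := {x : Pt × Ω // x.2 ≠ a ∧ x.2 ∈ orbit (Y x.1) a}
  have hA1 : Nat.card A = Nat.card Pt * (l - 1) := by
    refine card_fiber (fun x : A => x.1.1) _ fun u => ?_
    have h3 : Nat.card {y : Ω // y ≠ a ∧ y ∈ orbit (Y u) a} = l - 1 := by
      rw [← hl u, Nat.card_coe_set_eq, ← Nat.card_coe_set_eq, Nat.card_eq_fintype_card,
        Nat.card_eq_fintype_card, Fintype.card_subtype]
      have h4 : Fintype.card (orbit (Y u) a) = (Finset.univ.filter fun y => y ∈ orbit (Y u) a).card :=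
        Fintype.card_subtype _
      rw [h4]
      have h5 : (Finset.univ.filter fun y => y ≠ a ∧ y ∈ orbit (Y u) a) =
          (Finset.univ.filter fun y => y ∈ orbit (Y u) a).erase a := by
        ext y; simp
      rw [h5, Finset.card_erase_of_mem]
      simp
    rw [← h3]
    exact Nat.card_congr ⟨fun x => ⟨x.1.1.2, x.1.2.1, by
        obtain ⟨⟨⟨u', y⟩, h6, h7⟩, h8⟩ := x
        have h9 : u' = u := h8
        subst h9
        exact h7⟩,
      fun y => ⟨⟨(u, y.1), y.2.1, y.2.2⟩, rfl⟩, fun x => by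
        obtain ⟨⟨⟨u', y⟩, h6, h7⟩, rfl⟩ := x
        rfl, fun y => rfl⟩
  have hne : ∃ b : Ω, b ≠ a := by
    have : Nontrivial Ω := Finite.one_lt_card_iff_nontrivial.1 (by omega)
    exact exists_ne a
  obtain ⟨b, hb⟩ := hne
  refine ⟨Nat.card {u : Pt // b ∈ orbit (Y u) a}, ?_⟩
  rw [← hA1]
  have h3 : Nat.card {y : Ω // y ≠ a} = Nat.card Ω - 1 := by
    rw [Nat.card_eq_fintype_card, Nat.card_eq_fintype_card, Fintype.card_subtype_compl,
      Fintype.card_subtype_eq]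
  rw [← h3]
  symm
  refine card_fiber (fun x : A => (⟨x.1.2, x.2.1⟩ : {y : Ω // y ≠ a})) _ fun y => ?_
  obtain ⟨y, hy⟩ := y
  obtain ⟨g, hg1, hg2⟩ := h2 a b a y hb.symm hy.symm
  have h4 : Nat.card {u : Pt // b ∈ orbit (Y u) a} = Nat.card {u : Pt // y ∈ orbit (Y u) a} := by
    refine Nat.card_congr ((MulAction.toPerm g).subtypeEquiv fun u => ?_)
    rw [orbit_conj (hY g u) (a := a) (b := b), hg1, hg2]
    rfl
  rw [h4]
  exact Nat.card_congr ⟨fun x => ⟨x.1.1.1, by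
      obtain ⟨⟨⟨u, y'⟩, h6, h7⟩, h8⟩ := x
      have h9 : y' = y := congrArg Subtype.val h8
      subst h9
      exact h7⟩,
    fun u => ⟨⟨(u.1, y), hy, u.2⟩, rfl⟩, fun x => by
      obtain ⟨⟨⟨u, y'⟩, h6, h7⟩, h8⟩ := x
      have h9 : y' = y := congrArg Subtype.val h8
      subst h9
      rfl, fun y => rfl⟩

end Count

section Const

variable {F : Type*} [Field F] {m : ℕ}

local notation "V" => (Fin m ⊕ Fin m → F)
local notation "S" => Matrix.symplecticGroup (Fin m) F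
local notation "f" => sympForm m F

variable {G Ω : Type*} [Group G] [MulAction G Ω] (ι : PSp m F →* G)

theorem card_inf_conj {Y Y' : Subgroup G} {g : G} (hY : Y.map (MulAut.conj g).toMonoidHom = Y') {a b : Ω}
    (hg : g • a = b) : Nat.card (Y ⊓ stabilizer G a : Subgroup G) = Nat.card (Y' ⊓ stabilizer G b : Subgroup G) := by
  subst hY
  subst hg
  refine Nat.card_congr ⟨fun x => ⟨g * x.1 * g⁻¹, ⟨x.1, x.2.1, rfl⟩, ?_⟩, fun x => ⟨g⁻¹ * x.1 * g, ?_, ?_⟩, ?_, ?_⟩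
  · show (g * x.1 * g⁻¹) • g • a = g • a
    rw [mul_smul, mul_smul, inv_smul_smul, x.2.2]
  · obtain ⟨y, hy, hyx⟩ := x.2.1
    have : g⁻¹ * x.1 * g = y := by
      rw [← hyx]
      show g⁻¹ * (g * y * g⁻¹) * g = y
      group
    rw [this]; exact hy
  · show (g⁻¹ * x.1 * g) • a = a
    rw [mul_smul, mul_smul, x.2.2, inv_smul_smul]
  · intro x
    apply Subtype.ext
    show g⁻¹ * (g * x.1 * g⁻¹) * g = x.1
    group
  · intro x
    apply Subtype.ext
    show g * (g⁻¹ * x.1 * g) * g⁻¹ = x.1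
    group

theorem const (h1 : ∀ a b : Ω, ∃ g : G, g • a = b) (hinv : Inv ι) {a : Ω}
    (htr : ∀ v w : V, v ≠ 0 → w ≠ 0 → ∃ g : G, g • a = a ∧ (X ι v).map (MulAut.conj g).toMonoidHom = X ι w)
    {v : V} (hv : v ≠ 0) {w : V} (hw : w ≠ 0) (b : Ω) :
    Nat.card (X ι v ⊓ stabilizer G a : Subgroup G) = Nat.card (X ι w ⊓ stabilizer G b : Subgroup G) := by
  obtain ⟨g, hg⟩ := h1 b a
  obtain ⟨w', hw', hgw⟩ := hinv g w hw
  obtain ⟨k, hk1, hk2⟩ := htr v w' hv hw'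
  rw [card_inf_conj hk2 hk1, card_inf_conj hgw hg]

end Const

end Cfsg.Agent.H387.TwoSpCount
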