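import Mathlib
import Cfsg.Agent.H387.TwoSpGeo

/-!
# The embedding of `SL_2(q)` in `Sp_2m(q)` (helper387, HUB H1)
-/

set_option autoImplicit false
open Cfsg MulAction

namespace Cfsg.Agent.H387.TwoSpSL

open Cfsg.Agent.ClassicalGeometry.SympBasic
open Cfsg.Agent.ClassicalGeometry.SympSiegel
open Cfsg.Agent.ClassicalGeometry.SympAutExists

variable {F : Type*} [Field F] {m : ℕ}

local notation "V" => (Fin m ⊕ Fin m → F)
local notation "S" => Matrix.symplecticGroup (Fin m) F
local notation "f" => sympForm m F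
local notation "SL" => Matrix.SpecialLinearGroup (Fin 2) F

/-- the linear map of a `2 × 2` matrix on the hyperbolic plane `⟨e, e'⟩` -/
def lin (e e' : V) (a b c d : F) : V →ₗ[F] V :=
  LinearMap.id + ((a - 1) • (-(sympBilin m F e')) + b • (sympBilin m F e)).smulRight e +
    (c • (-(sympBilin m F e')) + (d - 1) • (sympBilin m F e)).smulRight e'

theorem lin_apply (e e' : V) (a b c d : F) (x : V) :
    lin e e' a b c d x = x + ((a - 1) * f x e' + b * f e x) • e + (c * f x e' + (d - 1) * f e x) • e' := by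
  simp only [lin, LinearMap.add_apply, LinearMap.id_apply, LinearMap.smulRight_apply, LinearMap.smul_apply,
    LinearMap.neg_apply, sympBilin_apply, smul_eq_mul]
  rw [sympForm_swap e' x, neg_neg]

theorem form_lin {e e' : V} (hee : f e e' = 1) {a b c d : F} (hdet : a * d - b * c = 1) (x y : V) :
    f (lin e e' a b c d x) (lin e e' a b c d y) = f x y := by
  have h1 : f e' e = -1 := by rw [sympForm_swap, hee]
  rw [lin_apply, lin_apply]
  simp only [sympForm_add_left, sympForm_add_right, sympForm_smul_left, sympForm_smul_right, sympForm_self,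
    hee, h1]
  rw [sympForm_swap e' y, sympForm_swap x e]
  linear_combination (f x e' * f e y - f e x * f y e') * hdet

theorem form_lin' {e e' : V} (hee : f e e' = 1) (A : SL) (x y : V) :
    f (lin e e' (A 0 0) (A 0 1) (A 1 0) (A 1 1) x) (lin e e' (A 0 0) (A 0 1) (A 1 0) (A 1 1) y) = f x y :=
  form_lin hee (by
    have := A.det_coe
    rwa [Matrix.det_fin_two] at this) x y

/-- `SL_2(F) → Sp_2m(F)` -/
def emb {e e' : V} (hee : f e e' = 1) : SL →* S where
  toFun A := ofIso (lin e e' (A 0 0) (A 0 1) (A 1 0) (A 1 1)) (form_lin' hee A)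
  map_one' := by
    apply ext_smul
    intro x
    rw [ofIso_smul, lin_apply, one_smul]
    simp
  map_mul' A B := by
    apply ext_smul
    intro x
    rw [ofIso_smul, mul_smul, ofIso_smul, ofIso_smul, lin_apply, lin_apply, lin_apply]
    simp only [sympForm_add_left, sympForm_add_right, sympForm_smul_left, sympForm_smul_right, sympForm_self,
      hee, Matrix.SpecialLinearGroup.coe_mul, Matrix.mul_apply, Fin.sum_univ_two]
    module

theorem emb_smul {e e' : V} (hee : f e e' = 1) (A : SL) (x : V) :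
    emb hee A • x = x + ((A 0 0 - 1) * f x e' + A 0 1 * f e x) • e +
      (A 1 0 * f x e' + (A 1 1 - 1) * f e x) • e' := by
  exact (ofIso_smul _ (form_lin' hee A) x).trans (lin_apply _ _ _ _ _ _ x)

/-- the transvections of `SL_2` -/
def tv (v : Fin 2 → F) (c : F) : SL :=
  ⟨!![1 + c * v 0 * v 1, -c * v 0 ^ 2; c * v 1 ^ 2, 1 - c * v 0 * v 1], by
    rw [Matrix.det_fin_two_of]; ring⟩

theorem emb_tv {e e' : V} (hee : f e e' = 1) (v : Fin 2 → F) (c : F) :
    emb hee (tv v c) = transv (v 0 • e + v 1 • e') c := by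
  apply ext_smul
  intro x
  rw [emb_smul, transv_smul]
  simp only [sympForm_add_right, sympForm_smul_right]
  rw [sympForm_swap x e]
  simp only [tv, Matrix.SpecialLinearGroup.coe_mk, Matrix.of_apply, Matrix.cons_val', Matrix.cons_val_zero,
    Matrix.cons_val_one, Matrix.cons_val_fin_one]
  module

theorem tv_mulVec (v : Fin 2 → F) (c : F) : ((tv v c : SL) : Matrix (Fin 2) (Fin 2) F).mulVec v = v := by
  funext i
  fin_cases i
  · simp [tv, Matrix.mulVec, dotProduct, Fin.sum_univ_two]; ring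
  · simp [tv, Matrix.mulVec, dotProduct, Fin.sum_univ_two]; ring

theorem exists_tv {v : Fin 2 → F} (hv : v ≠ 0) {g : SL}
    (hg : (g : Matrix (Fin 2) (Fin 2) F).mulVec v = v) : ∃ c, g = tv v c := by
  have h0 := congrFun hg 0
  have h1 := congrFun hg 1
  simp only [Matrix.mulVec, dotProduct, Fin.sum_univ_two] at h0 h1
  have hdet := g.det_coe
  rw [Matrix.det_fin_two] at hdet
  obtain ⟨a, ha⟩ : ∃ a, a = g 0 0 := ⟨_, rfl⟩
  obtain ⟨b, hb⟩ : ∃ b, b = g 0 1 := ⟨_, rfl⟩
  obtain ⟨c, hc⟩ : ∃ c, c = g 1 0 := ⟨_, rfl⟩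
  obtain ⟨d, hd⟩ : ∃ d, d = g 1 1 := ⟨_, rfl⟩
  have h0' : a * v 0 + b * v 1 = v 0 := by rw [ha, hb]; exact h0
  have h1' : c * v 0 + d * v 1 = v 1 := by rw [hc, hd]; exact h1
  have hdet' : a * d - b * c = 1 := by rw [ha, hb, hc, hd]; exact hdet
  have key : ∀ s, a = 1 + s * v 0 * v 1 → b = -s * v 0 ^ 2 → c = s * v 1 ^ 2 → d = 1 - s * v 0 * v 1 →
      g = tv v s := by
    intro s e1 e2 e3 e4
    apply Subtype.ext
    ext i j
    fin_cases i <;> fin_cases j
    · exact ha.symm.trans e1
    · exact hb.symm.trans e2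
    · exact hc.symm.trans e3
    · exact hd.symm.trans e4
  by_cases hv0 : v 0 = 0
  · have hv1 : v 1 ≠ 0 := by
      intro h
      apply hv
      funext i
      fin_cases i
      · exact hv0
      · exact h
    rw [hv0] at h0' h1'
    have hb0 : b = 0 := by
      have : b * v 1 = 0 := by linear_combination h0'
      exact (mul_eq_zero.1 this).resolve_right hv1
    have hd1 : d = 1 := by
      have : (d - 1) * v 1 = 0 := by linear_combination h1'
      exact sub_eq_zero.1 ((mul_eq_zero.1 this).resolve_right hv1)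
    have ha1 : a = 1 := by
      rw [hb0, hd1] at hdet'; linear_combination hdet'
    refine ⟨c * (v 1 ^ 2)⁻¹, key _ ?_ ?_ ?_ ?_⟩
    · rw [ha1, hv0]; ring
    · rw [hb0, hv0]; ring
    · field_simp
    · rw [hd1, hv0]; ring
  · -- `d = 1 + b r`, `r = v 1 / v 0`
    have e1 : (a - 1) * v 0 = - b * v 1 := by linear_combination h0'
    have e2 : c * v 0 = (1 - d) * v 1 := by linear_combination h1'
    have e3 : (d - 1) * v 0 = b * v 1 := by
      linear_combination v 0 * hdet' - d * e1 + b * e2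
    have e4 : c * v 0 ^ 2 = -b * v 1 ^ 2 := by
      linear_combination v 0 * e2 - v 1 * e3
    refine ⟨-b * (v 0 ^ 2)⁻¹, key _ ?_ ?_ ?_ ?_⟩
    · have : a * v 0 = (1 + -b * (v 0 ^ 2)⁻¹ * v 0 * v 1) * v 0 := by
        field_simp
        linear_combination e1
      exact mul_right_cancel₀ hv0 this
    · field_simp
    · have : c * v 0 ^ 2 = (-b * (v 0 ^ 2)⁻¹ * v 1 ^ 2) * v 0 ^ 2 := by
        rw [e4]; field_simp
      exact mul_right_cancel₀ (pow_ne_zero 2 hv0) this
    · have : d * v 0 = (1 - -b * (v 0 ^ 2)⁻¹ * v 0 * v 1) * v 0 := by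
        field_simp
        linear_combination e3
      exact mul_right_cancel₀ hv0 this

theorem tv_inj {v : Fin 2 → F} (hv : v ≠ 0) {c d : F} (h : tv v c = tv v d) : c = d := by
  have h1 : ∀ i j, (tv v c : Matrix (Fin 2) (Fin 2) F) i j = (tv v d : Matrix (Fin 2) (Fin 2) F) i j := by
    intro i j; rw [h]
  by_cases hv0 : v 0 = 0
  · have hv1 : v 1 ≠ 0 := by
      intro h
      apply hv
      funext i
      fin_cases i
      · exact hv0
      · exact h
    have h2 : c * v 1 ^ 2 = d * v 1 ^ 2 := h1 1 0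
    exact mul_right_cancel₀ (pow_ne_zero 2 hv1) h2
  · have h2 : -c * v 0 ^ 2 = -d * v 0 ^ 2 := h1 0 1
    exact neg_injective (mul_right_cancel₀ (pow_ne_zero 2 hv0) h2)

/-- The elements of `D` fixing `v`, where `D` is the preimage of a point stabiliser. -/
theorem card_fix {Ω : Type*} [MulAction S Ω] {e e' : V} (hee : f e e' = 1) (x : Ω) {v : Fin 2 → F}
    (hv : v ≠ 0) : Nat.card {g : SL // g ∈ (stabilizer S x).comap (emb hee) ∧
      (g : Matrix (Fin 2) (Fin 2) F).mulVec v = v} =
    Nat.card {c : F // transv (v 0 • e + v 1 • e') c • x = x} := by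
  symm
  refine Nat.card_congr (Equiv.ofBijective (fun c : {c : F // transv (v 0 • e + v 1 • e') c • x = x} =>
    (⟨tv v c.1, by
      rw [Subgroup.mem_comap, emb_tv]; exact c.2, tv_mulVec v c.1⟩ :
    {g : SL // g ∈ (stabilizer S x).comap (emb hee) ∧ (g : Matrix (Fin 2) (Fin 2) F).mulVec v = v})) ⟨?_, ?_⟩)
  · intro c d h
    exact Subtype.ext (tv_inj hv (congrArg Subtype.val h))
  · rintro ⟨g, hg, hgv⟩
    obtain ⟨c, rfl⟩ := exists_tv hv hgv
    refine ⟨⟨c, ?_⟩, rfl⟩
    rw [Subgroup.mem_comap, emb_tv] at hg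
    exact hg

theorem ne_zero_of {e e' : V} (hee : f e e' = 1) {v : Fin 2 → F} (hv : v ≠ 0) :
    v 0 • e + v 1 • e' ≠ 0 := by
  intro h
  apply hv
  have h1 := congrArg (fun x => f x e') h
  have h2 := congrArg (fun x => f e x) h
  simp only [sympForm_add_left, sympForm_smul_left, sympForm_self, sympForm_zero_left, hee, mul_one, mul_zero,
    add_zero] at h1
  simp only [sympForm_add_right, sympForm_smul_right, sympForm_self, sympForm_zero_right, hee, mul_one, mul_zero,
    zero_add] at h2
  funext i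
  fin_cases i
  · exact h1
  · exact h2

end Cfsg.Agent.H387.TwoSpSL
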