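import Cfsg.Agent.H387.TwoSpPP
import Cfsg.Agent.H387.TwoSpRow
import Cfsg.Agent.H387.TwoSpEven
import Cfsg.Agent.H387.TwoSpFinal
import Cfsg.Agent.H384.TwoTransPPAS
import Cfsg.Agent.S2141
import Cfsg.Agent.S2142
import Cfsg.Agent.SmallSimple.Embed
import Cfsg.Agent.SmallSimple.SylowCount
import Cfsg.Agent.LieClassical.SympCount
import Cfsg.Agent.LieClassical.SympCenter

/-!
# HUB H1: the row `PSp_2m(q)`, degree a power of `p`, and the whole row without hypotheses (helper387)
-/

set_option autoImplicit false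
open Cfsg MulAction

namespace Cfsg.Agent.H387.TwoSpPPRow

open Cfsg.Agent.ClassicalGeometry.SympBasic
open Cfsg.Agent.ClassicalGeometry.SympSiegel
open Cfsg.Agent.ClassicalGeometry.SympAutExists
open Cfsg.Agent.H387.TwoSpGeo Cfsg.Agent.H387.TwoSpCount Cfsg.Agent.H387.TwoSpMain
open Cfsg.Agent.H384.TwoTrans

universe u v

/-- a simple group of order 25920 has no subgroup of index 9 -/
theorem no_nine {G : Type*} [Group G] [Finite G] [IsSimpleGroup G] (hc : Nat.card G = 25920) (H : Subgroup G) :
    H.index ≠ 9 := by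
  intro h
  have hG : ¬ IsMulCommutative G :=
    Cfsg.Agent.SmallSimple.Embed.not_comm_of_card_not_prime (by rw [hc]; norm_num)
  have hH : H ≠ ⊤ := by
    rintro rfl
    rw [Subgroup.index_top] at h
    omega
  obtain ⟨f, hf⟩ : ∃ f : G →* alternatingGroup (Fin 9), Function.Injective f := h ▸ Cfsg.Agent.S0991.result hG H hH
  have h2 := two_mul_nat_card_alternatingGroup (α := Fin 9)
  rw [Nat.card_eq_fintype_card (α := Equiv.Perm _), Fintype.card_perm, Fintype.card_fin] at h2
  have h3 : Nat.card (alternatingGroup (Fin 9)) = 181440 := by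
    have : (9 : ℕ).factorial = 362880 := by decide
    omega
  have h4 : Nat.card f.range = 25920 := by
    rw [← hc]
    exact Nat.card_congr (MonoidHom.ofInjective hf).symm.toEquiv
  have h5 := f.range.card_mul_index
  rw [h3, h4] at h5
  have h6 : f.range.index = 7 := by omega
  have : IsSimpleGroup (alternatingGroup (Fin 9)) := alternatingGroup.isSimpleGroup (by simp)
  have h7 := Cfsg.Agent.SmallSimple.SylowCount.card_dvd_factorial_index f.range (by
    intro htop
    rw [htop, Subgroup.index_top] at h6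
    omega)
  rw [h3, h6] at h7
  revert h7
  decide

/-- the order of `PSp_4(3)` -/
theorem card_43 {F : Type*} [Field F] [Fintype F] (hF : Fintype.card F = 3) : Nat.card (PSp 2 F) = 25920 := by
  have h1 := Cfsg.Agent.LieClassical.SympCount.card_symplecticGroup (F := F) 2
  have h2 := Cfsg.Agent.LieClassical.SympCenter.card_center (F := F) (m := 2) (by norm_num)
  have h3 := Subgroup.card_eq_card_quotient_mul_card_subgroup
    (Subgroup.center (Matrix.symplecticGroup (Fin 2) F))
  change _ = Nat.card (Cfsg.PSp 2 F) * _ at h3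
  rw [h1, h2, hF] at h3
  norm_num [Finset.prod_range_succ] at h3
  omega

/-- the minimal index, for prime power index -/
theorem lower {F : Type*} [Field F] [Fintype F] {T : Type*} [Group T] [Finite T] [IsSimpleGroup T] {m : ℕ}
    (e : T ≃* PSp m F) (p : ℕ) [Fact p.Prime] [CharP F p] (hm : 2 ≤ m) (hmq : m = 2 → 3 ≤ Fintype.card F)
    (H : Subgroup T) {k : ℕ} (hH : H.index = p ^ k) (h2 : 2 ≤ H.index) : Fintype.card F ^ (2 * m - 1) ≤ H.index := by
  have hp : p.Prime := Fact.out
  obtain ⟨kk, -, hk⟩ := FiniteField.card F p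
  have hk1 : 1 ≤ (kk : ℕ) := kk.2
  have hq2 : 2 ≤ Fintype.card F := by
    rw [hk]; exact hp.two_le.trans (Nat.le_self_pow (by omega) p)
  -- the image in `PSp`
  have hidx : (H.map e.toMonoidHom).index = H.index := by
    have := Subgroup.index_map_of_bijective (f := e.toMonoidHom) e.bijective H
    exact this
  have hne : H.map e.toMonoidHom ≠ ⊤ := by
    intro h
    rw [h, Subgroup.index_top] at hidx
    omega
  by_cases hF2 : Fintype.card F = 2
  · have hm3 : 3 ≤ m := by
      by_contra hcon
      have := hmq (by omega)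
      omega
    have h3 := (Cfsg.Agent.S2142.result hF2 m hm3).1 _ hne
    rw [hidx, hH] at h3
    have hp2 : p = 2 := by
      rw [hF2] at hk
      have h3 : p ∣ 2 := by rw [hk]; exact dvd_pow_self p (by omega)
      exact (Nat.prime_dvd_prime_iff_eq hp Nat.prime_two).1 h3
    rw [hF2, hH]
    rw [hp2] at h3 ⊢
    exact TwoSpPPArith.le_of_two hm h3
  have hq3 : 3 ≤ Fintype.card F := by omega
  by_cases h23 : m = 2 ∧ Fintype.card F = 3
  · obtain ⟨rfl, hF3⟩ := h23
    have hp3 : p = 3 := by
      rw [hF3] at hk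
      have h3 : p ∣ 3 := by rw [hk]; exact dvd_pow_self p (by omega)
      exact (Nat.prime_dvd_prime_iff_eq hp Nat.prime_three).1 h3
    have hc : Nat.card T = 25920 := by rw [Nat.card_congr e.toEquiv, card_43 hF3]
    have h9 := no_nine hc H
    have hT : H ≠ ⊤ := by
      rintro rfl
      rw [Subgroup.index_top] at h2
      omega
    have h6 := Cfsg.Agent.SmallSimple.SylowCount.card_dvd_factorial_index H hT
    rw [hF3]
    rw [hp3] at hH
    rw [hH] at h9 h6 h2 ⊢
    have hk3 : 3 ≤ k := by
      by_contra hcon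
      have : k = 0 ∨ k = 1 ∨ k = 2 := by omega
      rcases this with rfl | rfl | rfl
      · simp at h2
      · rw [hc] at h6
        revert h6
        decide
      · exact h9 (by norm_num)
    exact Nat.pow_le_pow_right (by norm_num) (by omega)
  · have h3 := (Cfsg.Agent.S2141.result (q := Fintype.card F) rfl m hm hq3 h23).1 _ hne
    rw [hidx] at h3
    refine TwoSpPPArith.le_of_N hq2 (by omega) ?_ h3
    apply Nat.div_mul_cancel
    simpa using Nat.sub_dvd_pow_sub_pow (Fintype.card F) 1 (2 * m)

section Row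

variable {G : Type u} {Ω : Type v} [Group G] [MulAction G Ω] {T : Subgroup G}
  {F : Type*} [Field F] {m : ℕ}

local notation "V" => (Fin m ⊕ Fin m → F)

/-- there is no 2-transitive group with socle `PSp_2m(q)` of degree a power of `p` -/
theorem main_pp [Fintype F] (A : AS G Ω T) (e : ↥T ≃* PSp m F) (p : ℕ) [Fact p.Prime] [CharP F p] (hm : 2 ≤ m)
    (hmq : m = 2 → 3 ≤ Fintype.card F) {k : ℕ} (hn : Nat.card Ω = p ^ k) : False := by
  have := A.finG
  have := A.finΩ
  have := A.finT
  have := A.normal
  have := A.faithful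
  have := A.transitive
  have := A.simple
  have hp : p.Prime := Fact.out
  have hm1 : 1 ≤ m := by omega
  have h5 := A.five_le
  have hk0 : k ≠ 0 := by
    rintro rfl
    rw [hn, pow_zero] at h5
    omega
  have hdvd : p ∣ Nat.card Ω := by rw [hn]; exact dvd_pow_self p hk0
  have hne : Nonempty Ω := by
    rw [← Finite.card_pos_iff]; omega
  have hmin : Fintype.card F ^ (2 * m - 1) ≤ Nat.card Ω := by
    obtain ⟨ω⟩ := hne
    have h1 := A.index_stabilizer ω
    rw [← h1]
    exact lower e p hm hmq _ (h1.trans hn) (by omega)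
  set ι : PSp m F →* G := T.subtype.comp e.symm.toMonoidHom with hιdef
  have hι : Function.Injective ι := T.subtype_injective.comp e.symm.injective
  have hιT : ∀ s, ι s ∈ T := fun s => (e.symm s).2
  have hιe : ∀ (t : G) (ht : t ∈ T), ι (e ⟨t, ht⟩) = t := by
    intro t ht
    show ((e.symm (e ⟨t, ht⟩) : T) : G) = t
    rw [e.symm_apply_apply]
  let α : G →* MulAut (PSp m F) := (MulAut.congr e).toMonoidHom.comp MulAut.conjNormal
  have hα : ∀ (g : G) (s : PSp m F), ι (α g s) = g * ι s * g⁻¹ := by
    intro g s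
    show ((e.symm (e (MulAut.conjNormal g (e.symm s))) : T) : G) = _
    rw [e.symm_apply_apply, MulAut.conjNormal_apply]
    rfl
  have hfaith : ∀ s : PSp m F, (∀ a : Ω, ι s • a = a) → s = 1 := by
    intro s hs
    apply hι
    rw [map_one]
    apply FaithfulSMul.eq_of_smul_eq_smul (α := Ω)
    intro a
    rw [hs a, one_smul]
  by_cases hall : ∀ g : G, Pres (α g)
  · exact TwoSpPP.core_pp p hm ι hι (fun g v hv => TwoSpRow.inv_of_pres p hm1 ι hι (hall g) (hα g) hv) A.two' hfaith hn
      (by omega) hmin
  · -- the graph automorphism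
    have hm2 : m = 2 := by
      by_contra hne
      apply hall
      intro g
      exact Cfsg.Agent.ClassicalGeometry.SympAutOddA.recog hm (Or.inl (by omega)) (α g)
    have h20 : (2 : F) = 0 := by
      by_contra hne
      apply hall
      intro g
      exact Cfsg.Agent.ClassicalGeometry.SympAutOddA.recog hm (Or.inr hne) (α g)
    subst hm2
    have hp2 : p = 2 := by
      have h1 := (CharP.cast_eq_zero_iff F p 2).1 (by exact_mod_cast h20)
      exact (Nat.prime_dvd_prime_iff_eq (Fact.out : p.Prime) Nat.prime_two).1 h1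
    subst hp2
    have ht : ∃ t : F, t ≠ 0 ∧ t ≠ 1 := by
      classical
      have h3 := hmq rfl
      by_contra hcon
      push Not at hcon
      have h4 : (Finset.univ : Finset F) ⊆ {0, 1} := by
        intro t _
        by_cases h0 : t = 0
        · simp [h0]
        · simp [hcon t h0]
      have h5 := Finset.card_le_card h4
      have h6 : (({0, 1} : Finset F)).card ≤ 2 := Finset.card_le_two
      rw [Finset.card_univ] at h5
      omega
    let G₁ : Subgroup G :=
      { carrier := {g | Pres (α g)}
        mul_mem' := fun {a b} ha hb => by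
          show Pres (α (a * b))
          rw [map_mul]; exact ha.mul hb
        one_mem' := by
          show Pres (α 1)
          rw [map_one]; exact TwoSpRow.pres_one
        inv_mem' := fun {a} ha => by
          show Pres (α a⁻¹)
          rw [map_inv]; exact ha.inv }
    have hmem : ∀ g, g ∈ G₁ ↔ Pres (α g) := fun g => Iff.rfl
    have hG₁ : ∀ x y : G, x ∉ G₁ → y ∉ G₁ → x⁻¹ * y ∈ G₁ := by
      intro x y hx hy
      rw [hmem, map_mul, map_inv]
      exact TwoSpRow.pres_of_not ht hx hy
    have hTG : ∀ s, ι s ∈ G₁ := by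
      intro s
      rw [hmem]
      apply TwoSpRow.pres_of_conj (s := s)
      intro x
      apply hι
      rw [hα, map_mul, map_mul, map_inv]
    have htrans : ∀ a b : Ω, ∃ g ∈ G₁, g • a = b := by
      intro a b
      obtain ⟨⟨t, ht⟩, h⟩ := exists_smul_eq T a b
      refine ⟨t, ?_, h⟩
      rw [← hιe t ht]
      exact hTG _
    let ι' : PSp 2 F →* G₁ := ι.codRestrict G₁ hTG
    have hι' : Function.Injective ι' := fun x y h => hι (congrArg (fun z : G₁ => (z : G)) h)
    refine TwoSpPP.core_pp 2 hm (G := G₁) (Ω := Ω) ι' hι' ?_ ?_ ?_ hn (by omega) hmin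
    · intro g v hv
      exact TwoSpRow.inv_of_pres 2 hm1 ι' hι' (g := g) (α := α g) g.2 (fun s => Subtype.ext (hα g s)) hv
    · intro a b c d hab hcd
      obtain ⟨g, hg, h⟩ := TwoSpRow.two_of_index A.two' G₁ hG₁ htrans hdvd (by omega) a b c d hab hcd
      exact ⟨⟨g, hg⟩, h⟩
    · intro s hs
      exact hfaith s hs

end Row

/-- prime power degree -/
theorem ppow_psp : PPowAS.{u, v} fun p T _ => Cfsg.IsPSpChar p T := by
  intro G Ω _ _ T p a hp A hT hn
  obtain ⟨F, i1, i2, i3, m, hm, hmq, ⟨e⟩⟩ := id hT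
  have : Fact p.Prime := ⟨hp⟩
  exact (main_pp A e p hm hmq hn).elim

/-- The row `PSp_2m(q)` of HUB H1. -/
theorem row_psp : RowDvd.{u, v} fun p T _ => Cfsg.IsPSpChar p T := by
  intro G Ω _ _ T p hp hdvd A hT
  obtain ⟨F, i1, i2, i3, m, hm, hmq, ⟨e⟩⟩ := id hT
  have : Fact p.Prime := ⟨hp⟩
  rcases TwoSpFinal.main A e p hm hmq hdvd with ⟨k, hk⟩ | ⟨hF, hm3, hn⟩
  · exact (main_pp A e p hm hmq hk).elim
  · exact .sp F m _ hF hm3 ⟨e⟩ hn

end Cfsg.Agent.H387.TwoSpPPRow
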