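import Cfsg.Agent.H387.LinCore
import Cfsg.Agent.S0035

/-!
# Linear groups all of whose vector stabilizers are maximal subgroups: `M` is simple
-/

set_option autoImplicit false

namespace Cfsg.Agent.H387.LinMain

open MulAction Cfsg.Agent.H387.LinCore
open scoped Pointwise

/-- A non-abelian simple group has no Frobenius complement. -/
theorem no_frobenius {T : Type*} [Group T] [Finite T] [hT : IsSimpleGroup T] (C : Subgroup T)
    (hC : Cfsg.IsFrobeniusComplement C) : False := by
  obtain ⟨N, -, hN, hc⟩ := Cfsg.Agent.S0035.result C hC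
  have := hc.card_mul_card
  rcases hT.eq_bot_or_eq_top_of_normal N hN with h | h
  · rw [h, Subgroup.card_bot, one_mul] at this
    exact hC.2.1 (Subgroup.eq_top_of_card_eq _ this)
  · rw [h, Subgroup.card_top] at this
    have hpos : 0 < Nat.card T := Nat.card_pos
    have h1 : Nat.card C = 1 := by
      have h3 : Nat.card T * Nat.card C = Nat.card T * 1 := by rw [this, mul_one]
      exact Nat.eq_of_mul_eq_mul_left hpos h3
    exact hC.1 (Subgroup.card_eq_one.1 h1)

variable {H : Type*} [Group H] [Finite H] {V : Type*} [AddCommGroup V] [Finite V] [Nontrivial V]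
  [DistribMulAction H V] [FaithfulSMul H V]

/-- An involution on an elementary abelian 2-group fixes a non-zero vector. -/
theorem exists_fixed {H : Type*} [Group H] {V : Type*} [AddCommGroup V] [Nontrivial V]
    [DistribMulAction H V] (h2 : ∀ v : V, v + v = 0) {z : H} (hz : z * z = 1) :
    ∃ v : V, v ≠ 0 ∧ z • v = v := by
  obtain ⟨w, hw⟩ := exists_ne (0 : V)
  by_cases h : z • w = w
  · exact ⟨w, hw, h⟩
  · refine ⟨w + z • w, ?_, ?_⟩
    · intro h1
      apply h
      have h3 : z • w = -w := by rw [eq_neg_iff_add_eq_zero, add_comm]; exact h1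
      rw [h3, neg_eq_iff_add_eq_zero]
      exact h2 w
    · rw [smul_add, smul_smul, hz, one_smul, add_comm]

/-- **Main step**: a simple normal subgroup of even order of the minimal normal subgroup `M`,
with conjugates generating `M`, is `M`. -/
theorem eq_of_simple (h2 : ∀ v : V, v + v = 0)
    (hmax : ∀ v : V, v ≠ 0 → IsCoatom (stabilizer H v))
    (hirr : ∀ W : AddSubgroup V, (∀ (h : H), ∀ w ∈ W, h • w ∈ W) → W = ⊥ ∨ W = ⊤)
    {M T : Subgroup H} [hM : M.Normal] (hTM : T ≤ M)
    (hTn : M ≤ Subgroup.normalizer (T : Set H))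
    (hgen : ∀ Q : Subgroup H, (∀ h : H, MulAut.conj h • T ≤ Q) → M ≤ Q)
    (hTs : IsSimpleGroup T) {z : H} (hzT : z ∈ T) (hz1 : z ≠ 1) (hz2 : z * z = 1) : T = M := by
  by_contra hne
  have hT0 : T ≠ ⊥ := by
    intro h
    rw [h, Subgroup.mem_bot] at hzT
    exact hz1 hzT
  -- another conjugate of `T`
  obtain ⟨g₀, hg₀⟩ : ∃ g : H, MulAut.conj g • T ≠ T := by
    by_contra hcon
    push Not at hcon
    exact hne (le_antisymm hTM (hgen T fun h => (hcon h).le))
  have hcomm : ∀ x ∈ T, ∀ y ∈ MulAut.conj g₀ • T, x * y = y * x := by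
    rcases conj_commute hTM hTn hTs g₀ with h | h
    · exact absurd h hg₀
    · exact h
  have hTD : ∀ t ∈ T, ∀ d ∈ Subgroup.centralizer (T : Set H), d * t = t * d := by
    intro t ht d hd
    exact ((Subgroup.mem_centralizer_iff.1 hd) t ht).symm
  -- the vectors under consideration
  have hfin : {P : AddSubgroup V | ∃ v : V, v ≠ 0 ∧ (∃ x ∈ T, x ≠ 1 ∧ x • v = v) ∧
      SS (Subgroup.centralizer (T : Set H)) (sp (Subgroup.centralizer (T : Set H)) v) ∧
      P = sp (Subgroup.centralizer (T : Set H)) v}.Finite := Set.toFinite _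
  have hnonempty : {P : AddSubgroup V | ∃ v : V, v ≠ 0 ∧ (∃ x ∈ T, x ≠ 1 ∧ x • v = v) ∧
      SS (Subgroup.centralizer (T : Set H)) (sp (Subgroup.centralizer (T : Set H)) v) ∧
      P = sp (Subgroup.centralizer (T : Set H)) v}.Nonempty := by
    obtain ⟨v₀, hv₀, hzv₀⟩ := exists_fixed (V := V) h2 hz2
    have hinv : Inv (Subgroup.centralizer (T : Set H)) (fixBy (V := V) (Subgroup.zpowers z)) := by
      apply fixBy_inv
      intro e he d hd
      obtain ⟨k, rfl⟩ := Subgroup.mem_zpowers_iff.1 hd
      have h3 : e⁻¹ * z ^ k * e = z ^ k := by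
        have h4 := hTD _ (T.zpow_mem hzT k) e he
        rw [mul_assoc, ← h4, inv_mul_cancel_left]
      rw [h3]
      exact hd
    have hmem : v₀ ∈ fixBy (V := V) (Subgroup.zpowers z) := by
      intro d hd
      have : Subgroup.zpowers z ≤ stabilizer H v₀ := by
        rw [Subgroup.zpowers_le]; exact hzv₀
      exact this hd
    have hne0 : fixBy (V := V) (Subgroup.zpowers z) ≠ ⊥ := by
      intro h
      rw [h, AddSubgroup.mem_bot] at hmem
      exact hv₀ hmem
    obtain ⟨B, hB, hirrB⟩ := exists_irr_le hne0 hinv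
    obtain ⟨v, hvB, hv0⟩ : ∃ v ∈ B, v ≠ 0 := by
      by_contra hcon
      push Not at hcon
      exact hirrB.1 ((AddSubgroup.eq_bot_iff_forall B).2 hcon)
    have hsp : sp (Subgroup.centralizer (T : Set H)) v = B := by
      rcases hirrB.2.2 _ (sp_le hirrB.2.1 hvB) (sp_inv _ _) with h | h
      · exfalso
        have := self_mem_sp (Subgroup.centralizer (T : Set H)) v
        rw [h, AddSubgroup.mem_bot] at this
        exact hv0 this
      · exact h
    exact ⟨B, v, hv0, ⟨z, hzT, hz1, hB hvB z (Subgroup.mem_zpowers z)⟩, hsp ▸ hirrB.ss, hsp.symm⟩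
  obtain ⟨P, ⟨v, hv0, ⟨x, hxT, hx1, hxv⟩, hSS, hP⟩, hPmax⟩ := hfin.exists_maximal hnonempty
  -- the span is proper
  have hPtop : sp (Subgroup.centralizer (T : Set H)) v ≠ ⊤ := by
    intro h
    apply hx1
    apply FaithfulSMul.eq_of_smul_eq_smul (α := V)
    intro w
    rw [one_smul]
    exact fix_sp (hTD x hxT) hxv w (h ▸ AddSubgroup.mem_top w)
  have hkey : ∀ t ∈ T, t • sp (Subgroup.centralizer (T : Set H)) v ≤
      sp (Subgroup.centralizer (T : Set H)) v → t • v = v := by
    intro t ht hle
    apply fix_of_smul_sp_eq hmax hirr hTM hTn hgen hTs hT0 hv0 hPtop ht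
    apply SetLike.coe_injective
    apply Set.eq_of_subset_of_ncard_le hle _ (Set.toFinite _)
    rw [AddSubgroup.coe_pointwise_smul, Set.ncard_smul_set]
  -- the Frobenius complement
  refine no_frobenius ((stabilizer H v).subgroupOf T) ⟨?_, ?_, ?_⟩
  · intro h
    rw [Subgroup.eq_bot_iff_forall] at h
    have := h ⟨x, hxT⟩ (by rw [Subgroup.mem_subgroupOf]; exact hxv)
    exact hx1 (congrArg Subtype.val this)
  · intro h
    rw [Subgroup.subgroupOf_eq_top] at h
    exact T_no_fix hmax hirr hTM hTn hgen hT0 hv0 h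
  · intro g hg
    rw [Subgroup.eq_bot_iff_forall]
    intro y hy
    by_contra hy1
    rw [Subgroup.mem_inf] at hy
    obtain ⟨hy2, hy3⟩ := hy
    rw [Subgroup.mem_subgroupOf] at hy2
    have hyv : (y : H) • v = v := hy2
    have hygv : (y : H) • ((g : H) • v) = (g : H) • v := by
      rw [mem_conj_iff, Subgroup.mem_subgroupOf] at hy3
      have h3 : ((g : H)⁻¹ * (y : H) * (g : H)) • v = v := hy3
      rw [mul_smul, mul_smul, inv_smul_eq_iff] at h3
      exact h3
    have hy1' : (y : H) ≠ 1 := fun h => hy1 (Subtype.ext h)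
    have hgv : (g : H) • v ≠ v := fun h => hg (by rw [Subgroup.mem_subgroupOf]; exact h)
    -- `g P` is not contained in `P`
    have hnle : ¬ (g : H) • sp (Subgroup.centralizer (T : Set H)) v ≤
        sp (Subgroup.centralizer (T : Set H)) v := fun h => hgv (hkey g g.2 h)
    have hSSg := hSS.smul_of_commute (g := (g : H)) (fun d hd => hTD g g.2 d hd)
    obtain ⟨B, hB, hBle, hBP⟩ : ∃ B, Irr (Subgroup.centralizer (T : Set H)) B ∧
        B ≤ (g : H) • sp (Subgroup.centralizer (T : Set H)) v ∧
        ¬ B ≤ sp (Subgroup.centralizer (T : Set H)) v := by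
      by_contra hcon
      push Not at hcon
      exact hnle (hSSg _ hcon)
    -- `y` centralizes `B`
    have hyB : ∀ b ∈ B, (y : H) • b = b := by
      intro b hb
      have h3 := hBle hb
      rw [AddSubgroup.mem_pointwise_smul_iff_inv_smul_mem] at h3
      have h4 : (g : H)⁻¹ * (y : H) * (g : H) ∈ T := T.mul_mem (T.mul_mem (T.inv_mem g.2) y.2) g.2
      have h5 : ((g : H)⁻¹ * (y : H) * (g : H)) • v = v := by
        rw [mul_smul, mul_smul, hygv, inv_smul_smul]
      have h6 := fix_sp (hTD _ h4) h5 _ h3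
      rw [smul_smul] at h6
      have h7 : (g : H)⁻¹ * (y : H) * (g : H) * (g : H)⁻¹ = (g : H)⁻¹ * (y : H) := by group
      rw [h7, mul_smul] at h6
      exact MulAction.injective _ h6
    -- an element of another conjugate of `T` fixing `v` and not centralizing `B`
    obtain ⟨c, hcT, hc1, hcv⟩ := exists_conj_fix hmax hirr hTM hTn hT0 hv0 hxT hx1 hxv g₀
    have hcD : c ∈ Subgroup.centralizer (T : Set H) := by
      rw [Subgroup.mem_centralizer_iff]
      intro t ht
      exact hcomm t ht c hcT
    have hT'D : MulAut.conj g₀ • T ≤ Subgroup.centralizer (T : Set H) := by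
      intro d hd
      rw [Subgroup.mem_centralizer_iff]
      intro t ht
      exact hcomm t ht d hd
    obtain ⟨b, hb, hcb⟩ : ∃ b ∈ B, c • b ≠ b := by
      by_contra hcon
      push Not at hcon
      obtain ⟨b₀, hb₀, hb₀0⟩ : ∃ v ∈ B, v ≠ 0 := by
        by_contra hcon
        push Not at hcon
        exact hB.1 ((AddSubgroup.eq_bot_iff_forall B).2 hcon)
      -- the kernel of `T ^ g₀` on `B`
      let K : Subgroup T :=
        { carrier := {t | ∀ b ∈ B, (g₀ * (t : H) * g₀⁻¹) • b = b}
          one_mem' := by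
            intro b _
            rw [Subgroup.coe_one, mul_one, mul_inv_cancel, one_smul]
          mul_mem' := by
            intro s t hs ht b hb
            have h3 : g₀ * ((s * t : T) : H) * g₀⁻¹ = (g₀ * (s : H) * g₀⁻¹) * (g₀ * (t : H) * g₀⁻¹) := by
              rw [Subgroup.coe_mul]; group
            rw [h3, mul_smul, ht b hb, hs b hb]
          inv_mem' := by
            intro s hs b hb
            have h3 : g₀ * ((s⁻¹ : T) : H) * g₀⁻¹ = (g₀ * (s : H) * g₀⁻¹)⁻¹ := by
              rw [Subgroup.coe_inv]; group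
            rw [h3, inv_smul_eq_iff]
            exact (hs b hb).symm }
      have hKn : K.Normal := by
        constructor
        intro n hn t b hb
        have h3 : g₀ * ((t * n * t⁻¹ : T) : H) * g₀⁻¹ = (g₀ * (t : H) * g₀⁻¹) *
            ((g₀ * (n : H) * g₀⁻¹) * (g₀ * (t : H) * g₀⁻¹)⁻¹) := by
          rw [Subgroup.coe_mul, Subgroup.coe_mul, Subgroup.coe_inv]; group
        have h4 : (g₀ * (t : H) * g₀⁻¹)⁻¹ • b ∈ B :=
          hB.2.1 _ (Subgroup.inv_mem _ (hT'D (conj_mem_conj g₀ t.2))) b hb
        rw [h3]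
        generalize g₀ * (t : H) * g₀⁻¹ = a at h4 ⊢
        have h5 := hn _ h4
        generalize g₀ * (n : H) * g₀⁻¹ = n' at h5 ⊢
        rw [mul_smul, mul_smul, h5, smul_inv_smul]
      have hcK : (⟨g₀⁻¹ * c * g₀, mem_conj_iff.1 hcT⟩ : T) ∈ K := by
        intro b hb
        have h3 : g₀ * (g₀⁻¹ * c * g₀) * g₀⁻¹ = c := by group
        change (g₀ * (g₀⁻¹ * c * g₀) * g₀⁻¹) • b = b
        rw [h3]
        exact hcon b hb
      rcases hTs.eq_bot_or_eq_top_of_normal K hKn with h3 | h3
      · rw [h3, Subgroup.mem_bot] at hcK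
        apply hc1
        have h4 : g₀⁻¹ * c * g₀ = 1 := congrArg Subtype.val hcK
        have h5 : c = g₀ * (g₀⁻¹ * c * g₀) * g₀⁻¹ := by group
        rw [h5, h4]; group
      · -- then `T` fixes `g₀⁻¹ b₀`
        refine T_no_fix hmax hirr hTM hTn hgen hT0 (v := g₀⁻¹ • b₀) ?_ ?_
        · intro h4
          apply hb₀0
          rw [inv_smul_eq_iff, smul_zero] at h4
          exact h4
        · intro t ht
          have h4 : (⟨t, ht⟩ : T) ∈ K := h3 ▸ Subgroup.mem_top _
          have h5 := h4 b₀ hb₀
          change (g₀ * t * g₀⁻¹) • b₀ = b₀ at h5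
          rw [mem_stabilizer_iff]
          rw [mul_smul, mul_smul, ← eq_inv_smul_iff] at h5
          exact h5
    -- the new vector
    have hcb' : c • b - b ≠ 0 := sub_ne_zero.2 hcb
    have hcbB : c • b - b ∈ B := B.sub_mem (hB.2.1 c hcD b hb) hb
    have h3 : c • (v + b) - (v + b) = c • b - b := by
      rw [smul_add, hcv]; abel
    have h4 : c • b - b ∈ sp (Subgroup.centralizer (T : Set H)) (v + b) := by
      rw [← h3]
      exact AddSubgroup.sub_mem _ (sp_inv _ _ c hcD _ (self_mem_sp _ _)) (self_mem_sp _ _)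
    have hBle' : B ≤ sp (Subgroup.centralizer (T : Set H)) (v + b) := by
      have h5 : Inv (Subgroup.centralizer (T : Set H))
          (B ⊓ sp (Subgroup.centralizer (T : Set H)) (v + b)) := by
        intro d hd w hw
        exact ⟨hB.2.1 d hd w hw.1, sp_inv _ _ d hd w hw.2⟩
      rcases hB.2.2 _ inf_le_left h5 with h6 | h6
      · exfalso
        have h7 : c • b - b ∈ B ⊓ sp (Subgroup.centralizer (T : Set H)) (v + b) := ⟨hcbB, h4⟩
        rw [h6, AddSubgroup.mem_bot] at h7
        exact hcb' h7
      · exact inf_eq_left.1 h6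
    have hPle : sp (Subgroup.centralizer (T : Set H)) v ≤
        sp (Subgroup.centralizer (T : Set H)) (v + b) := by
      apply sp_le (sp_inv _ _)
      have h5 := AddSubgroup.sub_mem _ (self_mem_sp (Subgroup.centralizer (T : Set H)) (v + b))
        (hBle' hb)
      rwa [add_sub_cancel_right] at h5
    have hsum : sp (Subgroup.centralizer (T : Set H)) (v + b) =
        sp (Subgroup.centralizer (T : Set H)) v ⊔ B := by
      apply le_antisymm
      · apply sp_le
        · intro d hd w hw
          obtain ⟨p, hp, q, hq, rfl⟩ := AddSubgroup.mem_sup.1 hw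
          rw [smul_add]
          exact AddSubgroup.add_mem _ (le_sup_left (α := AddSubgroup V) (sp_inv _ _ d hd p hp))
            (le_sup_right (α := AddSubgroup V) (hB.2.1 d hd q hq))
        · exact AddSubgroup.add_mem _ (le_sup_left (α := AddSubgroup V) (self_mem_sp _ v))
            (le_sup_right (α := AddSubgroup V) hb)
      · exact sup_le hPle hBle'
    have hmem : sp (Subgroup.centralizer (T : Set H)) (v + b) ∈ {P : AddSubgroup V | ∃ v : V, v ≠ 0 ∧
        (∃ x ∈ T, x ≠ 1 ∧ x • v = v) ∧
        SS (Subgroup.centralizer (T : Set H)) (sp (Subgroup.centralizer (T : Set H)) v) ∧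
        P = sp (Subgroup.centralizer (T : Set H)) v} := by
      refine ⟨v + b, ?_, ⟨y, y.2, hy1', ?_⟩, ?_, rfl⟩
      · intro h5
        rw [h5] at h4
        have h6 : sp (Subgroup.centralizer (T : Set H)) (0 : V) ≤ ⊥ := by
          apply sp_le
          · intro d _ w hw
            rw [AddSubgroup.mem_bot] at hw ⊢
            rw [hw, smul_zero]
          · exact AddSubgroup.zero_mem _
        exact hcb' ((AddSubgroup.mem_bot).1 (h6 h4))
      · rw [smul_add, hyv, hyB b hb]
      · rw [hsum]
        exact hSS.sup hB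
    have h5 := hPmax hmem (hP ▸ hPle)
    apply hBP
    rw [← hP]
    exact hBle'.trans h5

end Cfsg.Agent.H387.LinMain
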