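import Mathlib
import Cfsg.Agent.H387.SpTwoStep
import Cfsg.Agent.H408.BaseSp
import Cfsg.Agent.H969.SpGood

/-!
# `PSp_{2m}(q)`, own characteristic (S3608), all `q` (helper387)

* `good_sp_two` : `Good 2 (Sp_{2m}(2))`, `m ≥ 3`;
* `good_psp_all` : `Good p (PSp_{2m}(q))`, `m ≥ 2`, except `PSp_4(2)` and `PSp_4(3)`.
-/

set_option autoImplicit false
open Cfsg
open Cfsg.Agent.H408.Core Cfsg.Agent.H969.SpStep Cfsg.Agent.H969.SpBase Cfsg.Agent.H969.SpGood

namespace Cfsg.Agent.H387.SpTwoGood

variable (T : Cfsg.Agent.OrdDiv.OrderTable.{0})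
  (hS : ∀ (X : Type) [Group X] [Finite X] [IsSimpleGroup X], IsKnownSimple' X)
  {F : Type} [Field F] [Fintype F]

include T hS

theorem good_sp_two (hF : Fintype.card F = 2) (j : ℕ) : Good 2 (Matrix.symplecticGroup (Fin (3 + j)) F) := by
  have h2 := SpTwoStep.add_self (F := F) (by rw [Nat.card_eq_fintype_card, hF])
  have : CharP F 2 := by
    refine CharTwo.of_one_ne_zero_of_two_eq_zero one_ne_zero ?_
    have := h2 1
    rw [← this]; norm_num
  induction j with
  | zero => exact good_sp_of_psp Nat.prime_two (by norm_num) (Cfsg.Agent.H408.BaseSp.sp62 T hS hF)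
  | succ j ih =>
    exact SpTwoStep.good_succ_two (n := 3 + j) (by omega) (by rw [Nat.card_eq_fintype_card, hF]) ih

theorem good_psp_two (hF : Fintype.card F = 2) {m : ℕ} (hm : 3 ≤ m) : Good 2 (PSp m F) := by
  obtain ⟨j, rfl⟩ : ∃ j, m = 3 + j := ⟨m - 3, by omega⟩
  exact (good_sp_two T hS hF j).of_surjective
    (QuotientGroup.mk' (Subgroup.center (Matrix.symplecticGroup (Fin (3 + j)) F)))
    (QuotientGroup.mk'_surjective _)

/-- **own characteristic, all `q`** -/
theorem good_psp_all {p : ℕ} (hp : p.Prime) [CharP F p] {m : ℕ} (hm : 2 ≤ m) (h2 : m = 2 → Fintype.card F ≠ 2)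
    (h3 : m = 2 → Fintype.card F ≠ 3) : Good p (PSp m F) := by
  have key : ∀ r : ℕ, r.Prime → Fintype.card F = r → p = r := by
    intro r hr h
    have h1 := FiniteField.cast_card_eq_zero F
    rw [h] at h1
    exact (Nat.prime_dvd_prime_iff_eq hp hr).1 ((CharP.cast_eq_zero_iff F p r).1 h1)
  by_cases hq2 : Fintype.card F = 2
  · obtain rfl := key 2 Nat.prime_two hq2
    refine good_psp_two T hS hq2 ?_
    by_contra hcon
    exact h2 (by omega) hq2
  by_cases hq3 : Fintype.card F = 3
  · obtain rfl := key 3 Nat.prime_three hq3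
    have hm3 : 3 ≤ m := by
      by_contra hcon
      exact h3 (by omega) hq3
    exact good_all' hp (by rw [Nat.card_eq_fintype_card, hq3]) (by norm_num) (Cfsg.Agent.H408.BaseSp.sp63 T hS hq3) hm3
  by_cases hq5 : Fintype.card F = 5
  · obtain rfl := key 5 Nat.prime_five hq5
    exact good_all' hp (by rw [Nat.card_eq_fintype_card, hq5]; norm_num) (by norm_num)
      (Cfsg.Agent.H408.BaseSp.sp45 T hS hq5) hm
  exact good_psp hp hm (by rwa [Nat.card_eq_fintype_card]) (by rwa [Nat.card_eq_fintype_card])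
    (by rwa [Nat.card_eq_fintype_card])

end Cfsg.Agent.H387.SpTwoGood
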