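import Mathlib

/-!
# Arithmetic: degree a power of `p` (helper387, HUB H1)
-/

set_option autoImplicit false

namespace Cfsg.Agent.H387.TwoSpPPArith

theorem aux {Y s R q l : ℤ} (hq : 2 ≤ q) (hl : 1 ≤ l) (hlq : l ≤ q) (hs : 1 ≤ s) (hY : q * q * q ≤ Y) (hR : Y ≤ R)
    (e : (Y * s - 1) * R = (Y * q - 1) * (l - 1)) : False := by
  have hqq : 0 < q * q := mul_pos (by omega) (by omega)
  have hY1 : q * q * 2 ≤ q * q * q := mul_le_mul_of_nonneg_left hq hqq.le
  have hY0 : 0 < Y := by omega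
  have a1 : Y * 1 ≤ Y * s := mul_le_mul_of_nonneg_left hs hY0.le
  have h1 : (Y - 1) * Y ≤ (Y * s - 1) * R := mul_le_mul (by omega) hR (by omega) (by omega)
  have a2 : 0 ≤ Y * q := (mul_pos hY0 (by omega)).le
  have h2 : (Y * q - 1) * (l - 1) ≤ (Y * q) * (q - 1) := mul_le_mul (by omega) (by omega) (by omega) a2
  have h3 : (Y - 1) * Y ≤ (q * q - q) * Y := by
    calc (Y - 1) * Y ≤ (Y * q) * (q - 1) := (h1.trans_eq e).trans h2
      _ = _ := by ring
  have h4 : Y - 1 ≤ q * q - q := le_of_mul_le_mul_right h3 hY0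
  omega

set_option maxHeartbeats 1000000 in
theorem pp_arith {p f q k n N m l ρ : ℕ} (hp : p.Prime) (hf : 1 ≤ f) (hqf : q = p ^ f) (hm : 2 ≤ m)
    (hn : n = p ^ k) (hN : N * (q - 1) = q ^ (2 * m) - 1) (hρ : (n - 1) * ρ = N * (l - 1))
    (hl : 1 < l) (hlq : l ≤ q) (hmin : q ^ (2 * m - 1) ≤ n) : n = q ^ (2 * m) ∧ l = q ∧ ρ = 1 := by
  have hq2 : 2 ≤ q := by
    rw [hqf]
    exact hp.two_le.trans (Nat.le_self_pow (by omega) p)
  obtain ⟨Y, hY⟩ : ∃ Y, Y = q ^ (2 * m - 1) := ⟨_, rfl⟩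
  have hYq : q ^ (2 * m) = Y * q := by
    rw [hY, ← pow_succ]
    congr 1
    omega
  have hY8 : q * q * q ≤ Y := by
    calc q * q * q = q ^ 3 := by ring
      _ ≤ q ^ (2 * m - 1) := Nat.pow_le_pow_right (by omega) (by omega)
      _ = Y := hY.symm
  -- `n = Y s`
  have hk : f * (2 * m - 1) ≤ k := by
    rw [hqf, ← pow_mul, hn] at hmin
    exact (Nat.pow_le_pow_iff_right hp.one_lt).1 hmin
  obtain ⟨s, hs⟩ : ∃ s, n = Y * s := by
    refine ⟨p ^ (k - f * (2 * m - 1)), ?_⟩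
    rw [hn, hY, hqf, ← pow_mul, ← pow_add]
    congr 1
    omega
  have hs1 : 1 ≤ s := by
    rcases Nat.eq_zero_or_pos s with h0 | h0
    · rw [h0, mul_zero] at hs
      have := pow_pos hp.pos k
      omega
    · exact h0
  rw [hYq] at hN ⊢
  -- integers
  have hYpos : 8 ≤ Y := by nlinarith
  have e1 : (Y * s - 1 : ℤ) * (ρ * (q - 1)) = (Y * q - 1) * (l - 1) := by
    have a1 : ((N : ℤ)) * (q - 1) = Y * q - 1 := by
      have h1 : 1 ≤ q := by omega
      have h2 : 1 ≤ Y * q := by nlinarith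
      have := congrArg (Nat.cast : ℕ → ℤ) hN
      push_cast [h1, h2] at this
      exact this
    have a2 : ((Y * s - 1 : ℤ)) * ρ = N * (l - 1) := by
      have h1 : 1 ≤ n := by rw [hs]; nlinarith
      have h2 : 1 ≤ l := by omega
      have := congrArg (Nat.cast : ℕ → ℤ) hρ
      push_cast [h1, h2] at this
      rw [hs] at this
      push_cast at this
      exact this
    linear_combination (q - 1 : ℤ) * a2 + (l - 1 : ℤ) * a1
  obtain ⟨R, hR⟩ : ∃ R : ℤ, R = ρ * (q - 1) := ⟨_, rfl⟩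
  rw [← hR] at e1
  have hq2z : (2 : ℤ) ≤ q := by exact_mod_cast hq2
  have hlz : (1 : ℤ) < l := by exact_mod_cast hl
  have hlqz : (l : ℤ) ≤ q := by exact_mod_cast hlq
  have hs1z : (1 : ℤ) ≤ s := by exact_mod_cast hs1
  have hY8z : (q * q * q : ℤ) ≤ Y := by exact_mod_cast hY8
  have hYz : (8 : ℤ) ≤ Y := by exact_mod_cast hYpos
  have hρ1 : (1 : ℤ) ≤ ρ := by
    rcases Nat.eq_zero_or_pos ρ with h0 | h0
    · exfalso
      rw [hR, h0] at e1
      have : (0 : ℤ) < (Y * q - 1) * (l - 1) := mul_pos (by nlinarith) (by omega)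
      push_cast at e1
      nlinarith
    · exact_mod_cast h0
  have hRl : (l : ℤ) - 1 ≤ R := by
    rw [hR]
    have : (1 : ℤ) * (q - 1) ≤ ρ * (q - 1) := mul_le_mul_of_nonneg_right hρ1 (by omega)
    omega
  -- `R < Y`
  have hRY : R < Y := by
    by_contra hcon
    push Not at hcon
    exact aux hq2z (by omega) hlqz hs1z hY8z hcon e1
  have hdvd : (Y : ℤ) ∣ R - (l - 1) := ⟨s * R - q * (l - 1), by linear_combination -e1⟩
  have hRe : R - (l - 1) = 0 := by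
    apply Int.eq_zero_of_abs_lt_dvd hdvd
    rw [abs_lt]
    constructor <;> omega
  have hR1 : R = l - 1 := by omega
  have hρe : (ρ : ℤ) = 1 := by
    by_contra hne
    have h2 : (2 : ℤ) ≤ ρ := by omega
    have : (2 : ℤ) * (q - 1) ≤ ρ * (q - 1) := mul_le_mul_of_nonneg_right h2 (by omega)
    omega
  have hle : (l : ℤ) = q := by
    rw [hρe, one_mul] at hR
    omega
  refine ⟨?_, by exact_mod_cast hle, by exact_mod_cast hρe⟩
  rw [hs]
  congr 1
  have h6 : (Y * s - 1 : ℤ) = Y * q - 1 := by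
    rw [hR1] at e1
    exact mul_right_cancel₀ (by omega) e1
  have h7 : (Y : ℤ) * s = Y * q := by omega
  have h8 : (s : ℤ) = q := mul_left_cancel₀ (by omega) h7
  exact_mod_cast h8

/-- a power of `p` that is at least `N = (q^(2m) - 1) / (q - 1)` -/
theorem le_of_N {q m n N : ℕ} (hq : 2 ≤ q) (hm : 1 ≤ m) (hN : N * (q - 1) = q ^ (2 * m) - 1) (h : N ≤ n) :
    q ^ (2 * m - 1) ≤ n := by
  refine le_trans ?_ h
  have h1 : q ^ (2 * m - 1) * (q - 1) ≤ N * (q - 1) := by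
    rw [hN, Nat.mul_sub, mul_one, ← pow_succ, show 2 * m - 1 + 1 = 2 * m by omega]
    have := Nat.one_le_pow (2 * m - 1) q (by omega)
    omega
  exact Nat.le_of_mul_le_mul_right h1 (by omega)

/-- a power of two that is at least `2^(m-1) (2^m - 1)` -/
theorem le_of_two {m k : ℕ} (hm : 2 ≤ m) (h : 2 ^ (m - 1) * (2 ^ m - 1) ≤ 2 ^ k) : 2 ^ (2 * m - 1) ≤ 2 ^ k := by
  apply Nat.pow_le_pow_right (by norm_num)
  by_contra hcon
  have h1 : 2 ^ k ≤ 2 ^ (2 * m - 2) := Nat.pow_le_pow_right (by norm_num) (by omega)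
  have h2 : 2 ^ (m - 1) * 2 ^ (m - 1) = 2 ^ (2 * m - 2) := by
    rw [← pow_add]; congr 1; omega
  have h3 : 2 ^ m = 2 * 2 ^ (m - 1) := by
    rw [← pow_succ']; congr 1; omega
  have h4 : 2 ≤ 2 ^ (m - 1) := by
    calc 2 = 2 ^ 1 := rfl
      _ ≤ _ := Nat.pow_le_pow_right (by norm_num) (by omega)
  have h5 : 2 ^ (m - 1) < 2 ^ m - 1 := by omega
  have h6 : 2 ^ (m - 1) * 2 ^ (m - 1) < 2 ^ (m - 1) * (2 ^ m - 1) :=
    Nat.mul_lt_mul_of_pos_left h5 (by omega)
  omega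

end Cfsg.Agent.H387.TwoSpPPArith
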